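import Groth.Prelude.Def_CGrpSh2
import Groth.Agent.Etcore.Yext
import Groth.Agent.CohtopA.CechInj
import Groth.Agent.MiscA.CurveH1Delta
import Mathlib.RingTheory.Flat.Equalizer
import Mathlib.RingTheory.Flat.TorsionFree

/-!
# `H^1(S, 𝓗om(F, M))` injects into `Ext^1(F, M)` (helper772)

* `extend`: a morphism `K ⟶ 𝓗om(F, I)`, `I` injective, extends along a monomorphism `K ⟶ P` whose
  presheaf cokernel is torsion free.
* `ext_one_homSh_injective`: `Ext^1(A, 𝓗om(F, I)) = 0` if the sections of `A` are torsion free, `I` injective.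
* `subsingleton_H_one`: `Ext^1(F, M) = 0` implies `H^1(𝓗om(F, M)) = 0` (site with a final object).
-/

set_option autoImplicit false
universe u

open CategoryTheory Limits Opposite Abelian

namespace K772.DualExt

/-! ### Presheaf tensor product -/

section Tensor

open scoped TensorProduct

variable {C : Type (u + 1)} [Category.{u} C]

/-- The tensor product of two presheaves of abelian groups. -/
noncomputable def tens (K F : Cᵒᵖ ⥤ AddCommGrpCat.{u + 1}) : Cᵒᵖ ⥤ AddCommGrpCat.{u + 1} where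
  obj V := AddCommGrpCat.of (TensorProduct ℤ (K.obj V) (F.obj V))
  map f := AddCommGrpCat.ofHom
    (TensorProduct.map (K.map f).hom.toIntLinearMap (F.map f).hom.toIntLinearMap).toAddMonoidHom
  map_id V := by
    refine AddCommGrpCat.ext fun x => ?_
    induction x using TensorProduct.induction_on with
    | zero => exact (map_zero _).trans (map_zero _).symm
    | tmul a b =>
      change (K.map (𝟙 V)) a ⊗ₜ[ℤ] (F.map (𝟙 V)) b = a ⊗ₜ[ℤ] b
      rw [K.map_id, F.map_id]
      rfl
    | add x y hx hy => exact (map_add _ _ _).trans ((congrArg₂ (· + ·) hx hy).trans (map_add _ _ _).symm)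
  map_comp f g := by
    refine AddCommGrpCat.ext fun x => ?_
    induction x using TensorProduct.induction_on with
    | zero => exact (map_zero _).trans (map_zero _).symm
    | tmul a b =>
      change (K.map (f ≫ g)) a ⊗ₜ[ℤ] (F.map (f ≫ g)) b = (K.map g) ((K.map f) a) ⊗ₜ[ℤ] (F.map g) ((F.map f) b)
      rw [K.map_comp, F.map_comp]
      rfl
    | add x y hx hy => exact (map_add _ _ _).trans ((congrArg₂ (· + ·) hx hy).trans (map_add _ _ _).symm)

/-- Pure tensors. -/
def t {K F : Cᵒᵖ ⥤ AddCommGrpCat.{u + 1}} {V : Cᵒᵖ} (a : K.obj V) (b : F.obj V) : (tens K F).obj V :=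
  (a ⊗ₜ[ℤ] b : TensorProduct ℤ (K.obj V) (F.obj V))

theorem t_zero_left {K F : Cᵒᵖ ⥤ AddCommGrpCat.{u + 1}} {V : Cᵒᵖ} (b : F.obj V) : t (0 : K.obj V) b = 0 :=
  TensorProduct.zero_tmul _ _

theorem t_zero_right {K F : Cᵒᵖ ⥤ AddCommGrpCat.{u + 1}} {V : Cᵒᵖ} (a : K.obj V) : t a (0 : F.obj V) = 0 :=
  TensorProduct.tmul_zero _ _

theorem t_add_left {K F : Cᵒᵖ ⥤ AddCommGrpCat.{u + 1}} {V : Cᵒᵖ} (a a' : K.obj V) (b : F.obj V) :
    t (a + a') b = t a b + t a' b :=
  TensorProduct.add_tmul _ _ _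

theorem t_add_right {K F : Cᵒᵖ ⥤ AddCommGrpCat.{u + 1}} {V : Cᵒᵖ} (a : K.obj V) (b b' : F.obj V) :
    t a (b + b') = t a b + t a b' :=
  TensorProduct.tmul_add _ _ _

theorem t_induction {K F : Cᵒᵖ ⥤ AddCommGrpCat.{u + 1}} {V : Cᵒᵖ} {motive : (tens K F).obj V → Prop}
    (x : (tens K F).obj V) (h0 : motive 0) (h1 : ∀ a b, motive (t a b))
    (h2 : ∀ x y, motive x → motive y → motive (x + y)) : motive x :=
  TensorProduct.induction_on x h0 h1 h2

theorem tens_map_t {K F : Cᵒᵖ ⥤ AddCommGrpCat.{u + 1}} {V W : Cᵒᵖ} (f : V ⟶ W) (a : K.obj V) (b : F.obj V) :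
    (tens K F).map f (t a b) = t (K.map f a) (F.map f b) := rfl

/-- Functoriality in the first variable. -/
noncomputable def tensMap {K K' : Cᵒᵖ ⥤ AddCommGrpCat.{u + 1}} (φ : K ⟶ K') (F : Cᵒᵖ ⥤ AddCommGrpCat.{u + 1}) :
    tens K F ⟶ tens K' F where
  app V := AddCommGrpCat.ofHom (LinearMap.rTensor (F.obj V) (φ.app V).hom.toIntLinearMap).toAddMonoidHom
  naturality V W f := by
    refine AddCommGrpCat.ext fun x => ?_
    induction x using t_induction with
    | h0 => exact (map_zero _).trans (map_zero _).symm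
    | h1 a b =>
      change t (φ.app W (K.map f a)) (F.map f b) = t (K'.map f (φ.app V a)) (F.map f b)
      rw [NatTrans.naturality_apply]
    | h2 x y hx hy => exact (map_add _ _ _).trans ((congrArg₂ (· + ·) hx hy).trans (map_add _ _ _).symm)

theorem tensMap_app_t {K K' F : Cᵒᵖ ⥤ AddCommGrpCat.{u + 1}} (φ : K ⟶ K') {V : Cᵒᵖ} (a : K.obj V) (b : F.obj V) :
    (tensMap φ F).app V (t a b) = t (φ.app V a) b := rfl

/-- Injectivity of `K ⊗ F → P ⊗ F` when `P / K` is torsion free. -/
theorem rTensor_injective {A B F : Type*} [AddCommGroup A] [AddCommGroup B] [AddCommGroup F] (i : A →ₗ[ℤ] B)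
    (hi : Function.Injective i) (h : ∀ (n : ℤ) (b : B), n ≠ 0 → n • b ∈ LinearMap.range i → b ∈ LinearMap.range i) :
    Function.Injective (i.rTensor F) := by
  have ht : Module.IsTorsionFree ℤ (B ⧸ LinearMap.range i) := by
    rw [Module.isTorsionFree_iff_smul_eq_zero]
    intro n x hx
    obtain ⟨b, rfl⟩ := Submodule.Quotient.mk_surjective _ x
    by_cases hn : n = 0
    · exact Or.inl hn
    · refine Or.inr ((Submodule.Quotient.mk_eq_zero _).2 (h n b hn ?_))
      rwa [← Submodule.Quotient.mk_smul, Submodule.Quotient.mk_eq_zero] at hx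
  have hf : Module.Flat ℤ (B ⧸ LinearMap.range i) := inferInstance
  have h1 := LinearMap.lTensor_injective_of_exact_of_flat (LinearMap.range i).mkQ (Submodule.mkQ_surjective _) i hi
    (by rw [LinearMap.exact_iff, Submodule.ker_mkQ]) F
  exact (LinearMap.lTensor_inj_iff_rTensor_inj _ _).1 h1

theorem mono_tensMap {K P F : Cᵒᵖ ⥤ AddCommGrpCat.{u + 1}} (i : K ⟶ P)
    (hi : ∀ V, Function.Injective (i.app V))
    (h : ∀ (V : Cᵒᵖ) (n : ℤ) (b : P.obj V), n ≠ 0 → (∃ a, i.app V a = n • b) → ∃ a, i.app V a = b) :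
    Mono (tensMap i F) := by
  have : ∀ V, Mono ((tensMap i F).app V) := fun V => by
    rw [AddCommGrpCat.mono_iff_injective]
    exact rTensor_injective (i.app V).hom.toIntLinearMap (hi V) (fun n b hn hb => h V n b hn hb)
  exact NatTrans.mono_of_mono_app _

/-- The bilinear map of a morphism of presheaves on a tensor product. -/
noncomputable def pairOf {K F M : Cᵒᵖ ⥤ AddCommGrpCat.{u + 1}}
    (b : ∀ V : Cᵒᵖ, K.obj V →+ F.obj V →+ M.obj V)
    (hb : ∀ {V W : Cᵒᵖ} (f : V ⟶ W) (x : K.obj V) (y : F.obj V), b W (K.map f x) (F.map f y) = M.map f (b V x y)) :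
    tens K F ⟶ M where
  app V := AddCommGrpCat.ofHom (TensorProduct.liftAddHom (b V) (fun r x y => by simp))
  naturality V W f := by
    refine AddCommGrpCat.ext fun x => ?_
    induction x using t_induction with
    | h0 => exact (map_zero _).trans (map_zero _).symm
    | h1 x y => exact hb f x y
    | h2 x y hx hy => exact (map_add _ _ _).trans ((congrArg₂ (· + ·) hx hy).trans (map_add _ _ _).symm)

theorem pairOf_app_t {K F M : Cᵒᵖ ⥤ AddCommGrpCat.{u + 1}}
    (b : ∀ V : Cᵒᵖ, K.obj V →+ F.obj V →+ M.obj V)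
    (hb : ∀ {V W : Cᵒᵖ} (f : V ⟶ W) (x : K.obj V) (y : F.obj V), b W (K.map f x) (F.map f y) = M.map f (b V x y))
    (V : Cᵒᵖ) (x : K.obj V) (y : F.obj V) : (pairOf b hb).app V (t x y) = b V x y := rfl

end Tensor

/-! ### The extension property of `𝓗om(F, I)` -/

section Extend

variable {C : Type (u + 1)} [Category.{u} C] {J : GrothendieckTopology C}

/-- The component of a morphism over `V` at `f : W ⟶ V`. -/
def comp {F I : Sheaf J AddCommGrpCat.{u + 1}} {V W : C} (φ : F.over V ⟶ I.over V) (f : W ⟶ V) :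
    F.obj.obj (op W) →+ I.obj.obj (op W) :=
  (φ.hom.app (op (Over.mk f))).hom

theorem comp_congr {F I : Sheaf J AddCommGrpCat.{u + 1}} {V W : C} (φ : F.over V ⟶ I.over V) {f g : W ⟶ V}
    (h : f = g) (y : F.obj.obj (op W)) : comp φ f y = comp φ g y := by rw [h]

/-- Restriction of a section of the internal Hom. -/
noncomputable def res {F I : Sheaf J AddCommGrpCat.{u + 1}} {V W : C} (φ : F.over V ⟶ I.over V) (f : W ⟶ V) :
    F.over W ⟶ I.over W :=
  (HomSh.homSh J F I).obj.map f.op φ

theorem comp_res {F I : Sheaf J AddCommGrpCat.{u + 1}} {V W Z : C} (φ : F.over V ⟶ I.over V) (f : W ⟶ V)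
    (g : Z ⟶ W) : comp (res φ f) g = comp φ (g ≫ f) := rfl

theorem comp_map {F I : Sheaf J AddCommGrpCat.{u + 1}} {V W Z : C} (φ : F.over V ⟶ I.over V) (f : W ⟶ V)
    (g : Z ⟶ W) (y : F.obj.obj (op W)) :
    comp φ (g ≫ f) (F.obj.map g.op y) = I.obj.map g.op (comp φ f y) :=
  ConcreteCategory.congr_hom
    (φ.hom.naturality (Over.homMk g (by simp) : Over.mk (g ≫ f) ⟶ Over.mk f).op) y

/-- Construction of a morphism over `V` from its components. -/
def mkHom {F I : Sheaf J AddCommGrpCat.{u + 1}} {V : C} (c : ∀ (W : C) (_ : W ⟶ V), F.obj.obj (op W) →+ I.obj.obj (op W))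
    (hc : ∀ (W Z : C) (f : W ⟶ V) (g : Z ⟶ W) (y : F.obj.obj (op W)),
      c Z (g ≫ f) (F.obj.map g.op y) = I.obj.map g.op (c W f y)) : F.over V ⟶ I.over V where
  hom :=
    { app := fun U => AddCommGrpCat.ofHom (c U.unop.left U.unop.hom)
      naturality := fun U U' g => by
        refine AddCommGrpCat.ext fun y => ?_
        have h := hc U.unop.left U'.unop.left U.unop.hom g.unop.left y
        refine Eq.trans ?_ h
        change c U'.unop.left U'.unop.hom (F.obj.map g.unop.left.op y) =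
          c U'.unop.left (g.unop.left ≫ U.unop.hom) (F.obj.map g.unop.left.op y)
        rw [Over.w g.unop] }

theorem comp_mkHom {F I : Sheaf J AddCommGrpCat.{u + 1}} {V : C}
    (c : ∀ (W : C) (_ : W ⟶ V), F.obj.obj (op W) →+ I.obj.obj (op W))
    (hc : ∀ (W Z : C) (f : W ⟶ V) (g : Z ⟶ W) (y : F.obj.obj (op W)),
      c Z (g ≫ f) (F.obj.map g.op y) = I.obj.map g.op (c W f y)) {W : C} (f : W ⟶ V) :
    comp (mkHom c hc) f = c W f := rfl

theorem over_hom_ext {F I : Sheaf J AddCommGrpCat.{u + 1}} {V : C} {a b : F.over V ⟶ I.over V}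
    (h : ∀ (W : C) (f : W ⟶ V) (y : F.obj.obj (op W)), comp a f y = comp b f y) : a = b :=
  Sheaf.hom_ext (NatTrans.ext (funext fun U => AddCommGrpCat.ext fun y => h U.unop.left U.unop.hom y))

/-- The value of a morphism of sheaves to the internal Hom, as a morphism over `V`. -/
noncomputable def val {K F I : Sheaf J AddCommGrpCat.{u + 1}} (φ : K ⟶ HomSh.homSh J F I) {V : C} (k : K.obj.obj (op V)) :
    F.over V ⟶ I.over V := φ.hom.app (op V) k

theorem val_map {K F I : Sheaf J AddCommGrpCat.{u + 1}} (φ : K ⟶ HomSh.homSh J F I) {V W : C} (f : W ⟶ V)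
    (k : K.obj.obj (op V)) : val φ (K.obj.map f.op k) = res (val φ k) f :=
  ConcreteCategory.congr_hom (φ.hom.naturality f.op) k

theorem val_add {K F I : Sheaf J AddCommGrpCat.{u + 1}} (φ : K ⟶ HomSh.homSh J F I) {V : C}
    (k k' : K.obj.obj (op V)) : val φ (k + k') = val φ k + val φ k' := map_add (φ.hom.app (op V)).hom k k'

theorem val_zero {K F I : Sheaf J AddCommGrpCat.{u + 1}} (φ : K ⟶ HomSh.homSh J F I) {V : C} :
    val φ (0 : K.obj.obj (op V)) = 0 := map_zero (φ.hom.app (op V)).hom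

theorem comp_add {F I : Sheaf J AddCommGrpCat.{u + 1}} {V W : C} (φ ψ : F.over V ⟶ I.over V) (f : W ⟶ V)
    (y : F.obj.obj (op W)) : comp (φ + ψ) f y = comp φ f y + comp ψ f y := rfl

theorem comp_zero {F I : Sheaf J AddCommGrpCat.{u + 1}} {V W : C} (f : W ⟶ V)
    (y : F.obj.obj (op W)) : comp (0 : F.over V ⟶ I.over V) f y = 0 := rfl

/-- The morphism to the internal Hom given by a family of sections. -/
noncomputable def mkVal {K F I : Sheaf J AddCommGrpCat.{u + 1}} (v : ∀ (V : C) (_ : K.obj.obj (op V)), F.over V ⟶ I.over V)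
    (hadd : ∀ (V : C) (k k' : K.obj.obj (op V)), v V (k + k') = v V k + v V k')
    (hmap : ∀ (V W : C) (f : W ⟶ V) (k : K.obj.obj (op V)), v W (K.obj.map f.op k) = res (v V k) f) :
    K ⟶ HomSh.homSh J F I where
  hom :=
    { app := fun V => AddCommGrpCat.ofHom
        (AddMonoidHom.mk' (fun k => v V.unop k) (fun k k' => hadd V.unop k k') :
          K.obj.obj V →+ (F.over V.unop ⟶ I.over V.unop))
      naturality := fun V W f => AddCommGrpCat.ext fun k => hmap V.unop W.unop f.unop k }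

theorem val_mkVal {K F I : Sheaf J AddCommGrpCat.{u + 1}} (v : ∀ (V : C) (_ : K.obj.obj (op V)), F.over V ⟶ I.over V)
    (hadd : ∀ (V : C) (k k' : K.obj.obj (op V)), v V (k + k') = v V k + v V k')
    (hmap : ∀ (V W : C) (f : W ⟶ V) (k : K.obj.obj (op V)), v W (K.obj.map f.op k) = res (v V k) f)
    {V : C} (k : K.obj.obj (op V)) : val (mkVal v hadd hmap) k = v V k := rfl

theorem hom_ext_val {K F I : Sheaf J AddCommGrpCat.{u + 1}} {φ ψ : K ⟶ HomSh.homSh J F I}
    (h : ∀ (V : C) (k : K.obj.obj (op V)), val φ k = val ψ k) : φ = ψ :=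
  Sheaf.hom_ext (NatTrans.ext (funext fun V => AddCommGrpCat.ext fun k => h V.unop k))

/-- The pairing attached to a morphism to the internal Hom. -/
noncomputable def pairing {K F I : Sheaf J AddCommGrpCat.{u + 1}} (φ : K ⟶ HomSh.homSh J F I) :
    tens K.obj F.obj ⟶ I.obj :=
  pairOf (fun V => AddMonoidHom.mk' (fun k => comp (val φ (V := V.unop) k) (𝟙 _)) (fun k k' => by
      ext y
      rw [val_add]
      rfl))
    (fun {V W} f x y => by
      change comp (val φ (V := W.unop) (K.obj.map f x)) (𝟙 _) (F.obj.map f y) =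
        I.obj.map f (comp (val φ (V := V.unop) x) (𝟙 _) y)
      have h1 : val φ (V := W.unop) (K.obj.map f x) = res (val φ (V := V.unop) x) f.unop := val_map φ f.unop x
      rw [h1, comp_res]
      refine Eq.trans ?_ (comp_map (val φ (V := V.unop) x) (𝟙 _) f.unop y)
      refine comp_congr _ ?_ _
      simp)

theorem pairing_app_t {K F I : Sheaf J AddCommGrpCat.{u + 1}} (φ : K ⟶ HomSh.homSh J F I) (V : Cᵒᵖ)
    (k : K.obj.obj V) (y : F.obj.obj V) :
    (pairing φ).app V (t k y) = comp (val φ (V := V.unop) k) (𝟙 _) y := rfl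

/-- The morphism to the internal Hom attached to a pairing. -/
noncomputable def ofPairing {P F I : Sheaf J AddCommGrpCat.{u + 1}} (ψ : tens P.obj F.obj ⟶ I.obj) :
    P ⟶ HomSh.homSh J F I :=
  mkVal (fun V p => mkHom
      (fun W f => AddMonoidHom.mk' (fun y => ψ.app (op W) (t (P.obj.map f.op p) y))
        (fun y y' => by rw [t_add_right, map_add]))
      (fun W Z f g y => by
        change ψ.app (op Z) (t (P.obj.map (g ≫ f).op p) (F.obj.map g.op y)) =
          I.obj.map g.op (ψ.app (op W) (t (P.obj.map f.op p) y))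
        rw [← NatTrans.naturality_apply, tens_map_t, op_comp, P.obj.map_comp]
        rfl))
    (fun V k k' => over_hom_ext fun W f y => by
      rw [comp_add, comp_mkHom, comp_mkHom, comp_mkHom]
      change ψ.app (op W) (t (P.obj.map f.op (k + k')) y) =
        ψ.app (op W) (t (P.obj.map f.op k) y) + ψ.app (op W) (t (P.obj.map f.op k') y)
      rw [map_add, t_add_left, map_add])
    (fun V W f k => over_hom_ext fun Z g y => by
      rw [comp_res, comp_mkHom, comp_mkHom]
      change ψ.app (op Z) (t (P.obj.map g.op (P.obj.map f.op k)) y) = ψ.app (op Z) (t (P.obj.map (g ≫ f).op k) y)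
      rw [op_comp, P.obj.map_comp]
      rfl)

theorem comp_val_ofPairing {P F I : Sheaf J AddCommGrpCat.{u + 1}} (ψ : tens P.obj F.obj ⟶ I.obj) {V W : C}
    (p : P.obj.obj (op V)) (f : W ⟶ V) (y : F.obj.obj (op W)) :
    comp (val (ofPairing ψ) p) f y = ψ.app (op W) (t (P.obj.map f.op p) y) := rfl

/-- **Extension property**: morphisms to `𝓗om(F, I)`, `I` injective, extend along monomorphisms with torsion
free presheaf cokernel. -/
theorem extend [HasSheafify J AddCommGrpCat.{u + 1}] {K P F I : Sheaf J AddCommGrpCat.{u + 1}} [Injective I]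
    (i : K ⟶ P) (hi : ∀ V, Function.Injective (i.hom.app V))
    (h : ∀ (V : Cᵒᵖ) (n : ℤ) (b : P.obj.obj V), n ≠ 0 → (∃ a, i.hom.app V a = n • b) → ∃ a, i.hom.app V a = b)
    (φ : K ⟶ HomSh.homSh J F I) : ∃ ψ : P ⟶ HomSh.homSh J F I, i ≫ ψ = φ := by
  have hI : Injective I.obj := Groth.Agent.CohtopA.CechInj.injective_presheaf_of_injective_sheaf I
  have hm : Mono (tensMap i.hom F.obj) := mono_tensMap i.hom hi h
  let ψ := Injective.factorThru (pairing φ) (tensMap i.hom F.obj)
  have hψ : tensMap i.hom F.obj ≫ ψ = pairing φ := Injective.comp_factorThru _ _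
  refine ⟨ofPairing ψ, hom_ext_val fun V k => over_hom_ext fun W f y => ?_⟩
  change comp (val (ofPairing ψ) (i.hom.app (op V) k)) f y = _
  rw [comp_val_ofPairing, ← NatTrans.naturality_apply, ← tensMap_app_t]
  have h1 : ψ.app (op W) ((tensMap i.hom F.obj).app (op W) (t (K.obj.map f.op k) y)) =
      (pairing φ).app (op W) (t (K.obj.map f.op k) y) := by
    rw [← hψ]
    rfl
  rw [h1, pairing_app_t]
  change comp (val φ (K.obj.map f.op k)) (𝟙 _) y = _
  rw [val_map, comp_res]
  exact comp_congr _ (Category.id_comp _) _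

end Extend

/-! ### Sections and exactness -/

section Exact

variable {C : Type (u + 1)} [Category.{u} C] {J : GrothendieckTopology C} [HasSheafify J AddCommGrpCat.{u + 1}]

omit [HasSheafify J AddCommGrpCat.{u + 1}] in
theorem injective_of_mono {A B : Sheaf J AddCommGrpCat.{u + 1}} (φ : A ⟶ B) [Mono φ] (V : Cᵒᵖ) :
    Function.Injective (φ.hom.app V) := by
  have h1 : Mono ((sheafToPresheaf J AddCommGrpCat.{u + 1}).map φ) := inferInstance
  have h2 := (NatTrans.mono_iff_mono_app _).1 h1 V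
  exact (AddCommGrpCat.mono_iff_injective _).1 h2

theorem exists_of_exact {S : ShortComplex (Sheaf J AddCommGrpCat.{u + 1})} (hS : S.Exact) [Mono S.f] {V : Cᵒᵖ}
    (x : S.X₂.obj.obj V) (hx : S.g.hom.app V x = 0) : ∃ a, S.f.hom.app V a = x := by
  let F := sheafToPresheaf J AddCommGrpCat.{u + 1} ⋙ (evaluation _ _).obj V
  have h1 : (S.map F).Exact := hS.map_of_mono_of_preservesKernel F inferInstance inferInstance
  exact (ShortComplex.ab_exact_iff _).1 h1 x hx

omit [HasSheafify J AddCommGrpCat.{u + 1}] in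
theorem zsmul_app {A B : Sheaf J AddCommGrpCat.{u + 1}} (φ : A ⟶ B) (n : ℤ) (V : Cᵒᵖ) (x : A.obj.obj V) :
    (n • φ).hom.app V x = n • φ.hom.app V x := by
  have h1 : (n • φ).hom.app V = n • φ.hom.app V :=
    (sheafToPresheaf J AddCommGrpCat.{u + 1} ⋙ (evaluation _ _).obj V).map_zsmul (f := φ) (r := n)
  rw [h1]
  rfl

/-- The sections of the constant sheaf `ℤ` are torsion free. -/
theorem const_torsionFree (V : Cᵒᵖ) (n : ℤ) (hn : n ≠ 0)
    (s : ((constantSheaf J AddCommGrpCat.{u + 1}).obj (AddCommGrpCat.of (ULift.{u + 1} ℤ))).obj.obj V)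
    (h : n • s = 0) : s = 0 := by
  have hm : Mono (n • 𝟙 (AddCommGrpCat.of (ULift.{u + 1} ℤ))) := by
    rw [AddCommGrpCat.mono_iff_injective]
    intro a b hab
    have h1 : n • a = n • b := hab
    have h2 : n * a.down = n * b.down := congrArg ULift.down h1
    exact ULift.ext _ _ (mul_left_cancel₀ hn h2)
  have hm2 : Mono ((constantSheaf J AddCommGrpCat.{u + 1}).map (n • 𝟙 (AddCommGrpCat.of (ULift.{u + 1} ℤ)))) := by
    have h1 : Mono ((Functor.const Cᵒᵖ).map (n • 𝟙 (AddCommGrpCat.of (ULift.{u + 1} ℤ)))) := inferInstance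
    exact inferInstanceAs (Mono ((presheafToSheaf J AddCommGrpCat.{u + 1}).map
      ((Functor.const Cᵒᵖ).map (n • 𝟙 (AddCommGrpCat.of (ULift.{u + 1} ℤ))))))
  rw [Functor.map_zsmul, CategoryTheory.Functor.map_id] at hm2
  refine injective_of_mono (n • 𝟙 ((constantSheaf J AddCommGrpCat.{u + 1}).obj
    (AddCommGrpCat.of (ULift.{u + 1} ℤ)))) V ?_
  rw [map_zero, zsmul_app]
  exact h

variable {F M : Sheaf J AddCommGrpCat.{u + 1}}

/-- A morphism over `V` killed by the quotient map factors through the kernel. -/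
theorem exists_factor {S : ShortComplex (Sheaf J AddCommGrpCat.{u + 1})} (hS : S.Exact) [Mono S.f] {V : C}
    (φ : F.over V ⟶ S.X₂.over V)
    (h : ∀ (W : C) (f : W ⟶ V) (y : F.obj.obj (op W)), S.g.hom.app (op W) (comp φ f y) = 0) :
    ∃ ψ : F.over V ⟶ S.X₁.over V, ∀ (W : C) (f : W ⟶ V) (y : F.obj.obj (op W)),
      S.f.hom.app (op W) (comp ψ f y) = comp φ f y := by
  choose a ha using fun (W : C) (f : W ⟶ V) (y : F.obj.obj (op W)) => exists_of_exact hS _ (h W f y)
  refine ⟨mkHom (fun W f => AddMonoidHom.mk' (a W f) (fun y y' => injective_of_mono S.f _ ?_))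
    (fun W Z f g y => injective_of_mono S.f _ ?_), fun W f y => ha W f y⟩
  · rw [map_add, ha, ha, ha, map_add]
  · change S.f.hom.app (op Z) (a Z (g ≫ f) (F.obj.map g.op y)) = S.f.hom.app (op Z) (S.X₁.obj.map g.op (a W f y))
    rw [ha, NatTrans.naturality_apply, ha, comp_map]

/-- Post-composition on internal Homs. -/
noncomputable def post (F : Sheaf J AddCommGrpCat.{u + 1}) {A B : Sheaf J AddCommGrpCat.{u + 1}} (g : A ⟶ B) :
    HomSh.homSh J F A ⟶ HomSh.homSh J F B := (HomSh.homShFunctor J F).map g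

omit [HasSheafify J AddCommGrpCat.{u + 1}] in
theorem comp_val_post {A B : Sheaf J AddCommGrpCat.{u + 1}} (g : A ⟶ B) {V W : C} (k : F.over V ⟶ A.over V)
    (f : W ⟶ V) (y : F.obj.obj (op W)) :
    comp (val (post F g) (V := V) k) f y = g.hom.app (op W) (comp k f y) := rfl

omit [HasSheafify J AddCommGrpCat.{u + 1}] in
theorem val_comp_post {K A B : Sheaf J AddCommGrpCat.{u + 1}} (t : K ⟶ HomSh.homSh J F A) (g : A ⟶ B) {V : C}
    (k : K.obj.obj (op V)) : val (t ≫ post F g) k = val (post F g) (V := V) (val t k) := rfl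

omit [HasSheafify J AddCommGrpCat.{u + 1}] in
theorem mono_of_injective {A B : Sheaf J AddCommGrpCat.{u + 1}} (φ : A ⟶ B)
    (h : ∀ V : Cᵒᵖ, Function.Injective (φ.hom.app V)) : Mono φ := by
  have : Mono ((sheafToPresheaf J AddCommGrpCat.{u + 1}).map φ) := by
    have : ∀ V, Mono (((sheafToPresheaf J AddCommGrpCat.{u + 1}).map φ).app V) := fun V =>
      (AddCommGrpCat.mono_iff_injective _).2 (h V)
    exact NatTrans.mono_of_mono_app _
  exact (sheafToPresheaf J AddCommGrpCat.{u + 1}).mono_of_mono_map this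

omit [HasSheafify J AddCommGrpCat.{u + 1}] in
instance mono_post {A B : Sheaf J AddCommGrpCat.{u + 1}} (g : A ⟶ B) [Mono g] : Mono (post F g) := by
  refine mono_of_injective _ fun V k k' hk => ?_
  refine over_hom_ext fun W f y => injective_of_mono g _ ?_
  have h1 := congrArg (fun φ : F.over V.unop ⟶ B.over V.unop => comp φ f y) hk
  exact h1

/-- Left exactness of the internal Hom. -/
theorem exists_lift_post {S : ShortComplex (Sheaf J AddCommGrpCat.{u + 1})} (hS : S.Exact) [Mono S.f]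
    {K : Sheaf J AddCommGrpCat.{u + 1}} (t : K ⟶ HomSh.homSh J F S.X₂) (ht : t ≫ post F S.g = 0) :
    ∃ t' : K ⟶ HomSh.homSh J F S.X₁, t' ≫ post F S.f = t := by
  have h0 : ∀ (V : C) (k : K.obj.obj (op V)) (W : C) (f : W ⟶ V) (y : F.obj.obj (op W)),
      S.g.hom.app (op W) (comp (val t k) f y) = 0 := by
    intro V k W f y
    rw [← comp_val_post, ← val_comp_post, ht]
    rfl
  choose ψ hψ using fun (V : C) (k : K.obj.obj (op V)) => exists_factor hS (val t k) (h0 V k)
  refine ⟨mkVal ψ (fun V k k' => over_hom_ext fun W f y => injective_of_mono S.f _ ?_)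
    (fun V W f k => over_hom_ext fun Z g y => injective_of_mono S.f _ ?_), hom_ext_val fun V k =>
      over_hom_ext fun W f y => ?_⟩
  · rw [hψ, val_add, comp_add, comp_add, map_add, hψ, hψ]
  · rw [hψ, val_map, comp_res, comp_res, hψ]
  · rw [val_comp_post, comp_val_post, val_mkVal, hψ]

omit [HasSheafify J AddCommGrpCat.{u + 1}] in
theorem post_zero {S : ShortComplex (Sheaf J AddCommGrpCat.{u + 1})} : post F S.f ≫ post F S.g = 0 := by
  refine hom_ext_val fun V k => over_hom_ext fun W f y => ?_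
  rw [val_comp_post, comp_val_post]
  change S.g.hom.app (op W) (S.f.hom.app (op W) (comp (V := V) k f y)) = 0
  have h1 : (S.f ≫ S.g).hom.app (op W) (comp (V := V) k f y) = 0 := by rw [S.zero]; rfl
  exact h1

theorem exact_post {S : ShortComplex (Sheaf J AddCommGrpCat.{u + 1})} (hS : S.Exact) [Mono S.f] :
    (ShortComplex.mk (post F S.f) (post F S.g) post_zero).Exact := by
  refine ShortComplex.exact_of_f_is_kernel _ (KernelFork.IsLimit.ofι' _ _ (fun {T} t ht => ?_))
  have h := exists_lift_post hS t ht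
  exact ⟨h.choose, h.choose_spec⟩

end Exact

/-! ### The main theorem -/

section Main

variable {C : Type (u + 1)} [Category.{u} C] {J : GrothendieckTopology C} [HasSheafify J AddCommGrpCat.{u + 1}]
  [EnoughInjectives (Sheaf J AddCommGrpCat.{u + 1})] [HasExt.{u + 1} (Sheaf J AddCommGrpCat.{u + 1})]

/-- `Ext^1(A, 𝓗om(F, I)) = 0` for `A` with torsion free sections and `I` injective. -/
theorem subsingleton_ext_one (A F I : Sheaf J AddCommGrpCat.{u + 1}) [Injective I]
    (hA : ∀ (V : Cᵒᵖ) (n : ℤ) (s : A.obj.obj V), n ≠ 0 → n • s = 0 → s = 0) :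
    Subsingleton (Ext.{u + 1} A (HomSh.homSh J F I) 1) := by
  refine subsingleton_of_forall_eq 0 fun x => ?_
  obtain ⟨E, i, p, w, hS, rfl⟩ := Groth.Agent.Etcore.Yext.exists_extClass x
  have := hS.mono_f
  obtain ⟨r, hr⟩ := extend (K := HomSh.homSh J F I) (P := E) (F := F) (I := I) i (injective_of_mono i)
    (fun V n b hn ⟨a, ha⟩ => exists_of_exact hS.exact b (hA V n _ hn (by
      have h1 : p.hom.app V (i.hom.app V a) = 0 := by
        have h2 : (i ≫ p).hom.app V a = 0 := by rw [w]; rfl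
        exact h2
      rw [ha, map_zsmul] at h1
      exact h1))) (𝟙 _)
  have h := hS.extClass_comp
  have h2 : (hS.extClass.comp (Ext.mk₀ i) (add_zero 1)).comp (Ext.mk₀ r) (add_zero 1) = 0 := by
    rw [h, Ext.zero_comp]
  rw [Ext.comp_assoc_of_second_deg_zero, Ext.mk₀_comp_mk₀, hr, Ext.comp_mk₀_id] at h2
  exact h2

/-- `H^1(𝓗om(F, I)) = 0` for `I` injective. -/
theorem subsingleton_H_one_of_injective (F I : Sheaf J AddCommGrpCat.{u + 1}) [Injective I] :
    Subsingleton (Sheaf.H.{u + 1} (HomSh.homSh J F I) 1) :=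
  subsingleton_ext_one _ F I (fun V n s hn hs => const_torsionFree V n hn s hs)

omit [HasSheafify J AddCommGrpCat.{u + 1}] [EnoughInjectives (Sheaf J AddCommGrpCat.{u + 1})]
  [HasExt.{u + 1} (Sheaf J AddCommGrpCat.{u + 1})] in
/-- The restriction of a morphism of sheaves. -/
theorem comp_over {F M : Sheaf J AddCommGrpCat.{u + 1}} (a : F ⟶ M) {V W : C} (f : W ⟶ V) (y : F.obj.obj (op W)) :
    comp ((J.overPullback _ V).map a) f y = a.hom.app (op W) y := rfl

/-- **`Ext^1(F, M) = 0` implies `H^1(𝓗om(F, M)) = 0`** (site with a final object). -/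
theorem subsingleton_H_one (F M : Sheaf J AddCommGrpCat.{u + 1}) {T : C} (hT : IsTerminal T)
    [hE : Subsingleton (Ext.{u + 1} F M 1)] : Subsingleton (Sheaf.H.{u + 1} (HomSh.homSh J F M) 1) := by
  let ip : InjectivePresentation M := Classical.arbitrary _
  let S : ShortComplex (Sheaf J AddCommGrpCat.{u + 1}) :=
    ShortComplex.mk ip.f (cokernel.π ip.f) (cokernel.condition ip.f)
  have hS : S.ShortExact := { exact := ShortComplex.exact_cokernel ip.f }
  have hI : Injective S.X₂ := ip.injective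
  have := hS.mono_f
  have := hS.epi_g
  have w : post F S.f ≫ Abelian.factorThruImage (post F S.g) = 0 := by
    rw [← cancel_mono (Abelian.image.ι (post F S.g)), Category.assoc, Abelian.image.fac, zero_comp, post_zero]
  let S' : ShortComplex (Sheaf J AddCommGrpCat.{u + 1}) :=
    ShortComplex.mk (post F S.f) (Abelian.factorThruImage (post F S.g)) w
  have hex : S'.Exact := by
    let ψ : S' ⟶ ShortComplex.mk (post F S.f) (post F S.g) post_zero :=
      { τ₁ := 𝟙 _
        τ₂ := 𝟙 _
        τ₃ := Abelian.image.ι (post F S.g)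
        comm₁₂ := by simp [S']
        comm₂₃ := by
          change 𝟙 _ ≫ post F S.g = Abelian.factorThruImage (post F S.g) ≫ Abelian.image.ι (post F S.g)
          rw [Category.id_comp, Abelian.image.fac] }
    have h1 : Epi ψ.τ₁ := inferInstanceAs (Epi (𝟙 _))
    have h2 : IsIso ψ.τ₂ := inferInstanceAs (IsIso (𝟙 _))
    have h3 : Mono ψ.τ₃ := inferInstanceAs (Mono (Abelian.image.ι (post F S.g)))
    exact (ShortComplex.exact_iff_of_epi_of_isIso_of_mono ψ).2 (exact_post hS.exact)
  have hS' : S'.ShortExact :=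
    { exact := hex
      mono_f := inferInstanceAs (Mono (post F S.f))
      epi_g := inferInstanceAs (Epi (Abelian.factorThruImage (post F S.g))) }
  have hz : Subsingleton (Sheaf.H.{u + 1} S'.X₂ 1) := subsingleton_H_one_of_injective F S.X₂
  refine subsingleton_of_forall_eq 0 fun x => ?_
  obtain ⟨q, hq⟩ := Groth.Agent.MiscA.CurveH1.delta_surjective hT S' hS' x
  rw [← hq, Groth.Agent.MiscA.CurveH1.delta_eq_zero_iff]
  -- the section of `𝓗om(F, Q)` given by `q`
  let k : F.over T ⟶ S.X₃.over T := (Abelian.image.ι (post F S.g)).hom.app (op T) q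
  let κ : F ⟶ S.X₃ :=
    ⟨{ app := fun V => AddCommGrpCat.ofHom (comp k (hT.from V.unop))
       naturality := fun V W f => AddCommGrpCat.ext fun y => by
         change comp k (hT.from W.unop) (F.obj.map f y) = S.X₃.obj.map f (comp k (hT.from V.unop) y)
         refine Eq.trans ?_ (comp_map k (hT.from V.unop) f.unop y)
         exact comp_congr k (hT.hom_ext _ _) _ }⟩
  have hκ : (Ext.mk₀ κ).comp hS.extClass (zero_add 1) = 0 := Subsingleton.elim (α := Ext.{u + 1} F M 1) _ _
  obtain ⟨j₀, hj₀⟩ := Ext.covariant_sequence_exact₃ F hS (Ext.mk₀ κ) (zero_add 1) hκ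
  obtain ⟨j, rfl⟩ := (Ext.mk₀_bijective _ _).2 j₀
  have hj : j ≫ S.g = κ := by
    rw [Ext.mk₀_comp_mk₀] at hj₀
    exact (Ext.mk₀_bijective _ _).1 hj₀
  refine ⟨((J.overPullback _ T).map j : F.over T ⟶ S.X₂.over T), injective_of_mono (Abelian.image.ι (post F S.g)) _ ?_⟩
  change (Abelian.factorThruImage (post F S.g) ≫ Abelian.image.ι (post F S.g)).hom.app (op T)
    ((J.overPullback _ T).map j : F.over T ⟶ S.X₂.over T) = k
  rw [Abelian.image.fac]
  refine over_hom_ext fun W f y => ?_
  change S.g.hom.app (op W) (j.hom.app (op W) y) = comp k f y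
  have h1 : (j ≫ S.g).hom.app (op W) y = κ.hom.app (op W) y := by rw [hj]
  refine h1.trans ?_
  exact comp_congr k (hT.hom_ext _ _) _

end Main

end K772.DualExt
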