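import Groth.Agent.FlatA.FiniteFreeSplit
import Mathlib.RingTheory.AdjoinRoot
import Mathlib.RingTheory.Flat.FaithfullyFlat.Basic
import Mathlib.RingTheory.FinitePresentation

/-!
# Adjoining finitely many `n`-th roots (helper772)

`exists_roots`: for a finite set `F` of elements of `R` there is a faithfully flat finitely presented `R`-algebra in
which all elements of `F` are `n`-th powers.
-/

set_option autoImplicit false
universe u
open Polynomial

namespace K772.Roots

/-- One root. -/
theorem exists_root (n : ℕ) (hn : n ≠ 0) (R : Type u) [CommRing R] (a : R) :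
    ∃ (R' : Type u) (_ : CommRing R') (_ : Algebra R R') (_ : Module.FaithfullyFlat R R')
      (_ : Algebra.FinitePresentation R R'), ∃ s : R', s ^ n = algebraMap R R' a := by
  rcases subsingleton_or_nontrivial R with h | h
  · exact ⟨R, inferInstance, inferInstance, inferInstance, inferInstance, 0, Subsingleton.elim _ _⟩
  · have hmon : (X ^ n - C a : R[X]).Monic := monic_X_pow_sub_C a hn
    have hff : Module.FaithfullyFlat R (AdjoinRoot (X ^ n - C a : R[X])) :=
      Groth.Agent.FlatA.FiniteFreeSplit.faithfullyFlat_adjoinRoot hmon (by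
        intro h1
        have h2 := natDegree_X_pow_sub_C (n := n) (r := a)
        rw [h1, natDegree_one] at h2
        exact hn h2.symm)
    refine ⟨AdjoinRoot (X ^ n - C a : R[X]), inferInstance, inferInstance, hff, inferInstance,
      AdjoinRoot.root _, ?_⟩
    have h2 := AdjoinRoot.eval₂_root (X ^ n - C a : R[X])
    rwa [eval₂_sub, eval₂_pow, eval₂_X, eval₂_C, sub_eq_zero] at h2

/-- Finitely many roots. -/
theorem exists_roots (n : ℕ) (hn : n ≠ 0) (R : Type u) [CommRing R] (F : Finset R) :
    ∃ (R' : Type u) (_ : CommRing R') (_ : Algebra R R') (_ : Module.FaithfullyFlat R R')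
      (_ : Algebra.FinitePresentation R R'), ∀ a ∈ F, ∃ s : R', s ^ n = algebraMap R R' a := by
  classical
  induction F using Finset.induction_on with
  | empty => exact ⟨R, inferInstance, inferInstance, inferInstance, inferInstance, fun a ha => by simp at ha⟩
  | insert a F _ ih =>
    obtain ⟨R₁, _, _, _, _, h₁⟩ := ih
    obtain ⟨R₂, _, _, _, _, s, hs⟩ := exists_root n hn R₁ (algebraMap R R₁ a)
    let _ : Algebra R R₂ := ((algebraMap R₁ R₂).comp (algebraMap R R₁)).toAlgebra
    have : IsScalarTower R R₁ R₂ := IsScalarTower.of_algebraMap_eq fun _ => rfl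
    refine ⟨R₂, inferInstance, inferInstance, Module.FaithfullyFlat.trans R R₁ R₂,
      Algebra.FinitePresentation.trans R R₁ R₂, fun b hb => ?_⟩
    rcases Finset.mem_insert.1 hb with rfl | hb
    · exact ⟨s, hs⟩
    · obtain ⟨t, ht⟩ := h₁ b hb
      exact ⟨algebraMap R₁ R₂ t, by rw [← map_pow, ht]; rfl⟩

end K772.Roots
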