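import Groth.Agent.GaDual.K770.Split
import Groth.Agent.GaDual.K772.Roots
import Mathlib.RingTheory.Flat.FaithfullyFlat.Algebra
import Mathlib.RingTheory.Noetherian.Nilpotent

/-!
# Splitting multiplicative symmetric cocycles over a finite extension (helper772)

`exists_cover`: over any ring `R` of characteristic `p` a multiplicative symmetric 2-cocycle `h ∈ 1 + I[X,Y]`,
`I` nilpotent, becomes a coboundary over a faithfully flat finitely presented `R`-algebra. (Finite level version of
`K770.Split`, by helper770.)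
-/

set_option autoImplicit false
universe u

namespace K772.CocLoc

open K770.Coeff K770.Char K770.Comb K770.Coc3 K770.Cocycle K770.Form K770.KeyE K770.Split

variable {p : ℕ} [hp : Fact p.Prime] {R : Type u} [CommRing R]

/-- The cocycle modulo `I²` in normal form. -/
theorem exists_form_lift [CharP R p] {I : Ideal R} (hI : IsNilpotent I)
    (F : MvPolynomial (Fin 2) R) (hFI : F ∈ IP (Fin 2) I)
    (hsymm : MvPolynomial.aeval ![(MvPolynomial.X 1 : MvPolynomial (Fin 2) R), MvPolynomial.X 0] F = F)
    (hcoc : MvPolynomial.aeval ![(MvPolynomial.X 1 : MvPolynomial (Fin 3) R), MvPolynomial.X 2] (1 + F) *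
        MvPolynomial.aeval ![MvPolynomial.X 0, MvPolynomial.X 1 + MvPolynomial.X 2] (1 + F) =
      MvPolynomial.aeval ![MvPolynomial.X 0 + MvPolynomial.X 1, MvPolynomial.X 2] (1 + F) *
        MvPolynomial.aeval ![MvPolynomial.X 0, MvPolynomial.X 1] (1 + F)) :
    ∃ (G : Polynomial R) (N : ℕ) (r : ℕ → R), (∀ n, G.coeff n ∈ I) ∧ (∀ i, r i ∈ I) ∧
      F - form p G N r ∈ IP (Fin 2) (I ^ 2) := by
  obtain ⟨n, hn⟩ := hI
  have hnil : ∀ x ∈ I, IsNilpotent x := fun x hx => ⟨n, by
    have := Ideal.pow_mem_pow hx n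
    rw [hn] at this
    exact this⟩
  have : Nontrivial R := CharP.nontrivial_of_char_ne_one (v := p) hp.out.ne_one
  have hne : I ^ 2 ≠ ⊤ := by
    intro h
    have h1 : I = ⊤ := top_le_iff.1 (h ▸ Ideal.pow_le_self two_ne_zero)
    rw [h1, Ideal.top_pow] at hn
    exact top_ne_bot hn
  have : Nontrivial (R ⧸ I ^ 2) := Ideal.Quotient.nontrivial_iff.2 hne
  have : CharP (R ⧸ I ^ 2) p := charP_quot _
  set π := Ideal.Quotient.mk (I ^ 2) with hπ
  have hkill : ∀ {σ : Type} (P : MvPolynomial σ R), P ∈ IP σ (I ^ 2) → MvPolynomial.map π P = 0 := by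
    intro σ P hP
    have := Ideal.mem_map_of_mem (MvPolynomial.map π) hP
    rw [Ideal.map_map] at this
    have h2 : Ideal.map ((MvPolynomial.map π).comp MvPolynomial.C : R →+* MvPolynomial σ (R ⧸ I ^ 2)) (I ^ 2) = ⊥ := by
      rw [eq_bot_iff, Ideal.map_le_iff_le_comap]
      intro x hx
      rw [Ideal.mem_comap, RingHom.comp_apply, MvPolynomial.map_C, Ideal.Quotient.eq_zero_iff_mem.2 hx, map_zero]
      exact Ideal.zero_mem _
    rw [h2] at this
    exact this
  have hmem : ∀ {σ : Type} (P : MvPolynomial σ R), MvPolynomial.map π P = 0 → P ∈ IP σ (I ^ 2) := by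
    intro σ P hP
    rw [IP, MvPolynomial.mem_map_C_iff]
    intro m
    have := congrArg (MvPolynomial.coeff m) hP
    rw [MvPolynomial.coeff_map, MvPolynomial.coeff_zero] at this
    exact Ideal.Quotient.eq_zero_iff_mem.1 this
  -- additive cocycle modulo `I^2`
  have hcoc' : MvPolynomial.aeval ![MvPolynomial.X 0, MvPolynomial.X 1 + MvPolynomial.X 2] (MvPolynomial.map π F)
          + MvPolynomial.aeval ![MvPolynomial.X 1, MvPolynomial.X 2] (MvPolynomial.map π F)
          - MvPolynomial.aeval ![MvPolynomial.X 0 + MvPolynomial.X 1, MvPolynomial.X 2] (MvPolynomial.map π F)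
          - MvPolynomial.aeval ![MvPolynomial.X 0, MvPolynomial.X 1] (MvPolynomial.map π F) =
            (0 : MvPolynomial (Fin 3) (R ⧸ I ^ 2)) := by
    have e1 := map_aeval π (MvPolynomial.X 0 : MvPolynomial (Fin 3) R) (MvPolynomial.X 1 + MvPolynomial.X 2) F
    have e2 := map_aeval π (MvPolynomial.X 1 : MvPolynomial (Fin 3) R) (MvPolynomial.X 2) F
    have e3 := map_aeval π (MvPolynomial.X 0 + MvPolynomial.X 1 : MvPolynomial (Fin 3) R) (MvPolynomial.X 2) F
    have e4 := map_aeval π (MvPolynomial.X 0 : MvPolynomial (Fin 3) R) (MvPolynomial.X 1) F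
    simp only [map_add, MvPolynomial.map_X] at e1 e2 e3 e4
    rw [← e1, ← e2, ← e3, ← e4, ← map_add, ← map_sub, ← map_sub]
    apply hkill
    have m1 := aeval_mem_IP hFI (MvPolynomial.X 0 : MvPolynomial (Fin 3) R) (MvPolynomial.X 1 + MvPolynomial.X 2)
    have m2 := aeval_mem_IP hFI (MvPolynomial.X 1 : MvPolynomial (Fin 3) R) (MvPolynomial.X 2)
    have m3 := aeval_mem_IP hFI (MvPolynomial.X 0 + MvPolynomial.X 1 : MvPolynomial (Fin 3) R) (MvPolynomial.X 2)
    have m4 := aeval_mem_IP hFI (MvPolynomial.X 0 : MvPolynomial (Fin 3) R) (MvPolynomial.X 1)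
    rw [map_add, map_add, map_add, map_add, map_one, map_one, map_one, map_one] at hcoc
    generalize MvPolynomial.aeval ![(MvPolynomial.X 0 : MvPolynomial (Fin 3) R),
      MvPolynomial.X 1 + MvPolynomial.X 2] F = a at *
    generalize MvPolynomial.aeval ![(MvPolynomial.X 1 : MvPolynomial (Fin 3) R), MvPolynomial.X 2] F = b at *
    generalize MvPolynomial.aeval ![(MvPolynomial.X 0 + MvPolynomial.X 1 : MvPolynomial (Fin 3) R),
      MvPolynomial.X 2] F = c at *
    generalize MvPolynomial.aeval ![(MvPolynomial.X 0 : MvPolynomial (Fin 3) R), MvPolynomial.X 1] F = d at *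
    have key : a + b - c - d = c * d - b * a := by linear_combination hcoc
    rw [key, IP, pow_two, Ideal.map_mul]
    exact Ideal.sub_mem _ (Ideal.mul_mem_mul m3 m4) (Ideal.mul_mem_mul m2 m1)
  have hsymm' : MvPolynomial.aeval ![(MvPolynomial.X 1 : MvPolynomial (Fin 2) (R ⧸ I ^ 2)), MvPolynomial.X 0]
      (MvPolynomial.map π F) = MvPolynomial.map π F := by
    have e1 := map_aeval π (MvPolynomial.X 1 : MvPolynomial (Fin 2) R) (MvPolynomial.X 0) F
    simp only [MvPolynomial.map_X] at e1
    rw [← e1, hsymm]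
  obtain ⟨G', N, r', hform, hJ⟩ := exists_form (p := p) (MvPolynomial.map π F) hsymm' hcoc'
  obtain ⟨hG'J, hr'J⟩ := hJ (I.map π) (by
    intro m
    rw [MvPolynomial.coeff_map]
    exact Ideal.mem_map_of_mem _ (MvPolynomial.mem_map_C_iff.1 hFI m))
  -- lifts
  have hsurj : Function.Surjective π := Ideal.Quotient.mk_surjective
  have hlift : ∀ x ∈ I.map π, ∃ y ∈ I, π y = x := fun x hx => (Ideal.mem_map_iff_of_surjective π hsurj).1 hx
  choose r hrI hr using fun i => hlift _ (hr'J i)
  choose g hgI hg using fun i => hlift _ (hG'J i)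
  set G : Polynomial R := ∑ i ∈ Finset.range (G'.natDegree + 1), Polynomial.monomial i (g i) with hG
  have hGc : ∀ n, G.coeff n ∈ I := by
    intro n
    rw [hG, Polynomial.finsetSum_coeff]
    refine Ideal.sum_mem _ fun i _ => ?_
    rw [Polynomial.coeff_monomial]
    split_ifs
    · exact hgI _
    · exact I.zero_mem
  have hGm : G.map π = G' := by
    rw [hG, Polynomial.map_sum]
    conv_rhs => rw [Polynomial.as_sum_range G']
    refine Finset.sum_congr rfl fun i _ => ?_
    rw [Polynomial.map_monomial, hg]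
  have hFform : F - form p G N r ∈ IP (Fin 2) (I ^ 2) := by
    apply hmem
    rw [map_sub, map_form, hGm, sub_eq_zero]
    rw [hform]
    simp only [hr]
    rfl
  exact ⟨G, N, r, hGc, hrI, hFform⟩

theorem IP_map {R' : Type u} [CommRing R'] (φ : R →+* R') {σ : Type} {I : Ideal R} {P : MvPolynomial σ R}
    (hP : P ∈ IP σ I) : MvPolynomial.map φ P ∈ IP σ (I.map φ) := by
  have h := Ideal.mem_map_of_mem (MvPolynomial.map φ) hP
  rw [Ideal.map_map] at h
  rw [IP, Ideal.map_map]
  have h2 : (MvPolynomial.map φ).comp (MvPolynomial.C : R →+* MvPolynomial σ R) = MvPolynomial.C.comp φ := by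
    ext a
    simp
  rwa [h2] at h

omit hp in
theorem charP_of_ff [CharP R p] (R' : Type u) [CommRing R'] [Algebra R R'] [Module.FaithfullyFlat R R'] :
    CharP R' p := charP_of_injective_algebraMap (FaithfulSMul.algebraMap_injective R R') p

/-- Killing the cocycle modulo `I²` over a finite extension. -/
theorem exists_U [CharP R p] {I : Ideal R} (hI : IsNilpotent I)
    (F : MvPolynomial (Fin 2) R) (hFI : F ∈ IP (Fin 2) I)
    (hsymm : MvPolynomial.aeval ![(MvPolynomial.X 1 : MvPolynomial (Fin 2) R), MvPolynomial.X 0] F = F)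
    (hcoc : MvPolynomial.aeval ![(MvPolynomial.X 1 : MvPolynomial (Fin 3) R), MvPolynomial.X 2] (1 + F) *
        MvPolynomial.aeval ![MvPolynomial.X 0, MvPolynomial.X 1 + MvPolynomial.X 2] (1 + F) =
      MvPolynomial.aeval ![MvPolynomial.X 0 + MvPolynomial.X 1, MvPolynomial.X 2] (1 + F) *
        MvPolynomial.aeval ![MvPolynomial.X 0, MvPolynomial.X 1] (1 + F)) :
    ∃ (R' : Type u) (_ : CommRing R') (_ : Algebra R R') (_ : Module.FaithfullyFlat R R')
      (_ : Algebra.FinitePresentation R R') (U : Polynomial R'), IsUnit U ∧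
        Cob (I.map (algebraMap R R')) U (MvPolynomial.map (algebraMap R R') F) := by
  classical
  obtain ⟨G₀, N, r, hG₀, hr, hform⟩ := exists_form_lift hI F hFI hsymm hcoc
  obtain ⟨R', _, _, _, _, hroot⟩ := Roots.exists_roots p hp.out.ne_zero R ((Finset.range N).image r)
  refine ⟨R', inferInstance, inferInstance, inferInstance, inferInstance, ?_⟩
  have : CharP R' p := charP_of_ff (R := R) R'
  have hs0 : ∀ i, ∃ s : R', s ^ p = if i < N then algebraMap R R' (r i) else 0 := by
    intro i
    split_ifs with h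
    · exact hroot (r i) (Finset.mem_image_of_mem _ (Finset.mem_range.2 h))
    · exact ⟨0, zero_pow hp.out.ne_zero⟩
  choose s hs using hs0
  let J : Ideal R' := I.map (algebraMap R R')
  have hnil : ∀ x ∈ J, IsNilpotent x := by
    obtain ⟨n, hn⟩ := hI
    intro x hx
    refine ⟨n, ?_⟩
    have h1 := Ideal.pow_mem_pow hx n
    have h2 : J ^ n = ⊥ := by
      rw [← Ideal.map_pow, hn]
      exact Ideal.map_bot
    rw [h2] at h1
    exact h1
  have hsJ : ∀ i, s i ^ p ∈ J := by
    intro i
    rw [hs]
    split_ifs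
    · exact Ideal.mem_map_of_mem _ (hr i)
    · exact J.zero_mem
  have hsnil : ∀ i, IsNilpotent (s i) := fun i =>
    (IsNilpotent.pow_iff_pos hp.out.ne_zero).1 (hnil _ (hsJ i))
  let G : Polynomial R' := G₀.map (algebraMap R R')
  have hGc : ∀ n, G.coeff n ∈ J := fun n => by
    rw [Polynomial.coeff_map]
    exact Ideal.mem_map_of_mem _ (hG₀ n)
  choose u hu huC using fun i => exists_AH (p := p) (I := J) (s := s i) (hsJ i) (hsnil i) i
  refine ⟨(1 + G) * ∏ i ∈ Finset.range N, u i, ?_, ?_⟩
  · refine IsUnit.mul ?_ (IsUnit.prod_iff.2 fun i _ => hu i)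
    have : IsNilpotent G := Polynomial.isNilpotent_iff.2 fun i => hnil _ (hGc i)
    exact this.isUnit_one_add
  · have h1 := Cob.oneAdd hGc
    have hSI : ∀ i, MvPolynomial.C (s i ^ p) *
                MvPolynomial.aeval ![(MvPolynomial.X 0 : MvPolynomial (Fin 2) R') ^ p ^ i, MvPolynomial.X 1 ^ p ^ i]
                  (S p R') ∈ IP (Fin 2) J := fun i =>
      Ideal.mul_mem_right _ _ (Ideal.mem_map_of_mem _ (hsJ i))
    have h2 := Cob.prod (N := N) huC hSI
    have h3 := h1.mul h2 (Ideal.sub_mem _ (Ideal.sub_mem _ (paeval_mem_IP hGc _) (paeval_mem_IP hGc _))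
      (paeval_mem_IP hGc _)) (Ideal.sum_mem _ fun i _ => hSI i)
    have h4 : (Polynomial.aeval (MvPolynomial.X 0 + MvPolynomial.X 1 : MvPolynomial (Fin 2) R') G
              - Polynomial.aeval (MvPolynomial.X 0 : MvPolynomial (Fin 2) R') G
              - Polynomial.aeval (MvPolynomial.X 1 : MvPolynomial (Fin 2) R') G) +
        ∑ i ∈ Finset.range N, MvPolynomial.C (s i ^ p) *
                MvPolynomial.aeval ![(MvPolynomial.X 0 : MvPolynomial (Fin 2) R') ^ p ^ i, MvPolynomial.X 1 ^ p ^ i]
                  (S p R') = form p G N (fun i => algebraMap R R' (r i)) := by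
      rw [form]
      congr 1
      refine Finset.sum_congr rfl fun i hi => ?_
      rw [hs, if_pos (Finset.mem_range.1 hi)]
    rw [h4] at h3
    rw [Cob] at h3 ⊢
    have h6 := IP_map (algebraMap R R') hform
    rw [map_sub, map_form, Ideal.map_pow] at h6
    have h5 : ∀ A B : MvPolynomial (Fin 2) R', A - B * (1 + MvPolynomial.map (algebraMap R R') F) =
        (A - B * (1 + form p G N (fun i => algebraMap R R' (r i)))) -
        B * (MvPolynomial.map (algebraMap R R') F - form p G N (fun i => algebraMap R R' (r i))) := by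
      intro A B
      ring
    rw [h5]
    exact Ideal.sub_mem _ h3 (Ideal.mul_mem_left _ _ h6)

section maps

variable {R' : Type u} [CommRing R'] (φ : R →+* R')

theorem map_symm {h : MvPolynomial (Fin 2) R}
    (hsymm : MvPolynomial.aeval ![(MvPolynomial.X 1 : MvPolynomial (Fin 2) R), MvPolynomial.X 0] h = h) :
    MvPolynomial.aeval ![(MvPolynomial.X 1 : MvPolynomial (Fin 2) R'), MvPolynomial.X 0] (MvPolynomial.map φ h) =
      MvPolynomial.map φ h := by
  have h1 := map_aeval φ (MvPolynomial.X 1 : MvPolynomial (Fin 2) R) (MvPolynomial.X 0) h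
  rw [MvPolynomial.map_X, MvPolynomial.map_X] at h1
  rw [← h1, hsymm]

theorem map_coc {h : MvPolynomial (Fin 2) R}
    (hcoc : MvPolynomial.aeval ![(MvPolynomial.X 1 : MvPolynomial (Fin 3) R), MvPolynomial.X 2] h *
        MvPolynomial.aeval ![MvPolynomial.X 0, MvPolynomial.X 1 + MvPolynomial.X 2] h =
      MvPolynomial.aeval ![MvPolynomial.X 0 + MvPolynomial.X 1, MvPolynomial.X 2] h *
        MvPolynomial.aeval ![MvPolynomial.X 0, MvPolynomial.X 1] h) :
    MvPolynomial.aeval ![(MvPolynomial.X 1 : MvPolynomial (Fin 3) R'), MvPolynomial.X 2] (MvPolynomial.map φ h) *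
        MvPolynomial.aeval ![MvPolynomial.X 0, MvPolynomial.X 1 + MvPolynomial.X 2] (MvPolynomial.map φ h) =
      MvPolynomial.aeval ![MvPolynomial.X 0 + MvPolynomial.X 1, MvPolynomial.X 2] (MvPolynomial.map φ h) *
        MvPolynomial.aeval ![MvPolynomial.X 0, MvPolynomial.X 1] (MvPolynomial.map φ h) := by
  have h1 := map_aeval φ (MvPolynomial.X 1 : MvPolynomial (Fin 3) R) (MvPolynomial.X 2) h
  have h2 := map_aeval φ (MvPolynomial.X 0 : MvPolynomial (Fin 3) R) (MvPolynomial.X 1 + MvPolynomial.X 2) h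
  have h3 := map_aeval φ (MvPolynomial.X 0 + MvPolynomial.X 1 : MvPolynomial (Fin 3) R) (MvPolynomial.X 2) h
  have h4 := map_aeval φ (MvPolynomial.X 0 : MvPolynomial (Fin 3) R) (MvPolynomial.X 1) h
  simp only [map_add, MvPolynomial.map_X] at h1 h2 h3 h4
  rw [← h1, ← h2, ← h3, ← h4, ← map_mul, ← map_mul, hcoc]

end maps

/-- Multiplicative symmetric cocycles congruent to `1` modulo a nilpotent ideal are coboundaries over a faithfully
flat finitely presented extension. -/
theorem exists_cover (n : ℕ) : ∀ (R : Type u) [CommRing R] [CharP R p] (I : Ideal R), I ^ 2 ^ n = ⊥ →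
    ∀ (h : MvPolynomial (Fin 2) R), h - 1 ∈ IP (Fin 2) I →
    MvPolynomial.aeval ![(MvPolynomial.X 1 : MvPolynomial (Fin 2) R), MvPolynomial.X 0] h = h →
    MvPolynomial.aeval ![(MvPolynomial.X 1 : MvPolynomial (Fin 3) R), MvPolynomial.X 2] h *
        MvPolynomial.aeval ![MvPolynomial.X 0, MvPolynomial.X 1 + MvPolynomial.X 2] h =
      MvPolynomial.aeval ![MvPolynomial.X 0 + MvPolynomial.X 1, MvPolynomial.X 2] h *
        MvPolynomial.aeval ![MvPolynomial.X 0, MvPolynomial.X 1] h →
    ∃ (R' : Type u) (_ : CommRing R') (_ : Algebra R R') (_ : Module.FaithfullyFlat R R')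
      (_ : Algebra.FinitePresentation R R') (f : Polynomial R'), IsUnit f ∧
      Polynomial.aeval (MvPolynomial.X 0 + MvPolynomial.X 1 : MvPolynomial (Fin 2) R') f =
        Polynomial.aeval (MvPolynomial.X 0 : MvPolynomial (Fin 2) R') f *
          Polynomial.aeval (MvPolynomial.X 1 : MvPolynomial (Fin 2) R') f *
            MvPolynomial.map (algebraMap R R') h := by
  induction n with
  | zero =>
    intro R _ _ I hI h hh _ _
    refine ⟨R, inferInstance, inferInstance, inferInstance, inferInstance, 1, isUnit_one, ?_⟩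
    have hI' : I = ⊥ := by rwa [pow_zero, pow_one] at hI
    rw [hI', IP, Ideal.map_bot, Ideal.mem_bot, sub_eq_zero] at hh
    rw [hh]
    simp
  | succ n ih =>
    intro R _ _ I hI h hh hsymm hcoc
    have hFh : 1 + (h - 1) = h := by ring
    obtain ⟨R₁, _, _, _, _, U, hU, hUC⟩ := exists_U (p := p) (I := I) ⟨_, hI⟩ (h - 1) hh
      (by rw [map_sub, map_one, hsymm]) (by rw [hFh]; exact hcoc)
    have : CharP R₁ p := charP_of_ff (R := R) R₁
    obtain ⟨V, hV⟩ := hU.exists_right_inv
    let J : Ideal R₁ := I.map (algebraMap R R₁)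
    have hJ : J ^ 2 ^ (n + 1) = ⊥ := by
      rw [← Ideal.map_pow, hI]
      exact Ideal.map_bot
    set h₁ : MvPolynomial (Fin 2) R₁ := MvPolynomial.map (algebraMap R R₁) h with hh₁
    have hsymm₁ := map_symm (algebraMap R R₁) hsymm
    have hcoc₁ := map_coc (algebraMap R R₁) hcoc
    rw [← hh₁] at hsymm₁ hcoc₁
    have hFh₁ : 1 + MvPolynomial.map (algebraMap R R₁) (h - 1) = h₁ := by
      rw [map_sub, map_one, hh₁]
      ring
    set h' : MvPolynomial (Fin 2) R₁ := h₁ * (Polynomial.aeval (MvPolynomial.X 0 : MvPolynomial (Fin 2) R₁) U *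
          Polynomial.aeval (MvPolynomial.X 1 : MvPolynomial (Fin 2) R₁) U *
            Polynomial.aeval (MvPolynomial.X 0 + MvPolynomial.X 1 : MvPolynomial (Fin 2) R₁) V) with hh'
    have hev : ∀ {σ : Type} (a b : MvPolynomial σ R₁), MvPolynomial.aeval ![a, b] h' =
        MvPolynomial.aeval ![a, b] h₁ * (Polynomial.aeval a U * Polynomial.aeval b U * Polynomial.aeval (a + b) V) := by
      intro σ a b
      rw [hh', map_mul, map_mul, map_mul, ← Polynomial.aeval_algHom_apply, ← Polynomial.aeval_algHom_apply,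
        ← Polynomial.aeval_algHom_apply, map_add, MvPolynomial.aeval_X, MvPolynomial.aeval_X]
      rfl
    have hUV : ∀ {σ : Type} (a : MvPolynomial σ R₁), Polynomial.aeval a U * Polynomial.aeval a V = 1 := by
      intro σ a
      rw [← map_mul, hV, map_one]
    obtain ⟨R₂, _, _, _, _, f, hf, hfh⟩ := ih R₁ (J ^ 2) (by rw [← pow_mul, ← pow_succ']; exact hJ) h' (by
        rw [Cob, hFh₁] at hUC
        have h1 : h' - 1 = -(Polynomial.aeval (MvPolynomial.X 0 + MvPolynomial.X 1 : MvPolynomial (Fin 2) R₁) V *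
          (Polynomial.aeval (MvPolynomial.X 0 + MvPolynomial.X 1 : MvPolynomial (Fin 2) R₁) U -
            Polynomial.aeval (MvPolynomial.X 0 : MvPolynomial (Fin 2) R₁) U *
              Polynomial.aeval (MvPolynomial.X 1 : MvPolynomial (Fin 2) R₁) U * h₁)) := by
          have h2 := hUV (MvPolynomial.X 0 + MvPolynomial.X 1 : MvPolynomial (Fin 2) R₁)
          rw [hh']
          linear_combination h2
        rw [h1]
        exact neg_mem (Ideal.mul_mem_left _ _ hUC))
      (by
        rw [hev, hsymm₁, hh', add_comm (MvPolynomial.X 1 : MvPolynomial (Fin 2) R₁)]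
        ring)
      (by
        rw [hev, hev, hev, hev]
        generalize (MvPolynomial.X 0 : MvPolynomial (Fin 3) R₁) = x at *
        generalize (MvPolynomial.X 1 : MvPolynomial (Fin 3) R₁) = y at *
        generalize (MvPolynomial.X 2 : MvPolynomial (Fin 3) R₁) = z at *
        have e1 := hUV (y + z)
        have e2 := hUV (x + y)
        rw [add_assoc x y z]
        generalize MvPolynomial.aeval ![y, z] h₁ = A at *
        generalize MvPolynomial.aeval ![x, y + z] h₁ = B at *
        generalize MvPolynomial.aeval ![x + y, z] h₁ = C at *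
        generalize MvPolynomial.aeval ![x, y] h₁ = D at *
        generalize Polynomial.aeval x U = ux at *
        generalize Polynomial.aeval y U = uy at *
        generalize Polynomial.aeval z U = uz at *
        generalize Polynomial.aeval (x + (y + z)) V = v at *
        generalize Polynomial.aeval (y + z) U = uyz at *
        generalize Polynomial.aeval (y + z) V = vyz at *
        generalize Polynomial.aeval (x + y) U = uxy at *
        generalize Polynomial.aeval (x + y) V = vxy at *
        linear_combination (ux * uy * uz * v) * hcoc₁ + (A * B * ux * uy * uz * v) * e1 -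
          (C * D * ux * uy * uz * v) * e2)
    let _ : Algebra R R₂ := ((algebraMap R₁ R₂).comp (algebraMap R R₁)).toAlgebra
    have : IsScalarTower R R₁ R₂ := IsScalarTower.of_algebraMap_eq fun _ => rfl
    refine ⟨R₂, inferInstance, inferInstance, Module.FaithfullyFlat.trans R R₁ R₂,
      Algebra.FinitePresentation.trans R R₁ R₂, f * U.map (algebraMap R₁ R₂),
      hf.mul (hU.map (Polynomial.mapRingHom (algebraMap R₁ R₂))), ?_⟩
    have e0 : MvPolynomial.map (algebraMap R R₂) h = MvPolynomial.map (algebraMap R₁ R₂) h₁ := by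
      rw [hh₁, MvPolynomial.map_map]
      rfl
    have e1 := congrArg (MvPolynomial.map (algebraMap R₁ R₂))
      (hUV (MvPolynomial.X 0 + MvPolynomial.X 1 : MvPolynomial (Fin 2) R₁))
    rw [hh', map_mul, map_mul, map_mul] at hfh
    rw [map_mul, map_one] at e1
    simp only [map_paeval, map_add, MvPolynomial.map_X] at hfh e1
    rw [map_mul, map_mul, map_mul, hfh, e0]
    linear_combination (Polynomial.aeval (MvPolynomial.X 0 : MvPolynomial (Fin 2) R₂) f *
          Polynomial.aeval (MvPolynomial.X 1 : MvPolynomial (Fin 2) R₂) f *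
          MvPolynomial.map (algebraMap R₁ R₂) h₁ *
          Polynomial.aeval (MvPolynomial.X 0 : MvPolynomial (Fin 2) R₂) (U.map (algebraMap R₁ R₂)) *
          Polynomial.aeval (MvPolynomial.X 1 : MvPolynomial (Fin 2) R₂) (U.map (algebraMap R₁ R₂))) * e1

/-- Normalised symmetric unit cocycles are coboundaries over a faithfully flat finitely presented extension. -/
theorem exists_cover_of_unit (R : Type u) [CommRing R] [CharP R p] (h : MvPolynomial (Fin 2) R) (hu : IsUnit h)
    (h0 : MvPolynomial.aeval ![(MvPolynomial.X 0 : MvPolynomial (Fin 2) R), 0] h = 1)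
    (hsymm : MvPolynomial.aeval ![(MvPolynomial.X 1 : MvPolynomial (Fin 2) R), MvPolynomial.X 0] h = h)
    (hcoc : MvPolynomial.aeval ![(MvPolynomial.X 1 : MvPolynomial (Fin 3) R), MvPolynomial.X 2] h *
        MvPolynomial.aeval ![MvPolynomial.X 0, MvPolynomial.X 1 + MvPolynomial.X 2] h =
      MvPolynomial.aeval ![MvPolynomial.X 0 + MvPolynomial.X 1, MvPolynomial.X 2] h *
        MvPolynomial.aeval ![MvPolynomial.X 0, MvPolynomial.X 1] h) :
    ∃ (R' : Type u) (_ : CommRing R') (_ : Algebra R R') (_ : Module.FaithfullyFlat R R')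
      (_ : Algebra.FinitePresentation R R') (f : Polynomial R'), IsUnit f ∧
      Polynomial.aeval (MvPolynomial.X 0 + MvPolynomial.X 1 : MvPolynomial (Fin 2) R') f =
        Polynomial.aeval (MvPolynomial.X 0 : MvPolynomial (Fin 2) R') f *
          Polynomial.aeval (MvPolynomial.X 1 : MvPolynomial (Fin 2) R') f *
            MvPolynomial.map (algebraMap R R') h := by
  classical
  -- the coefficients of `h - 1` are nilpotent
  have hc0 : MvPolynomial.coeff 0 h = 1 := by
    have h1 := congrArg (MvPolynomial.constantCoeff (R := R) (σ := Fin 2)) h0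
    rw [map_one] at h1
    have h2 : (MvPolynomial.constantCoeff (R := R) (σ := Fin 2)).comp
        (MvPolynomial.aeval ![(MvPolynomial.X 0 : MvPolynomial (Fin 2) R), 0] :
          MvPolynomial (Fin 2) R →ₐ[R] _).toRingHom = MvPolynomial.constantCoeff := by
      apply MvPolynomial.ringHom_ext
      · intro r
        simp
      · intro i
        fin_cases i <;> simp
    have h3 := RingHom.congr_fun h2 h
    rw [RingHom.comp_apply] at h3
    rw [← MvPolynomial.constantCoeff_eq, ← h3]
    exact h1
  have hnil : ∀ m, IsNilpotent (MvPolynomial.coeff m (h - 1)) := by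
    intro m
    rw [MvPolynomial.coeff_sub]
    by_cases hm : m = 0
    · rw [hm, hc0, MvPolynomial.coeff_zero_one, sub_self]
      exact IsNilpotent.zero
    · rw [MvPolynomial.coeff_one, if_neg (Ne.symm hm), sub_zero]
      exact (MvPolynomial.isUnit_iff.1 hu).2 m hm
  let I : Ideal R := Ideal.span ((h - 1).support.image (fun m => MvPolynomial.coeff m (h - 1)) : Finset R)
  have hI : IsNilpotent I := by
    rw [Ideal.FG.isNilpotent_iff_le_nilradical ⟨_, rfl⟩]
    rw [Ideal.span_le]
    intro x hx
    rw [Finset.mem_coe, Finset.mem_image] at hx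
    obtain ⟨m, -, rfl⟩ := hx
    exact hnil m
  obtain ⟨n, hn⟩ := hI
  have hn' : I ^ 2 ^ n = ⊥ := by
    rw [eq_bot_iff, ← Ideal.zero_eq_bot, ← hn]
    exact Ideal.pow_le_pow_right Nat.lt_two_pow_self.le
  refine exists_cover (p := p) n R I hn' h ?_ hsymm hcoc
  rw [MvPolynomial.mem_map_C_iff]
  intro m
  by_cases hm : m ∈ (h - 1).support
  · exact Ideal.subset_span (Finset.mem_coe.2 (Finset.mem_image_of_mem _ hm))
  · rw [MvPolynomial.notMem_support_iff.1 hm]
    exact I.zero_mem

end K772.CocLoc
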