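import Groth.Agent.GaDual.K772.Sig
import Groth.Agent.GaDual.K771.Pts

/-!
# Hilbert 90 on the big fppf site, with nil lifting (helper772)

`g : Spec B ⟶ X`, `sp g R` the object `Spec R` for a `B`-algebra `R`; `0 → Gm → E → Q → 0` exact.

* `gmr`: the unit of `R` of a section of `Gm` over `sp g R`.
* `descend`, `sep_ff`: descent of sections along a faithfully flat finitely presented algebra.
* `exists_coc`: the unit cocycle of a lift.
* `exists_lift_of_nil`: a lift over `Spec (B ⧸ I)`, `I` nil, extends to a lift over `Spec B`.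
-/

set_option autoImplicit false
universe u
open CategoryTheory CategoryTheory.Limits AlgebraicGeometry Opposite TensorProduct

noncomputable section

namespace K772.Lift

open Groth.Agent.Etdl.H432.Sec Groth.Agent.Etdl.H494.Sp K771.Pts Groth.Agent.Sga4h

variable {X : Scheme.{u}} {B : Type u} [CommRing B] (g : Spec (CommRingCat.of B) ⟶ X)

section gmr

variable {R : Type u} [CommRing R] [Algebra B R] {R' : Type u} [CommRing R'] [Algebra B R']
  {R'' : Type u} [CommRing R''] [Algebra B R'']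

/-- The unit of `R` attached to a section of `Gm` over `Spec R`. -/
def gmr (s : Γs (Gm X) (sp g R)) : R := ofO g R (gm s)

theorem toO_gmr (s : Γs (Gm X) (sp g R)) : toO g R (gmr g s) = gm s := toO_ofO g _

theorem isUnit_gmr (s : Γs (Gm X) (sp g R)) : IsUnit (gmr g s) := (isUnit_gm s).map _

theorem gmr_add (s t : Γs (Gm X) (sp g R)) : gmr g (s + t) = gmr g s * gmr g t := by
  rw [gmr, gm_add, map_mul, gmr, gmr]

theorem gmr_zero : gmr g (0 : Γs (Gm X) (sp g R)) = 1 := by
  rw [gmr, gm_zero, map_one]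

theorem gmr_injective {s t : Γs (Gm X) (sp g R)} (h : gmr g s = gmr g t) : s = t := by
  apply gm_injective
  rw [← toO_gmr, ← toO_gmr, h]

theorem gmr_map (ψ : R →ₐ[B] R') (s : Γs (Gm X) (sp g R)) : gmr g (r (Gm X) (spMap g ψ) s) = ψ (gmr g s) := by
  have h := ev_spMap g (𝟙 _) ψ (gmr g s)
  rw [Category.id_comp, ev_apply, ev_apply, ro_id, toO_gmr] at h
  rw [gmr, gm_r, h, ofO_toO]

theorem exists_gmr {x : R} (hx : IsUnit x) : ∃ s : Γs (Gm X) (sp g R), gmr g s = x := by
  obtain ⟨s, hs⟩ := exists_gm (U := sp g R) (hx.map (toO g R))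
  exact ⟨s, by rw [gmr, hs, ofO_toO]⟩

theorem r_spMap (F : EtFppf.AbF X) (ψ : R →ₐ[B] R') (ψ' : R' →ₐ[B] R'')
    (s : Γs F (sp g R)) : r F (spMap g ψ') (r F (spMap g ψ) s) = r F (spMap g (ψ'.comp ψ)) s := by
  rw [r_r, spMap_comp]

theorem r_spMap_id (F : EtFppf.AbF X) (s : Γs F (sp g R)) : r F (spMap g (AlgHom.id B R)) s = s := by
  have h : spMap g (AlgHom.id B R) = 𝟙 (sp g R) := by
    ext : 1
    exact Spec.map_id _
  rw [h, r_id]

end gmr

section desc

variable {C : Type u} [CommRing C] [Algebra B C] [Module.FaithfullyFlat B C] [Algebra.FinitePresentation B C]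

omit [Algebra B C] [Module.FaithfullyFlat B C] [Algebra.FinitePresentation B C] in
theorem isCov_of_ff {R : Type u} [CommRing R] [Algebra B R] {R' : Type u} [CommRing R'] [Algebra B R']
    (ψ : R →ₐ[B] R') (hff : ψ.toRingHom.FaithfullyFlat) (hfp : ψ.toRingHom.FinitePresentation) :
    IsCov (fun _ : PUnit.{1} => spMap g ψ) := by
  intro x
  have e : (spMap g ψ).left = Spec.map (CommRingCat.ofHom ψ.toRingHom) := rfl
  rw [RingHom.FaithfullyFlat.iff_flat_and_comap_surjective] at hff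
  refine ⟨PUnit.unit, ?_, ?_, hff.2 x⟩
  · rw [e]
    exact (HasRingHomProperty.Spec_iff (P := @Flat)).2 hff.1
  · rw [e]
    exact (HasRingHomProperty.Spec_iff (P := @LocallyOfFinitePresentation)).2 hfp

theorem isCov_ff : IsCov (fun _ : PUnit.{1} => spMap g (Algebra.ofId B C)) :=
  isCov_of_ff g _ (RingHom.faithfullyFlat_algebraMap_iff.2 inferInstance)
    (RingHom.finitePresentation_algebraMap.2 inferInstance)

theorem sep_ff (F : EtFppf.AbF X) (C : Type u) [CommRing C] [Algebra B C] [Module.FaithfullyFlat B C]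
    [Algebra.FinitePresentation B C] (s t : Γs F (sp g B))
    (h : r F (spMap g (Algebra.ofId B C)) s = r F (spMap g (Algebra.ofId B C)) t) : s = t :=
  sep F (isCov_ff g (C := C)) s t fun _ => h

theorem descend (F : EtFppf.AbF X) (t : Γs F (sp g C)) (ht : r F (spMap g iL) t = r F (spMap g iR) t) :
    ∃ t₀ : Γs F (sp g B), r F (spMap g (Algebra.ofId B C)) t₀ = t := by
  obtain ⟨t₀, h⟩ := glue F (isCov_ff g (C := C)) (fun _ => t) (fun _ _ Z a b hab => by
    obtain ⟨h, rfl, rfl⟩ := exists_pair g a b hab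
    rw [← r_r, ← r_r, ht])
  exact ⟨t₀, h PUnit.unit⟩

end desc

section ses

variable {E Q : EtFppf.AbF X} {α : Gm X ⟶ E} {β : E ⟶ Q} {w : α ≫ β = 0} (hS : (ShortComplex.mk α β w).ShortExact)

include hS

theorem m_injective {U : Over X} : Function.Injective (m α U) := by
  have : Mono α := hS.mono_f
  exact Groth.Agent.Etdl.H432.Un.mono_injective α U

theorem exists_m {U : Over X} (b : Γs E U) (hb : m β U b = 0) : ∃ s : Γs (Gm X) U, m α U s = b := by
  have : Mono α := hS.mono_f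
  exact Groth.Agent.Etdl.H432.IQ.exists_of_exact w hS.exact b hb

omit hS in
theorem m_m {U : Over X} (s : Γs (Gm X) U) : (w : α ≫ β = 0) → m β U (m α U s) = 0 := by
  intro w
  rw [← m_comp, w, m_zero]

variable {C : Type u} [CommRing C] [Algebra B C]

/-- The cocycle of a lift. -/
theorem exists_coc (q : Γs Q (sp g B)) (t : Γs E (sp g C)) (ht : m β _ t = r Q (spMap g (Algebra.ofId B C)) q) :
    ∃ d : Γs (Gm X) (sp g (C ⊗[B] C)),
      m α _ d = r E (spMap g iR) t - r E (spMap g iL) t ∧ UnitCocycle.IsCocycle (gmr g d) := by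
  obtain ⟨d, hd⟩ := exists_m hS (r E (spMap g (iR (B := B) (C := C))) t - r E (spMap g iL) t) (by
    rw [map_sub, m_r, m_r, ht, r_spMap, r_spMap, sub_eq_zero]
    have e : (iR (B := B) (C := C)).comp (Algebra.ofId B C) = iL.comp (Algebra.ofId B C) := by ext
    rw [e])
  refine ⟨d, hd, ?_⟩
  have key : r (Gm X) (spMap g UnitCocycle.e12) d + r (Gm X) (spMap g UnitCocycle.e23) d =
      r (Gm X) (spMap g UnitCocycle.e13) d := by
    apply m_injective hS
    rw [map_add, m_r, m_r, m_r, hd, map_sub, map_sub, map_sub]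
    simp only [r_spMap]
    have e1 : (UnitCocycle.e12 (B := B) (C := C)).comp iR =
        (UnitCocycle.e23 (B := B) (C := C)).comp iL := by
      ext c; simp
    have e2 : (UnitCocycle.e12 (B := B) (C := C)).comp iL =
        (UnitCocycle.e13 (B := B) (C := C)).comp iL := by
      ext c; simp
    have e3 : (UnitCocycle.e13 (B := B) (C := C)).comp iR =
        (UnitCocycle.e23 (B := B) (C := C)).comp iR := by
      ext c; simp
    rw [e1, e2, e3]
    abel
  have key2 := congrArg (gmr g) key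
  rw [gmr_add, gmr_map, gmr_map, gmr_map] at key2
  exact key2

/-- If the cocycle of a lift is the coboundary of a unit then the lift can be corrected. -/
theorem exists_of_coboundary [Module.FaithfullyFlat B C] [Algebra.FinitePresentation B C]
    (q : Γs Q (sp g B)) (t : Γs E (sp g C)) (ht : m β _ t = r Q (spMap g (Algebra.ofId B C)) q)
    (d : Γs (Gm X) (sp g (C ⊗[B] C))) (hd : m α _ d = r E (spMap g iR) t - r E (spMap g iL) t)
    (s : Γs (Gm X) (sp g C)) (hs : gmr g d * (gmr g s ⊗ₜ[B] (1 : C)) = (1 : C) ⊗ₜ[B] gmr g s) :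
    ∃ t₀ : Γs E (sp g B), m β _ t₀ = q ∧ r E (spMap g (Algebra.ofId B C)) t₀ = t - m α _ s := by
  have h1 : d + r (Gm X) (spMap g iL) s = r (Gm X) (spMap g iR) s := by
    apply gmr_injective g
    rw [gmr_add, gmr_map, gmr_map]
    exact hs
  obtain ⟨t₀, ht₀⟩ := descend g E (t - m α _ s) (by
    have h2 := congrArg (m α _) h1
    rw [map_add, m_r, m_r, hd] at h2
    rw [map_sub, map_sub, ← h2]
    abel)
  refine ⟨t₀, ?_, ht₀⟩
  apply sep_ff g Q C
  rw [← m_r, ht₀, map_sub, m_m _ w, sub_zero, ht]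

open Groth.Agent.Etdl.H494.H90Alg

variable (I : Ideal B)

omit hS in
theorem mem_of_includeRight {D : Type u} [CommRing D] [Algebra B D] (x : D)
    (hx : (Algebra.TensorProduct.includeRight : D →ₐ[B] (B ⧸ I) ⊗[B] D) x = 0) : x ∈ I.map (algebraMap B D) := by
  have h7 : (TensorProduct.quotTensorEquivQuotSMul D I) ((1 : B ⧸ I) ⊗ₜ[B] x) = 0 := by
    have h : (1 : B ⧸ I) ⊗ₜ[B] x = 0 := hx
    rw [h, map_zero]
  have h8 : (1 : B ⧸ I) = Ideal.Quotient.mk I 1 := rfl
  rw [h8, TensorProduct.quotTensorEquivQuotSMul_mk_tmul, one_smul, Submodule.Quotient.mk_eq_zero] at h7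
  rw [Ideal.smul_top_eq_map] at h7
  exact h7

omit hS in
theorem includeRight_of_mem {D : Type u} [CommRing D] [Algebra B D] (x : D) (hx : x ∈ I.map (algebraMap B D)) :
    (Algebra.TensorProduct.includeRight : D →ₐ[B] (B ⧸ I) ⊗[B] D) x = 0 := by
  have : I.map (algebraMap B D) ≤ RingHom.ker
      (Algebra.TensorProduct.includeRight : D →ₐ[B] (B ⧸ I) ⊗[B] D).toRingHom := by
    rw [Ideal.map_le_iff_le_comap]
    intro b hb
    rw [Ideal.mem_comap, RingHom.mem_ker]
    refine ((Algebra.TensorProduct.includeRight : D →ₐ[B] (B ⧸ I) ⊗[B] D).commutes b).trans ?_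
    rw [IsScalarTower.algebraMap_apply B (B ⧸ I) ((B ⧸ I) ⊗[B] D)]
    have : algebraMap B (B ⧸ I) b = 0 := Ideal.Quotient.eq_zero_iff_mem.2 hb
    rw [this, map_zero]
  exact this hx

omit hS in
theorem includeRight_surjective {D : Type u} [CommRing D] [Algebra B D] :
    Function.Surjective (Algebra.TensorProduct.includeRight : D →ₐ[B] (B ⧸ I) ⊗[B] D) := by
  intro z
  induction z with
  | zero => exact ⟨0, map_zero _⟩
  | add a b ha hb =>
    obtain ⟨a, rfl⟩ := ha
    obtain ⟨b, rfl⟩ := hb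
    exact ⟨a + b, map_add _ _ _⟩
  | tmul a x =>
    obtain ⟨a, rfl⟩ := Ideal.Quotient.mk_surjective a
    refine ⟨a • x, ?_⟩
    rw [map_smul, Algebra.TensorProduct.includeRight_apply, TensorProduct.smul_tmul']
    congr 1
    exact (Algebra.algebraMap_eq_smul_one (A := B ⧸ I) a).symm

omit hS in
theorem isNilpotent_of_mem (hI : I ≤ nilradical B) {D : Type u} [CommRing D] [Algebra B D] (x : D)
    (hx : x ∈ I.map (algebraMap B D)) : IsNilpotent x := by
  have : I.map (algebraMap B D) ≤ nilradical D := by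
    rw [Ideal.map_le_iff_le_comap]
    intro b hb
    exact (IsNilpotent.map (hI hb : IsNilpotent b) (algebraMap B D) : IsNilpotent _)
  exact this hx

/-- **Nil lifting.** -/
theorem exists_lift_of_nil (hI : I ≤ nilradical B) (q : Γs Q (sp g B)) (t₀ : Γs E (sp g (B ⧸ I)))
    (ht₀ : m β _ t₀ = r Q (spMap g (Ideal.Quotient.mkₐ B I)) q) :
    ∃ t : Γs E (sp g B), m β _ t = q ∧ r E (spMap g (Ideal.Quotient.mkₐ B I)) t = t₀ := by
  have : Epi β := hS.epi_g
  obtain ⟨C, _, _, _, _, t₁, ht₁⟩ := Sig.exists_lift_ff g β q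
  let φ : C →ₐ[B] (B ⧸ I) ⊗[B] C := Algebra.TensorProduct.includeRight
  let ψ : (B ⧸ I) →ₐ[B] (B ⧸ I) ⊗[B] C := Algebra.TensorProduct.includeLeft
  have hψmk : ψ.comp (Ideal.Quotient.mkₐ B I) = Algebra.ofId B _ := by ext
  have hφid : φ.comp (Algebra.ofId B C) = Algebra.ofId B _ := by ext
  -- correct `t₁` modulo `I`
  obtain ⟨s₀, hs₀⟩ := exists_m hS (r E (spMap g φ) t₁ - r E (spMap g ψ) t₀) (by
    rw [map_sub, m_r, m_r, ht₁, ht₀, r_spMap, r_spMap, hψmk, hφid, sub_self])
  obtain ⟨v, hv⟩ := includeRight_surjective (D := C) I (gmr g s₀)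
  obtain ⟨v', hv'⟩ := includeRight_surjective (D := C) I ((isUnit_gmr g s₀).unit⁻¹ : ((B ⧸ I) ⊗[B] C)ˣ)
  have hvu : IsUnit v := by
    have h1 : φ (v * v' - 1) = 0 := by
      rw [map_sub, map_mul, map_one]
      refine (congrArg₂ (fun a b => a * b - 1) hv hv').trans ?_
      change gmr g s₀ * _ - 1 = 0
      rw [IsUnit.mul_val_inv, sub_self]
    have h2 := isNilpotent_of_mem I hI _ (mem_of_includeRight I _ h1)
    have h3 := h2.isUnit_one_add
    rw [add_sub_cancel] at h3
    exact isUnit_of_mul_isUnit_left h3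
  obtain ⟨s₁, hs₁⟩ := exists_gmr (X := X) g hvu
  let t₂ : Γs E (sp g C) := t₁ - m α _ s₁
  have ht₂ : m β _ t₂ = r Q (spMap g (Algebra.ofId B C)) q := by
    rw [map_sub, m_m _ w, sub_zero, ht₁]
  have ht₂' : r E (spMap g φ) t₂ = r E (spMap g ψ) t₀ := by
    have h1 : r (Gm X) (spMap g φ) s₁ = s₀ := by
      apply gmr_injective g
      rw [gmr_map, hs₁]
      exact hv
    rw [map_sub, ← m_r, h1, hs₀]
    abel
  obtain ⟨d, hd, hdc⟩ := exists_coc g hS q t₂ ht₂
  have hdI : gmr g d - 1 ∈ I.map (algebraMap B (C ⊗[B] C)) := by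
    apply mem_of_includeRight
    let φ₂ : C ⊗[B] C →ₐ[B] (B ⧸ I) ⊗[B] (C ⊗[B] C) := Algebra.TensorProduct.includeRight
    have h0 : r (Gm X) (spMap g φ₂) d = 0 := by
      apply m_injective hS
      rw [m_r, hd, map_zero, map_sub, r_spMap, r_spMap, sub_eq_zero]
      let χR : (B ⧸ I) ⊗[B] C →ₐ[B] (B ⧸ I) ⊗[B] (C ⊗[B] C) := Algebra.TensorProduct.map (AlgHom.id B _) iR
      let χL : (B ⧸ I) ⊗[B] C →ₐ[B] (B ⧸ I) ⊗[B] (C ⊗[B] C) := Algebra.TensorProduct.map (AlgHom.id B _) iL
      have e1 : φ₂.comp iR = χR.comp φ := by ext c; simp [φ₂, χR, φ]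
      have e2 : φ₂.comp iL = χL.comp φ := by ext c; simp [φ₂, χL, φ]
      have e3 : χR.comp ψ = χL.comp ψ := by
        apply AlgHom.ext
        intro b
        simp only [χR, χL, ψ, AlgHom.comp_apply, Algebra.TensorProduct.includeLeft_apply,
          Algebra.TensorProduct.map_tmul, map_one]
      rw [e1, e2, ← r_spMap, ← r_spMap, ht₂', r_spMap, r_spMap, e3]
    have h1 := gmr_map g φ₂ d
    rw [h0, gmr_zero] at h1
    rw [map_sub, map_one, sub_eq_zero]
    exact h1.symm
  obtain ⟨c, hc, hcI⟩ := exists_w (isUnit_gmr g d).unit hdc I hdI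
  have hcu : IsUnit c := by
    have h2 := (isNilpotent_of_mem I hI _ hcI).isUnit_one_add
    rwa [add_sub_cancel] at h2
  obtain ⟨s₂, hs₂⟩ := exists_gmr (X := X) g hcu
  obtain ⟨t, ht, ht'⟩ := exists_of_coboundary g hS q t₂ ht₂ d hd s₂ (by
    rw [hs₂]
    exact (UnitCocycle.mem_L _ _).1 hc)
  refine ⟨t, ht, ?_⟩
  have hcov : IsCov (fun _ : PUnit.{1} => spMap g ψ) := by
    apply isCov_of_ff
    · have h1 : (algebraMap (B ⧸ I) ((B ⧸ I) ⊗[B] C)).FaithfullyFlat :=
        RingHom.faithfullyFlat_algebraMap_iff.2 inferInstance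
      exact h1
    · have h1 : (algebraMap (B ⧸ I) ((B ⧸ I) ⊗[B] C)).FinitePresentation :=
        RingHom.finitePresentation_algebraMap.2 inferInstance
      exact h1
  refine sep E hcov _ _ fun _ => ?_
  rw [r_spMap, hψmk, ← hφid, ← r_spMap, ht', map_sub, ht₂', ← m_r]
  have h1 : r (Gm X) (spMap g φ) s₂ = 0 := by
    apply gmr_injective g
    rw [gmr_map, hs₂, gmr_zero]
    have h2 := includeRight_of_mem I _ hcI
    rw [map_sub, map_one, sub_eq_zero] at h2
    exact h2
  rw [h1, map_zero, sub_zero]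

end ses

end K772.Lift
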