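import Groth.Agent.GaDual.K772.ExtSplit2
import Groth.Agent.GaDual.K772.Lift
import Groth.Agent.SekSuwa.K831.Pts
import Mathlib.RingTheory.MvPolynomial.Basic

/-!
# Lifting `f : G_a ⟶ Q` along `E ⟶ Q`, `0 → G_m → E → Q → 0`, over `Spec R`: polynomial cocycles (helper772)

`X = Spec R`, `sp (g0 R) B` the object `Spec B`, `B` an `R`-algebra.

* `xu`: the universal section of `G_a` over `Spec R[x]`.
* `exists_coc`: if `f xu` lifts to `E` then there are a symmetric normalised unit cocycle
  `h : MvPolynomial (Fin 2) R` and: over any `T` over which `h` is the coboundary of a unit `u : (O T)[x]`, `f` lifts to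
  a section of `𝓗om(G_a, E)`.
-/

set_option autoImplicit false
universe u
open CategoryTheory CategoryTheory.Limits AlgebraicGeometry Opposite

noncomputable section

namespace K772.GaCoc

open Groth.Agent.Etdl.H432.Sec K771.Pts K772.Lift K772.ExtSplit K771
open Groth.Agent.Etdl.H494.Sp hiding ev
open K771.HomEv (hom)

variable {R : Type u} [CommRing R]

/-- The base map. -/
abbrev g0 (R : Type u) [CommRing R] : Spec (CommRingCat.of R) ⟶ Spec (CommRingCat.of R) := 𝟙 _

/-- The structure map on functions. -/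
abbrev str (T : Over (Spec (CommRingCat.of R))) : R →+* O T := K831.Pts.str T

theorem ro_str {T T' : Over (Spec (CommRingCat.of R))} (g : T' ⟶ T) (a : R) : ro g (str T a) = str T' a :=
  K831.Pts.str_comp_apply g a

theorem str_sp {B : Type u} [CommRing B] [Algebra R B] (a : R) :
    str (sp (g0 R) B) a = toO (g0 R) B (algebraMap R B a) := by
  change (Spec.map (CommRingCat.ofHom (algebraMap R B)) ≫ 𝟙 _).appTop.hom
    ((Scheme.ΓSpecIso (CommRingCat.of R)).inv.hom a) = (Scheme.ΓSpecIso (CommRingCat.of B)).inv.hom (algebraMap R B a)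
  rw [Category.comp_id]
  exact congr($((Scheme.ΓSpecIso_inv_naturality (CommRingCat.ofHom (algebraMap R B))).symm).hom a)

theorem exists_toBase (T : Over (Spec (CommRingCat.of R))) :
    ∃ τ : T ⟶ sp (g0 R) R, ∀ a, Groth.Agent.Etdl.H494.Sp.ev (g0 R) τ a = str T a := by
  refine ⟨Over.homMk T.hom ?_, fun a => rfl⟩
  change T.hom ≫ Spec.map (𝟙 _) ≫ 𝟙 _ = T.hom
  rw [Spec.map_id, Category.comp_id, Category.comp_id]

section homOf

variable {T : Over (Spec (CommRingCat.of R))} {B : Type u} [CommRing B] [Algebra R B]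

theorem exists_homOf (ρ : B →+* O T) (hρ : ∀ a, ρ (algebraMap R B a) = str T a) :
    ∃ k : T ⟶ sp (g0 R) B, ∀ b, ro k (toO (g0 R) B b) = ρ b := by
  obtain ⟨τ, hτ⟩ := exists_toBase T
  obtain ⟨k, hk⟩ := exists_hom (g0 R) τ ρ (fun a => (hρ a).trans (hτ a).symm)
  exact ⟨k, hk⟩

/-- The map to `Spec B` given by a ring homomorphism. -/
def homOf (ρ : B →+* O T) (hρ : ∀ a, ρ (algebraMap R B a) = str T a) : T ⟶ sp (g0 R) B :=
  (exists_homOf ρ hρ).choose

theorem ro_homOf (ρ : B →+* O T) (hρ : ∀ a, ρ (algebraMap R B a) = str T a) (b : B) :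
    ro (homOf ρ hρ) (toO (g0 R) B b) = ρ b := (exists_homOf ρ hρ).choose_spec b

theorem hom_ext_toO {k k' : T ⟶ sp (g0 R) B} (h : ∀ b, ro k (toO (g0 R) B b) = ro k' (toO (g0 R) B b)) : k = k' :=
  hom_ext_ev (g0 R) k k' h

end homOf

section poly

variable {T : Over (Spec (CommRingCat.of R))}

/-- The map to `Spec R[x]` given by a function. -/
def px (x : O T) : T ⟶ sp (g0 R) (Polynomial R) :=
  homOf (Polynomial.eval₂RingHom (str T) x) (fun a => by
    rw [Polynomial.coe_eval₂RingHom]
    exact Polynomial.eval₂_C _ _)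

theorem ro_px (x : O T) (b : Polynomial R) : ro (px x) (toO (g0 R) _ b) = b.eval₂ (str T) x := ro_homOf _ _ b

theorem px_ext {k k' : T ⟶ sp (g0 R) (Polynomial R)}
    (h : ro k (toO (g0 R) _ Polynomial.X) = ro k' (toO (g0 R) _ Polynomial.X)) : k = k' := by
  apply hom_ext_toO
  intro b
  have : ((ro k).comp (toO (g0 R) (Polynomial R))) = ((ro k').comp (toO (g0 R) (Polynomial R))) := by
    apply Polynomial.ringHom_ext
    · intro a
      change ro k (toO (g0 R) _ (algebraMap R (Polynomial R) a)) = ro k' (toO (g0 R) _ (algebraMap R (Polynomial R) a))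
      rw [← str_sp, ro_str, ro_str]
    · exact h
  exact RingHom.congr_fun this b

/-- The map to affine `n`-space given by functions. -/
def pv {n : ℕ} (x : Fin n → O T) : T ⟶ sp (g0 R) (MvPolynomial (Fin n) R) :=
  homOf (MvPolynomial.eval₂Hom (str T) x) (fun a => by
    rw [MvPolynomial.coe_eval₂Hom]
    exact MvPolynomial.eval₂_C _ _ _)

theorem ro_pv {n : ℕ} (x : Fin n → O T) (b : MvPolynomial (Fin n) R) :
    ro (pv x) (toO (g0 R) _ b) = b.eval₂ (str T) x := ro_homOf _ _ b

end poly

/-- The universal section of `G_a`. -/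
def xu (R : Type u) [CommRing R] : Γs (Ga (Spec (CommRingCat.of R))) (sp (g0 R) (Polynomial R)) :=
  gas (toO (g0 R) _ Polynomial.X)

/-- `G_a` is represented by `Spec R[x]`. -/
def univGa (R : Type u) [CommRing R] : Univ (Ga (Spec (CommRingCat.of R))) (sp (g0 R) (Polynomial R)) where
  u := xu R
  pt s := px (ga s)
  r_pt s := by
    apply ga_injective
    rw [xu, r_gas, ga_gas, ro_px, Polynomial.eval₂_X]
  pt_r g s := by
    apply px_ext
    rw [← ro_ro, ro_px, ro_px, Polynomial.eval₂_X, Polynomial.eval₂_X, ga_r]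

/-- Functions on `n`-space. -/
abbrev An (R : Type u) [CommRing R] (n : ℕ) : Over (Spec (CommRingCat.of R)) := sp (g0 R) (MvPolynomial (Fin n) R)

/-- The section of `G_a` on `n`-space given by a polynomial. -/
abbrev gp {n : ℕ} (F : MvPolynomial (Fin n) R) : Γs (Ga (Spec (CommRingCat.of R))) (An R n) := gas (toO (g0 R) _ F)

theorem gp_add {n : ℕ} (F G : MvPolynomial (Fin n) R) : gp (F + G) = gp F + gp G := by
  rw [gp, map_add, gas_add]

theorem gp_zero {n : ℕ} : gp (0 : MvPolynomial (Fin n) R) = 0 := by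
  rw [gp, map_zero, gas_zero]

theorem eval₂_str {n k : ℕ} (x : Fin k → MvPolynomial (Fin n) R) (h : MvPolynomial (Fin k) R) :
    h.eval₂ (str (An R n)) (fun i => toO (g0 R) _ (x i)) = toO (g0 R) _ (MvPolynomial.aeval x h) := by
  have h1 : (str (An R n) : R →+* _) = (toO (g0 R) (MvPolynomial (Fin n) R)).comp (algebraMap R _) := by
    ext a
    exact str_sp a
  rw [h1, MvPolynomial.aeval_def]
  exact (MvPolynomial.eval₂_comp_left (toO (g0 R) (MvPolynomial (Fin n) R)) (algebraMap R _) x h).symm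

theorem toO_injective (B : Type u) [CommRing B] [Algebra R B] : Function.Injective (toO (g0 R) B) := fun a b h => by
  rw [← ofO_toO (g0 R) a, ← ofO_toO (g0 R) b, h]

section main

variable {E Q : EtFppf.AbF (Spec (CommRingCat.of R))} {α : Gm (Spec (CommRingCat.of R)) ⟶ E} {β : E ⟶ Q}
  {w : α ≫ β = 0} (hS : (ShortComplex.mk α β w).ShortExact) (f : Ga (Spec (CommRingCat.of R)) ⟶ Q)

include hS in
/-- **The polynomial cocycle of a morphism `G_a ⟶ Q` whose universal value lifts.** -/
theorem exists_coc (t : Γs E (sp (g0 R) (Polynomial R))) (ht : m β _ t = m f _ (xu R)) :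
    ∃ h : MvPolynomial (Fin 2) R, IsUnit h ∧
      MvPolynomial.aeval ![(MvPolynomial.X 0 : MvPolynomial (Fin 2) R), 0] h = 1 ∧
      MvPolynomial.aeval ![(MvPolynomial.X 1 : MvPolynomial (Fin 2) R), MvPolynomial.X 0] h = h ∧
      MvPolynomial.aeval ![(MvPolynomial.X 1 : MvPolynomial (Fin 3) R), MvPolynomial.X 2] h *
        MvPolynomial.aeval ![MvPolynomial.X 0, MvPolynomial.X 1 + MvPolynomial.X 2] h =
      MvPolynomial.aeval ![MvPolynomial.X 0 + MvPolynomial.X 1, MvPolynomial.X 2] h *
        MvPolynomial.aeval ![MvPolynomial.X 0, MvPolynomial.X 1] h ∧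
      ∀ (T : Over (Spec (CommRingCat.of R))) (u : Polynomial (O T)), IsUnit u →
        Polynomial.aeval (MvPolynomial.X 0 + MvPolynomial.X 1 : MvPolynomial (Fin 2) (O T)) u =
          Polynomial.aeval (MvPolynomial.X 0 : MvPolynomial (Fin 2) (O T)) u *
          Polynomial.aeval (MvPolynomial.X 1 : MvPolynomial (Fin 2) (O T)) u * MvPolynomial.map (str T) h →
        ∃ e : Γs (hom (Ga (Spec (CommRingCat.of R))) E) T,
          ∀ (W : Over (Spec (CommRingCat.of R))) (k : W ⟶ T) (s : Γs (Ga (Spec (CommRingCat.of R))) W),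
            m β W (HomEv.ev e k s) = m f W s := by
  obtain ⟨σ, h1, h2, h3⟩ := ExtSplit2.exists_section f (univGa R) t ht
  obtain ⟨c, hc, hcn, hcc, hc0, hc0', hcs⟩ := ExtSplit2.exists_cocycle hS f σ h1 h2 h3
  let h : MvPolynomial (Fin 2) R := gmr (g0 R) (c (An R 2) (gp (MvPolynomial.X 0)) (gp (MvPolynomial.X 1)))
  have hgm : ∀ (T : Over (Spec (CommRingCat.of R))) (x y : O T),
      gm (c T (gas x) (gas y)) = h.eval₂ (str T) ![x, y] := by
    intro T x y
    have e1 := hcn _ _ (pv ![x, y]) (gp (MvPolynomial.X 0)) (gp (MvPolynomial.X 1))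
    rw [r_gas, r_gas, ro_pv, ro_pv, MvPolynomial.eval₂_X, MvPolynomial.eval₂_X] at e1
    have e2 := congrArg gm e1
    rw [gm_r, ← toO_gmr (g0 R), ro_pv] at e2
    exact e2.symm
  have hgp : ∀ {n : ℕ} (F G : MvPolynomial (Fin n) R), gm (c (An R n) (gp F) (gp G)) =
      toO (g0 R) _ (MvPolynomial.aeval ![F, G] h) := by
    intro n F G
    rw [hgm, ← eval₂_str]
    congr 1
    ext i
    fin_cases i <;> rfl
  have hself : MvPolynomial.aeval ![(MvPolynomial.X 0 : MvPolynomial (Fin 2) R), MvPolynomial.X 1] h = h := by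
    have : ![(MvPolynomial.X 0 : MvPolynomial (Fin 2) R), MvPolynomial.X 1] = MvPolynomial.X := by
      ext1 i
      fin_cases i <;> rfl
    rw [this, MvPolynomial.aeval_X_left, AlgHom.id_apply]
  refine ⟨h, isUnit_gmr _ _, ?_, ?_, ?_, ?_⟩
  · apply toO_injective (R := R)
    rw [← hgp, gp_zero, hc0, gm_zero, map_one]
  · apply toO_injective (R := R)
    rw [← hgp, hcs, hgp, hself]
  · apply toO_injective (R := R)
    rw [map_mul, map_mul, ← hgp, ← hgp, ← hgp, ← hgp, ← gm_add, ← gm_add, gp_add, gp_add, hcc]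
  · intro T u hu hid
    obtain ⟨v, hv⟩ := hu.exists_right_inv
    have hunit : ∀ (W : Over (Spec (CommRingCat.of R))) (k : W ⟶ T) (x : O W), IsUnit (u.eval₂ (ro k) x) := by
      intro W k x
      refine IsUnit.of_mul_eq_one (v.eval₂ (ro k) x) ?_
      rw [← Polynomial.eval₂_mul, hv, Polynomial.eval₂_one]
    choose Φ hΦ using fun (W : Over (Spec (CommRingCat.of R))) (k : W ⟶ T)
      (s : Γs (Ga (Spec (CommRingCat.of R))) W) => exists_gm (U := W) (hunit W k (ga s))
    refine ExtSplit2.exists_lift f w σ h1 h2 c hc T Φ ?_ ?_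
    · intro W W' k k' s
      apply gm_injective
      rw [gm_r, hΦ, hΦ, ga_r, Polynomial.hom_eval₂]
      congr 1
    · intro W k s s'
      apply gm_injective
      rw [gm_add, gm_add, hΦ, hΦ, hΦ, ga_add]
      have e1 : gm (c W s s') = h.eval₂ (str W) ![ga s, ga s'] := by
        have := hgm W (ga s) (ga s')
        rwa [gas_ga, gas_ga] at this
      rw [e1]
      -- evaluate the identity
      let ev₂ : MvPolynomial (Fin 2) (O T) →+* O W := MvPolynomial.eval₂Hom (ro k) ![ga s, ga s']
      have e2 := congrArg ev₂ hid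
      rw [map_mul, map_mul] at e2
      have e3 : ∀ a : MvPolynomial (Fin 2) (O T), ev₂ (Polynomial.aeval a u) = u.eval₂ (ro k) (ev₂ a) := by
        intro a
        rw [Polynomial.aeval_def, Polynomial.hom_eval₂]
        congr 1
        ext b
        exact MvPolynomial.eval₂_C _ _ _
      have e4 : ev₂ (MvPolynomial.map (str T) h) = h.eval₂ (str W) ![ga s, ga s'] := by
        change MvPolynomial.eval₂ (ro k) _ (MvPolynomial.map (str T) h) = _
        rw [MvPolynomial.eval₂_map]
        congr 1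
        ext b
        exact ro_str k b
      have e5 : ev₂ (MvPolynomial.X 0) = ga s := MvPolynomial.eval₂_X _ _ _
      have e6 : ev₂ (MvPolynomial.X 1) = ga s' := MvPolynomial.eval₂_X _ _ _
      rw [e3, e3, e3, e4, map_add, e5, e6] at e2
      exact e2

end main

end K772.GaCoc
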