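import Groth.Agent.GaDual.K772.RadicLift
import Groth.Agent.GaDual.K772.GaCoc
import Groth.Agent.GaDual.K770.FrobLift

/-!
# The universal section of `G_a` lifts fppf-locally (helper772)

`X = Spec A`, `A` of characteristic `p`, `0 → Gm → E → Q → 0` exact over `X`, `f : Ga ⟶ Q`.

* `exists_lift_xu`: there is a faithfully flat finitely presented `A`-algebra `A'` such that `f x` lifts over `Spec A'[x]`.
-/

set_option autoImplicit false
universe u
open CategoryTheory CategoryTheory.Limits AlgebraicGeometry Opposite TensorProduct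

noncomputable section

namespace K772.PicLoc

open Groth.Agent.Etdl.H432.Sec Groth.Agent.Etdl.H494.Sp K771.Pts K772.Lift K772.GaCoc

variable (p : ℕ) [hp : Fact p.Prime] {A : Type u} [CommRing A] [CharP A p]

section frob

variable {B : Type u} [CommRing B] [Algebra A B] {R : Type u} [CommRing R] [Algebra A R]

theorem tri (ρ : B →+* R) (hρ : ∀ a : A, ρ (algebraMap A B (a ^ p)) = algebraMap A R a) :
    Spec.map (CommRingCat.ofHom ρ) ≫ (Spec.map (CommRingCat.ofHom (algebraMap A B)) ≫ g0 A) ≫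
      FrobSch.frob (Spec (CommRingCat.of A)) p = Spec.map (CommRingCat.ofHom (algebraMap A R)) ≫ g0 A := by
  apply Groth.Agent.Sga4h.EtSpec.spec_hom_ext
  intro a
  have h1 := congr($((Scheme.ΓSpecIso_inv_naturality (CommRingCat.ofHom (algebraMap A R))).symm).hom a)
  have h2 := congr($((Scheme.ΓSpecIso_inv_naturality (CommRingCat.ofHom (algebraMap A B))).symm).hom (a ^ p))
  have h3 := congr($((Scheme.ΓSpecIso_inv_naturality (CommRingCat.ofHom ρ)).symm).hom (algebraMap A B (a ^ p)))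
  have h4 : (FrobSch.frob (Spec (CommRingCat.of A)) p).appTop.hom
      ((Scheme.ΓSpecIso (CommRingCat.of A)).inv.hom a) = (Scheme.ΓSpecIso (CommRingCat.of A)).inv.hom (a ^ p) := by
    rw [map_pow]
    exact FrobSch.frob_appTop _ p _
  rw [Category.comp_id, Category.comp_id, Scheme.Hom.comp_appTop, Scheme.Hom.comp_appTop]
  change (Spec.map (CommRingCat.ofHom ρ)).appTop.hom ((Spec.map (CommRingCat.ofHom (algebraMap A B))).appTop.hom
    ((FrobSch.frob (Spec (CommRingCat.of A)) p).appTop.hom ((Scheme.ΓSpecIso (CommRingCat.of A)).inv.hom a))) = _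
  rw [h4]
  refine (congrArg (Spec.map (CommRingCat.ofHom ρ)).appTop.hom h2).trans ?_
  refine h3.trans ?_
  refine Eq.trans ?_ h1.symm
  change (Scheme.ΓSpecIso (CommRingCat.of R)).inv.hom (ρ (algebraMap A B (a ^ p))) =
    (Scheme.ΓSpecIso (CommRingCat.of R)).inv.hom (algebraMap A R a)
  rw [hρ]

/-- The map to the Frobenius twist. -/
def toTw (ρ : B →+* R) (hρ : ∀ a : A, ρ (algebraMap A B (a ^ p)) = algebraMap A R a) :
    sp (g0 A) R ⟶ K770.Frob.tw p (sp (g0 A) B) :=
  Over.homMk (Spec.map (CommRingCat.ofHom ρ)) (tri p ρ hρ)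

theorem ro_toTw (ρ : B →+* R) (hρ : ∀ a : A, ρ (algebraMap A B (a ^ p)) = algebraMap A R a) (b : B) :
    ro (toTw p ρ hρ) (K770.Frob.tf p (toO (g0 A) B b)) = toO (g0 A) R (ρ b) :=
  congr($((Scheme.ΓSpecIso_inv_naturality (CommRingCat.ofHom ρ)).symm).hom b)

end frob

section poly

variable (A)

/-- `A[x] → A[x] ⊗ A ^ (1/p)`, `a ↦ 1 ⊗ a ^ (1/p)`, `x ↦ x ⊗ 1`. -/
def ρ : Polynomial A →+* Polynomial A ⊗[A] Radic.P p A :=
  Polynomial.eval₂RingHom ((Algebra.TensorProduct.includeRight :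
    Radic.P p A →ₐ[A] Polynomial A ⊗[A] Radic.P p A).toRingHom.comp (FrobAlg.toTwist p A).toRingHom)
    (Polynomial.X ⊗ₜ 1)

theorem ρ_X : ρ p A Polynomial.X = Polynomial.X ⊗ₜ 1 := Polynomial.eval₂_X _ _

theorem ρ_C (a : A) : ρ p A (algebraMap A (Polynomial A) (a ^ p)) =
    algebraMap A (Polynomial A ⊗[A] Radic.P p A) a := by
  refine (Polynomial.eval₂_C _ _).trans ?_
  change (Algebra.TensorProduct.includeRight : Radic.P p A →ₐ[A] Polynomial A ⊗[A] Radic.P p A)
    (FrobAlg.toTwist p A (a ^ p)) = _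
  rw [← FrobAlg.algebraMap_twist, AlgHom.commutes]

/-- `A[x] ⊗ A' → A'[x]`. -/
def χ (A' : Type u) [CommRing A'] [Algebra A A'] : Polynomial A ⊗[A] A' →ₐ[A] Polynomial A' :=
  Algebra.TensorProduct.lift (Polynomial.mapAlgHom (Algebra.ofId A A'))
    ((Algebra.ofId A' (Polynomial A')).restrictScalars A) (fun _ _ => Commute.all _ _)

theorem χ_X (A' : Type u) [CommRing A'] [Algebra A A'] : χ A A' (Polynomial.X ⊗ₜ 1) = Polynomial.X := by
  rw [χ, Algebra.TensorProduct.lift_tmul, map_one, mul_one]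
  exact Polynomial.map_X _

end poly

section main

variable {E Q : EtFppf.AbF (Spec (CommRingCat.of A))} {α : Gm (Spec (CommRingCat.of A)) ⟶ E} {β : E ⟶ Q}
  {w : α ≫ β = 0} (hS : (ShortComplex.mk α β w).ShortExact) (f : Ga (Spec (CommRingCat.of A)) ⟶ Q)

omit [CharP A p] hp in
theorem r_f {R R' : Type u} [CommRing R] [Algebra A R] [CommRing R'] [Algebra A R'] (φ : R →ₐ[A] R') (x : R) :
    r Q (spMap (g0 A) φ) (m f _ (gas (toO (g0 A) R x))) = m f _ (gas (toO (g0 A) R' (φ x))) := by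
  rw [← m_r, r_gas]
  congr 2
  have h := ev_spMap (g0 A) (𝟙 _) φ x
  rw [Category.id_comp, ev_apply, ev_apply, ro_id] at h
  exact h

include p hS in
/-- **The universal section lifts locally.** -/
theorem exists_lift_xu :
    ∃ (A' : Type u) (_ : CommRing A') (_ : Algebra A A') (_ : Module.FaithfullyFlat A A')
      (_ : Algebra.FinitePresentation A A') (t : Γs E (sp (g0 A) (Polynomial A'))),
      m β _ t = m f _ (gas (toO (g0 A) (Polynomial A') Polynomial.X)) := by
  have : Epi β := hS.epi_g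
  have : IsAffine (sp (g0 A) (Polynomial A)).left :=
    inferInstanceAs (IsAffine (Spec (CommRingCat.of (Polynomial A))))
  obtain ⟨e, he⟩ := K770.Frob.exists_lift_tw p α β f (fun U => m_injective hS) (fun U e he => exists_m hS e he)
    (fun U c => m_m c w) (sp (g0 A) (Polynomial A)) (toO (g0 A) _ Polynomial.X)
  let eP' : Γs E (sp (g0 A) (Polynomial A ⊗[A] Radic.P p A)) := r E (toTw p (ρ p A) (ρ_C p A)) e
  have heP' : m β _ eP' = m f _ (gas (toO (g0 A) (Polynomial A ⊗[A] Radic.P p A) (Polynomial.X ⊗ₜ 1))) := by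
    rw [m_r, he, ← m_r, r_gas, ro_toTw, ρ_X]
  let q₀ : Γs Q (sp (g0 A) (Polynomial A)) := m f _ (gas (toO (g0 A) _ Polynomial.X))
  obtain ⟨A', _, _, _, _, t, ht⟩ := RadicLift.exists_lift_radic p (B := Polynomial A) (gR (g0 A) (Polynomial A)) hS
    (r Q (rb (g0 A) (R := Polynomial A) (R' := Polynomial A)) q₀) (r E (rb (g0 A)) eP') (by
      rw [m_r, heP', r_r, ← rb_spMap, ← r_r, r_f]
      rfl)
  refine ⟨A', inferInstance, inferInstance, inferInstance, inferInstance,
    r E (spMap (g0 A) (χ A A')) (r E (rb' (g0 A) (R := Polynomial A)) t), ?_⟩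
  have h1 : m β _ (r E (rb' (g0 A) (R := Polynomial A) (R' := Polynomial A ⊗[A] A')) t) =
      m f _ (gas (toO (g0 A) (Polynomial A ⊗[A] A') (Polynomial.X ⊗ₜ 1))) := by
    rw [m_r, ht, r_r, r_r, Category.assoc, ← rb_spMap, ← Category.assoc, rb'_rb, Category.id_comp, r_f]
    rfl
  rw [m_r, h1, r_f, χ_X]

end main

end K772.PicLoc
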