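import Groth.Agent.GaDual.K772.ExtZero
import Groth.Agent.GaDual.K772.PicLoc
import Groth.Agent.GaDual.K772.CocLoc

/-!
# Extensions of `G_a` by `G_m` in characteristic `p` split locally (helper772)
-/

set_option autoImplicit false
universe u
open CategoryTheory CategoryTheory.Limits AlgebraicGeometry Opposite

noncomputable section

namespace K772.LocSplit

open Groth.Agent.Etdl.H432.Sec K771.Pts K771 K772.BC K772.GaCoc
open Groth.Agent.Etdl.H494.Sp hiding ev
open K771.HomEv (hom)

section affine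

variable {A : Type u} [CommRing A] (A' : Type u) [CommRing A'] [Algebra A A']

/-- `Spec A'[x]` over `Spec A`. -/
def j : up (sp (g0 A) A') (sp (g0 A') (Polynomial A')) ⟶ sp (g0 A) (Polynomial A') :=
  Over.homMk (𝟙 (Spec (CommRingCat.of (Polynomial A')))) (by
    change 𝟙 _ ≫ Spec.map (CommRingCat.ofHom (algebraMap A (Polynomial A'))) ≫ g0 A =
      (Spec.map (CommRingCat.ofHom (algebraMap A' (Polynomial A'))) ≫ g0 A') ≫
        Spec.map (CommRingCat.ofHom (algebraMap A A')) ≫ g0 A
    rw [Category.id_comp, Category.comp_id, Category.comp_id, Category.comp_id, ← Spec.map_comp,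
      ← CommRingCat.ofHom_comp])

theorem ro_j (x : Polynomial A') : oU _ _ (ro (j (A := A) A') (toO (g0 A) (Polynomial A') x)) =
    toO (g0 A') (Polynomial A') x := by
  change (Scheme.Hom.appTop (𝟙 (Spec (CommRingCat.of (Polynomial A'))))).hom
    ((Scheme.ΓSpecIso (CommRingCat.of (Polynomial A'))).inv.hom x) =
    (Scheme.ΓSpecIso (CommRingCat.of (Polynomial A'))).inv.hom x
  simp

theorem flat_up [Module.FaithfullyFlat A A'] [Algebra.FinitePresentation A A'] (A'' : Type u) [CommRing A'']
    [Algebra A' A''] [Module.FaithfullyFlat A' A''] [Algebra.FinitePresentation A' A''] :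
    Flat (up (sp (g0 A) A') (sp (g0 A') A'')).hom ∧
      LocallyOfFinitePresentation (up (sp (g0 A) A') (sp (g0 A') A'')).hom ∧
      Function.Surjective (up (sp (g0 A) A') (sp (g0 A') A'')).hom := by
  let _ : Algebra A A'' := ((algebraMap A' A'').comp (algebraMap A A')).toAlgebra
  have : IsScalarTower A A' A'' := IsScalarTower.of_algebraMap_eq fun _ => rfl
  have : Module.FaithfullyFlat A A'' := Module.FaithfullyFlat.trans A A' A''
  have : Algebra.FinitePresentation A A'' := Algebra.FinitePresentation.trans A A' A''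
  have e : (up (sp (g0 A) A') (sp (g0 A') A'')).hom = Spec.map (CommRingCat.ofHom (algebraMap A A'')) := by
    change (Spec.map (CommRingCat.ofHom (algebraMap A' A'')) ≫ g0 A') ≫
        Spec.map (CommRingCat.ofHom (algebraMap A A')) ≫ g0 A = _
    rw [Category.comp_id, Category.comp_id, ← Spec.map_comp, ← CommRingCat.ofHom_comp]
  have hff : (algebraMap A A'').FaithfullyFlat := RingHom.faithfullyFlat_algebraMap_iff.2 inferInstance
  have hfp : (algebraMap A A'').FinitePresentation := RingHom.finitePresentation_algebraMap.2 inferInstance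
  rw [RingHom.FaithfullyFlat.iff_flat_and_comap_surjective] at hff
  rw [e]
  refine ⟨?_, ?_, hff.2⟩
  · exact (HasRingHomProperty.Spec_iff (P := @Flat)).2 hff.1
  · exact (HasRingHomProperty.Spec_iff (P := @LocallyOfFinitePresentation)).2 hfp

end affine

section main

variable (p : ℕ) [hp : Fact p.Prime] {A : Type u} [CommRing A] [CharP A p]
  {E : EtFppf.AbF (Spec (CommRingCat.of A))} {α : Gm (Spec (CommRingCat.of A)) ⟶ E}
  {β : E ⟶ Ga (Spec (CommRingCat.of A))}
  {w : α ≫ β = 0} (hS : (ShortComplex.mk α β w).ShortExact)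

include p hS in
/-- Extensions over an affine scheme of characteristic `p` split over a covering. -/
theorem exists_hasSec : ∃ T : Over (Spec (CommRingCat.of A)), Flat T.hom ∧ LocallyOfFinitePresentation T.hom ∧
    Function.Surjective T.hom ∧ HasSec β T := by
  obtain ⟨A', _, _, _, _, t, ht⟩ := PicLoc.exists_lift_xu p hS (𝟙 _)
  rw [m_id] at ht
  let Y : Over (Spec (CommRingCat.of A)) := sp (g0 A) A'
  let t' : Γs (rst Y E) (sp (g0 A') (Polynomial A')) := (sec Y E _).symm (r E (j (A := A) A') t)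
  have ht' : m (bβ β Y) _ t' = m (𝟙 (Ga (Spec (CommRingCat.of A')))) _ (xu A') := by
    rw [m_id]
    apply ga_injective
    refine (ga_bβ β Y _ t').trans ?_
    rw [AddEquiv.apply_symm_apply, m_r, ht, r_gas, ga_gas]
    refine (ro_j A' _).trans ?_
    rw [xu, ga_gas]
  obtain ⟨h, hu, h0, hsymm, hcoc, hlift⟩ := GaCoc.exists_coc (bS α β w hS Y) (𝟙 _) t' ht'
  have : CharP A' p := CocLoc.charP_of_ff (R := A) A'
  obtain ⟨A'', _, _, _, _, f, hf, hf'⟩ := CocLoc.exists_cover_of_unit (p := p) A' h hu h0 hsymm hcoc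
  let T' : Over (Spec (CommRingCat.of A')) := sp (g0 A') A''
  have hstr : (str T' : A' →+* O T') = (toO (g0 A') A'').comp (algebraMap A' A'') := by
    ext a
    exact str_sp a
  obtain ⟨e, he⟩ := hlift T' (f.map (toO (g0 A') A'')) (hf.map (Polynomial.mapRingHom (toO (g0 A') A''))) (by
    have h1 := congrArg (MvPolynomial.map (σ := Fin 2) (toO (g0 A') A'')) hf'
    have h2 : ∀ a : MvPolynomial (Fin 2) A'', MvPolynomial.map (toO (g0 A') A'') (Polynomial.aeval a f) =
        Polynomial.aeval (MvPolynomial.map (toO (g0 A') A'') a) (f.map (toO (g0 A') A'')) := by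
      intro a
      rw [Polynomial.aeval_def, Polynomial.hom_eval₂, Polynomial.aeval_def, Polynomial.eval₂_map]
      congr 1
      ext b : 1
      exact MvPolynomial.map_C _ _
    rw [map_mul, map_mul, h2, h2, h2, map_add, MvPolynomial.map_X, MvPolynomial.map_X, MvPolynomial.map_map,
      ← hstr] at h1
    exact h1)
  have hsec : HasSec (bβ β Y) T' := ⟨e, fun W k s => he W k s⟩
  obtain ⟨h1, h2, h3⟩ := flat_up (A := A) A' A''
  exact ⟨up Y T', h1, h2, h3, hsec.bc⟩

end main

/-- Extensions over an affine scheme in which `p = 0` are locally split. -/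
theorem lSplit (p : ℕ) [hp : Fact p.Prime] (X : Scheme.{u}) [IsAffine X] (hX : (p : Γ(X, ⊤)) = 0)
    {E : EtFppf.AbF X} {α : Gm X ⟶ E} {β : E ⟶ Ga X} {w : α ≫ β = 0}
    (hS : (ShortComplex.mk α β w).ShortExact) : LSplit β := by
  intro x
  have : Nontrivial Γ(X, ⊤) := by
    have h2 : Nonempty (Spec Γ(X, ⊤)) := ⟨X.isoSpec.hom x⟩
    exact PrimeSpectrum.nonempty_iff_nontrivial.1 h2
  have : CharP Γ(X, ⊤) p := (CharP.charP_iff_prime_eq_zero Fact.out).2 hX
  let Y : Over X := Over.mk (X.isoSpec.inv)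
  obtain ⟨T, h1, h2, h3, h4⟩ := exists_hasSec p (A := Γ(X, ⊤)) (bS α β w hS Y)
  obtain ⟨y, hy⟩ := h3 (X.isoSpec.hom x)
  refine ⟨up Y T, ?_, ?_, ⟨y, ?_⟩, h4.bc⟩
  · exact inferInstanceAs (Flat (T.hom ≫ X.isoSpec.inv))
  · exact inferInstanceAs (LocallyOfFinitePresentation (T.hom ≫ X.isoSpec.inv))
  · change (T.hom ≫ X.isoSpec.inv) y = x
    rw [Scheme.Hom.comp_apply, hy]
    exact congr($(X.isoSpec.hom_inv_id) x)

end K772.LocSplit
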