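import Mathlib.RingTheory.AdjoinRoot
import Mathlib.Algebra.CharP.Frobenius
import Mathlib.NumberTheory.Wilson

/-!
# Multiplicative 2-cocycles of `α_p` are coboundaries over rings with surjective Frobenius (helper772)

`T p B = B[y]/(y^p)`, `d` its derivation.  A natural multiplicative normalised 2-cocycle `h` on
`α_p(B) = {b | b^p = 0}`, `B` an `R`-algebra, is `F(a+b)/(F(a)F(b))` for a natural invertible function `F`:
with `ω(a) = ∂_z h(a,z)|_{z=0}`, `F` is the solution of `F' = F (c + ω)`, `c ^ p` the top coefficient of `ω`.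
-/

set_option autoImplicit false
universe u

open Polynomial

noncomputable section

namespace K772.AlphaCoc

section T

variable (p : ℕ) {B : Type u} [CommRing B]

/-- `B[y]/(y^p)`. -/
abbrev T (B : Type u) [CommRing B] : Type u := AdjoinRoot ((X : B[X]) ^ p)

variable (B) in
/-- The generator. -/
abbrev y : T p B := AdjoinRoot.root ((X : B[X]) ^ p)

theorem y_pow : y p B ^ p = 0 := by
  have h : AdjoinRoot.mk ((X : B[X]) ^ p) (X ^ p) = 0 := AdjoinRoot.mk_self
  rwa [map_pow, AdjoinRoot.mk_X] at h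

theorem mk_X' : AdjoinRoot.mk ((X : B[X]) ^ p) X = y p B := AdjoinRoot.mk_X

variable (B) in
/-- The derivation `d/dy`. -/
def d : T p B →ₗ[B] T p B :=
  (AdjoinRoot.mkₐ ((X : B[X]) ^ p)).toLinearMap ∘ₗ (derivative : B[X] →ₗ[B] B[X]) ∘ₗ
    AdjoinRoot.modByMonicHom (monic_X_pow p)

theorem d_mk (hp : (p : B) = 0) (f : B[X]) :
    d p B (AdjoinRoot.mk _ f) = AdjoinRoot.mk _ (derivative f) := by
  change AdjoinRoot.mk _ (derivative (AdjoinRoot.modByMonicHom (monic_X_pow p) (AdjoinRoot.mk _ f))) = _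
  rw [AdjoinRoot.modByMonicHom_mk]
  conv_rhs => rw [← modByMonic_add_div f ((X : B[X]) ^ p)]
  rw [derivative_add, derivative_mul, derivative_X_pow, hp, C_0, zero_mul, zero_mul, zero_add, map_add, map_mul,
    AdjoinRoot.mk_self, zero_mul, add_zero]

theorem d_mul (hp : (p : B) = 0) (u v : T p B) : d p B (u * v) = u * d p B v + v * d p B u := by
  obtain ⟨f, rfl⟩ := AdjoinRoot.mk_surjective u
  obtain ⟨g, rfl⟩ := AdjoinRoot.mk_surjective v
  rw [← map_mul, d_mk p hp, d_mk p hp, d_mk p hp, derivative_mul, map_add, map_mul, map_mul]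
  ring

theorem d_y (hp : (p : B) = 0) : d p B (y p B) = 1 := by
  have h := d_mk p hp (X : B[X])
  rw [AdjoinRoot.mk_X, derivative_X, map_one] at h
  exact h

theorem d_algebraMap (hp : (p : B) = 0) (b : B) : d p B (algebraMap B _ b) = 0 := by
  rw [AdjoinRoot.algebraMap_eq, ← AdjoinRoot.mk_C, d_mk p hp, derivative_C, map_zero]

variable {p}

/-- The algebra map `T p B → C` with `y ↦ c`. -/
def ev {C : Type*} [CommRing C] (f : B →+* C) (c : C) (hc : c ^ p = 0) : T p B →+* C :=
  AdjoinRoot.lift f c (by rw [eval₂_X_pow, hc])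

@[simp] theorem ev_y {C : Type*} [CommRing C] (f : B →+* C) (c : C) (hc : c ^ p = 0) : ev f c hc (y p B) = c :=
  AdjoinRoot.lift_root _

@[simp] theorem ev_algebraMap {C : Type*} [CommRing C] (f : B →+* C) (c : C) (hc : c ^ p = 0) (b : B) :
    ev f c hc (algebraMap B _ b) = f b :=
  AdjoinRoot.lift_of _

@[simp] theorem ev_mk {C : Type*} [CommRing C] (f : B →+* C) (c : C) (hc : c ^ p = 0) (g : B[X]) :
    ev f c hc (AdjoinRoot.mk _ g) = g.eval₂ f c :=
  AdjoinRoot.lift_mk _ _

/-- Chain rule. -/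
theorem chain {C E : Type*} [CommRing C] [CommRing E] (hp : (p : B) = 0) (f : T p B →+* C) (ε : C →+* E)
    (D : C →+ E) (hD : ∀ u v, D (u * v) = ε u * D v + ε v * D u) (h0 : ∀ b : B, D (f (algebraMap B _ b)) = 0)
    (u : T p B) : D (f u) = ε (f (d p B u)) * D (f (y p B)) := by
  obtain ⟨g, rfl⟩ := AdjoinRoot.mk_surjective u
  rw [d_mk p hp]
  have hpow : ∀ (w : C) (n : ℕ), D (w ^ n) = n * ε w ^ (n - 1) * D w := by
    intro w n
    induction n with
    | zero =>
      have h1 : D (1 * 1) = ε 1 * D 1 + ε 1 * D 1 := hD 1 1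
      rw [one_mul, RingHom.map_one, one_mul] at h1
      have h2 : D 1 = 0 := by
        have h3 : D 1 + 0 = D 1 + D 1 := by rw [add_zero]; exact h1
        exact (add_left_cancel h3).symm
      rw [pow_zero, h2, Nat.cast_zero, zero_mul, zero_mul]
    | succ n ih =>
      rw [pow_succ, hD, ih]
      cases n with
      | zero => simp
      | succ n =>
        rw [Nat.add_sub_cancel, Nat.add_sub_cancel, map_pow]
        push_cast
        ring
  induction g using Polynomial.induction_on' with
  | add g₁ g₂ h₁ h₂ => rw [map_add, map_add, map_add, h₁, h₂, derivative_add, map_add, map_add, map_add]; ring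
  | monomial n b =>
    have h1 : AdjoinRoot.mk ((X : B[X]) ^ p) (monomial n b) = algebraMap B _ b * y p B ^ n := by
      rw [← C_mul_X_pow_eq_monomial, map_mul, map_pow, AdjoinRoot.mk_X, AdjoinRoot.mk_C, AdjoinRoot.algebraMap_eq]
    have h2 : AdjoinRoot.mk ((X : B[X]) ^ p) (derivative (monomial n b)) =
        algebraMap B _ b * (n * y p B ^ (n - 1)) := by
      rw [derivative_monomial, ← C_mul_X_pow_eq_monomial, map_mul, map_pow, AdjoinRoot.mk_X, AdjoinRoot.mk_C,
        AdjoinRoot.algebraMap_eq, map_mul, map_natCast]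
      ring
    rw [h1, h2, map_mul, hD, h0, mul_zero, add_zero, map_pow, hpow, map_mul, map_mul, map_mul, map_mul, map_natCast,
      map_natCast, map_pow, map_pow]
    ring

theorem isUnit_natCast [Fact p.Prime] (hp : (p : B) = 0) {i : ℕ} (hi : 0 < i) (hip : i < p) : IsUnit (i : B) := by
  have h1 : Nat.Coprime i p := ((Nat.coprime_comm.1 (Nat.coprime_of_lt_prime hi.ne' hip (Fact.out (p := p.Prime)))))
  have h := (Nat.isCoprime_iff_coprime.2 h1).map (Int.castRingHom B)
  simp only [map_natCast, hp] at h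
  exact isCoprime_zero_right.1 h

/-- The kernel of `d` consists of constants. -/
theorem eq_algebraMap [Fact p.Prime] (hp : (p : B) = 0) (v : T p B) (hv : d p B v = 0) :
    v = algebraMap B _ (ev (RingHom.id B) 0 (zero_pow (Fact.out (p := p.Prime)).ne_zero) v) := by
  have hpp : p.Prime := Fact.out
  obtain ⟨g, rfl⟩ := AdjoinRoot.mk_surjective v
  rw [d_mk p hp, AdjoinRoot.mk_eq_zero, X_pow_dvd_iff] at hv
  have h1 : AdjoinRoot.mk ((X : B[X]) ^ p) g = AdjoinRoot.mk _ (C (g.coeff 0)) := by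
    rw [AdjoinRoot.mk_eq_mk, X_pow_dvd_iff]
    intro i hi
    rw [coeff_sub, coeff_C]
    obtain _ | i := i
    · rw [if_pos rfl, sub_self]
    · rw [if_neg (Nat.succ_ne_zero i), sub_zero]
      have h2 := hv i (lt_of_le_of_lt (Nat.le_succ i) hi)
      rw [coeff_derivative] at h2
      have h3 := isUnit_natCast hp (Nat.succ_pos i) hi
      rw [Nat.cast_succ] at h3
      exact (h3.mul_left_eq_zero).1 h2
  rw [h1, ev_mk, eval₂_C, AdjoinRoot.mk_C, AdjoinRoot.algebraMap_eq]
  rfl

end T

section Coc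

variable (p : ℕ) (R : Type u) [CommRing R]

/-- A natural normalised 2-cocycle on `α_p` over `R`. -/
structure Coc where
  /-- the values -/
  h : ∀ (B : Type u) [CommRing B] [Algebra R B], B → B → B
  nat : ∀ {B B' : Type u} [CommRing B] [Algebra R B] [CommRing B'] [Algebra R B'] (f : B →ₐ[R] B') (a b : B),
    a ^ p = 0 → b ^ p = 0 → h B' (f a) (f b) = f (h B a b)
  coc : ∀ {B : Type u} [CommRing B] [Algebra R B] (a b c : B), a ^ p = 0 → b ^ p = 0 → c ^ p = 0 →
    h B b c * h B a (b + c) = h B (a + b) c * h B a b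
  hr : ∀ {B : Type u} [CommRing B] [Algebra R B] (a : B), a ^ p = 0 → h B a 0 = 1
  hl : ∀ {B : Type u} [CommRing B] [Algebra R B] (a : B), a ^ p = 0 → h B 0 a = 1

variable {p R}

/-- `ev` as an algebra map. -/
def evA {B C : Type u} [CommRing B] [Algebra R B] [CommRing C] [Algebra R C] (f : B →ₐ[R] C) (c : C)
    (hc : c ^ p = 0) : T p B →ₐ[R] C :=
  AdjoinRoot.liftAlgHom _ f c (by
    rw [eval₂_X_pow, hc])

theorem evA_apply {B C : Type u} [CommRing B] [Algebra R B] [CommRing C] [Algebra R C] (f : B →ₐ[R] C) (c : C)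
    (hc : c ^ p = 0) (u : T p B) : evA f c hc u = ev (f : B →+* C) c hc u := rfl

/-- The inclusion of constants. -/
def inc {B : Type u} [CommRing B] [Algebra R B] : B →ₐ[R] T p B := IsScalarTower.toAlgHom R B (T p B)

theorem inc_apply {B : Type u} [CommRing B] [Algebra R B] (b : B) : (inc : B →ₐ[R] T p B) b = algebraMap B _ b := rfl

theorem alg_pow {B : Type u} [CommRing B] {a : B} (ha : a ^ p = 0) : (algebraMap B (T p B) a) ^ p = 0 := by
  rw [← map_pow, ha, map_zero]

variable (H : Coc p R) [Fact p.Prime]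

omit [CommRing R] in
theorem zero_pow_p {B : Type*} [CommRing B] : (0 : B) ^ p = 0 := zero_pow (Fact.out (p := p.Prime)).ne_zero

theorem add_pow_p {B : Type*} [CommRing B] (hp : (p : B) = 0) {a b : B} (ha : a ^ p = 0) (hb : b ^ p = 0) :
    (a + b) ^ p = 0 := by
  obtain ⟨r, hr⟩ := (Commute.all a b).exists_add_pow_prime_eq (Fact.out (p := p.Prime))
  rw [hr, ha, hb, hp, zero_mul, zero_mul, zero_mul, add_zero, add_zero]

/-- The logarithmic derivative of the cocycle in the second variable at the origin. -/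
def om {B : Type u} [CommRing B] [Algebra R B] (a : B) : B :=
  ev (RingHom.id B) 0 zero_pow_p (d p B (H.h (T p B) (algebraMap B _ a) (y p B)))

theorem om_nat {B B' : Type u} [CommRing B] [Algebra R B] [CommRing B'] [Algebra R B'] (hp : (p : B) = 0)
    (hp' : (p : B') = 0) (f : B →ₐ[R] B') (a : B) (ha : a ^ p = 0) : om H (f a) = f (om H a) := by
  let F : T p B →ₐ[R] T p B' := evA (inc.comp f) (y p B') (y_pow p)
  have h1 : F (H.h (T p B) (algebraMap B _ a) (y p B)) = H.h (T p B') (algebraMap B' _ (f a)) (y p B') := by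
    rw [← H.nat F _ _ (alg_pow ha) (y_pow p)]
    rw [show F (algebraMap B _ a) = algebraMap B' _ (f a) from ev_algebraMap _ _ (y_pow p) _,
      show F (y p B) = y p B' from ev_y _ _ (y_pow p)]
  have h2 : ∀ u, d p B' (F u) = F (d p B u) := by
    intro u
    have h3 := chain (p := p) hp (F : T p B →+* T p B') (RingHom.id _) (d p B').toAddMonoidHom
      (fun u v => d_mul p hp' u v) (fun b => by
        have h4 : F (algebraMap B _ b) = algebraMap B' _ (f b) := ev_algebraMap _ _ (y_pow p) _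
        exact (congrArg (d p B') h4).trans (d_algebraMap p hp' _)) u
    have h5 : F (y p B) = y p B' := ev_y _ _ (y_pow p)
    change d p B' (F u) = F (d p B u) * d p B' (F (y p B)) at h3
    rw [h3, h5, d_y p hp', mul_one]
  have h6 : ∀ u, ev (RingHom.id B') 0 zero_pow_p (F u) = f (ev (RingHom.id B) 0 zero_pow_p u) := by
    intro u
    obtain ⟨g, rfl⟩ := AdjoinRoot.mk_surjective u
    rw [ev_mk]
    change ev _ _ _ (ev (((inc : B' →ₐ[R] T p B').comp f : B →ₐ[R] T p B') : B →+* T p B') (y p B')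
      (y_pow p) _) = _
    rw [ev_mk, hom_eval₂, ev_y]
    have h7 := hom_eval₂ g (RingHom.id B) (f : B →+* B') 0
    rw [map_zero] at h7
    refine Eq.trans ?_ h7.symm
    congr 1
    ext b
    exact ev_algebraMap _ _ (zero_pow_p (p := p)) _
  rw [om, om, ← h1, h2, h6]

/-- The differential equation satisfied by the cocycle. -/
theorem d_h {B : Type u} [CommRing B] [Algebra R B] (hp : (p : B) = 0) (a : B) (ha : a ^ p = 0) :
    d p B (H.h (T p B) (algebraMap B _ a) (y p B)) =
      H.h (T p B) (algebraMap B _ a) (y p B) * (om H (algebraMap B _ a + y p B) - om H (y p B)) := by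
  have hpC : (p : T p B) = 0 := by rw [← map_natCast (algebraMap B (T p B)), hp, map_zero]
  have hpE : (p : T p (T p B)) = 0 := by rw [← map_natCast (algebraMap (T p B) (T p (T p B))), hpC, map_zero]
  let A : T p (T p B) := algebraMap _ _ (algebraMap B (T p B) a)
  let Y : T p (T p B) := algebraMap _ _ (y p B)
  let Z : T p (T p B) := y p (T p B)
  have hA : A ^ p = 0 := alg_pow (alg_pow ha)
  have hY : Y ^ p = 0 := alg_pow (y_pow p)
  have hZ : Z ^ p = 0 := y_pow p
  have hYZ : (Y + Z) ^ p = 0 := add_pow_p hpE hY hZ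
  have hcoc := H.coc A Y Z hA hY hZ
  let ε : T p (T p B) →ₐ[R] T p B := evA (AlgHom.id R _) 0 zero_pow_p
  let D : T p (T p B) →+ T p B := ε.toRingHom.toAddMonoidHom.comp (d p (T p B)).toAddMonoidHom
  have hD : ∀ u v, D (u * v) = ε u * D v + ε v * D u := by
    intro u v
    change ε (d p (T p B) (u * v)) = ε u * ε (d p (T p B) v) + ε v * ε (d p (T p B) u)
    rw [d_mul p hpC, map_add, map_mul, map_mul]
  have hDc : ∀ u : T p B, D (algebraMap _ _ u) = 0 := by
    intro u
    change ε (d p (T p B) (algebraMap _ _ u)) = 0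
    rw [d_algebraMap p hpC, map_zero]
  have hεc : ∀ u : T p B, ε (algebraMap _ _ u) = u := fun u => ev_algebraMap _ _ zero_pow_p _
  have hεZ : ε Z = 0 := ev_y _ _ zero_pow_p
  have hinc : ∀ u : T p B, (inc : T p B →ₐ[R] T p (T p B)) u = algebraMap _ _ u := fun _ => rfl
  -- values
  have e1 : ε (H.h _ Y Z) = 1 := by
    rw [← H.nat ε _ _ hY hZ, hεc, hεZ, H.hr _ (y_pow p)]
  have e2 : ε (H.h _ A (Y + Z)) = H.h _ (algebraMap B _ a) (y p B) := by
    rw [← H.nat ε _ _ hA hYZ, map_add, hεc, hεc, hεZ, add_zero]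
  have hAY : H.h _ A Y = algebraMap _ _ (H.h _ (algebraMap B _ a) (y p B)) := by
    rw [← hinc, ← H.nat _ _ _ (alg_pow ha) (y_pow p)]
    rfl
  have e3 : ε (H.h _ (A + Y) Z) = 1 := by
    rw [← H.nat ε _ _ (add_pow_p hpE hA hY) hZ, map_add, hεc, hεc, hεZ,
      H.hr _ (add_pow_p hpC (alg_pow ha) (y_pow p))]
  have e4 : D (H.h _ A Y) = 0 := by rw [hAY, hDc]
  have e5 : ε (H.h _ A Y) = H.h _ (algebraMap B _ a) (y p B) := by rw [hAY, hεc]
  have e6 : D (H.h _ Y Z) = om H (y p B) := rfl
  have e7 : D (H.h _ (A + Y) Z) = om H (algebraMap B _ a + y p B) := by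
    change D (H.h _ (algebraMap _ _ (algebraMap B (T p B) a) + algebraMap _ _ (y p B)) Z) = _
    rw [← map_add]
    rfl
  let f : T p B →ₐ[R] T p (T p B) := evA ((inc : T p B →ₐ[R] _).comp inc) (Y + Z) hYZ
  have hfy : f (y p B) = Y + Z := ev_y _ _ hYZ
  have hfc : ∀ b, f (algebraMap B _ b) = algebraMap _ _ (algebraMap B (T p B) b) :=
    fun b => ev_algebraMap _ _ hYZ _
  have e8 : D (H.h _ A (Y + Z)) = d p B (H.h _ (algebraMap B _ a) (y p B)) := by
    have h1 : H.h _ A (Y + Z) = f (H.h _ (algebraMap B _ a) (y p B)) := by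
      rw [← H.nat f _ _ (alg_pow ha) (y_pow p), hfy, hfc]
    rw [h1]
    have h2 := chain (p := p) hp (f : T p B →+* T p (T p B)) (ε : T p (T p B) →+* T p B) D hD
      (fun b => (congrArg D (hfc b)).trans (hDc _)) (H.h _ (algebraMap B _ a) (y p B))
    have h3 : D (f (y p B)) = 1 := by
      rw [hfy, map_add, hDc, zero_add]
      change ε (d p (T p B) (y p (T p B))) = 1
      rw [d_y p hpC, map_one]
    have h4 : ∀ u, ε (f u) = u := by
      intro u
      obtain ⟨g, rfl⟩ := AdjoinRoot.mk_surjective u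
      change ε (ev _ _ hYZ _) = _
      rw [ev_mk]
      have h5 := hom_eval₂ g ((((inc : T p B →ₐ[R] _).comp inc : B →ₐ[R] T p (T p B)) : B →+* T p (T p B)))
        (ε : T p (T p B) →+* T p B) (Y + Z)
      refine h5.trans ?_
      have h6 : (ε : T p (T p B) →+* T p B) (Y + Z) = AdjoinRoot.mk _ X := by
        rw [AdjoinRoot.mk_X]
        change ε (Y + Z) = _
        rw [map_add, hεc, hεZ, add_zero]
      have h7 : ((ε : T p (T p B) →+* T p B).comp
          (((inc : T p B →ₐ[R] _).comp inc : B →ₐ[R] T p (T p B)) : B →+* T p (T p B))) =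
          (AdjoinRoot.mk ((X : B[X]) ^ p)).comp C := by
        ext b
        exact (hεc _)
      rw [h6, h7, ← hom_eval₂, eval₂_C_X]
    refine h2.trans ?_
    change ε (f _) * D (f (y p B)) = _
    rw [h3, h4, mul_one]
  have h := congrArg D hcoc
  rw [hD, hD, e1, e2, e3, e4, e5, e6, e7, e8] at h
  linear_combination h

/-- Truncated exponential calculus: `F = 1 + V + ⋯ + V^(p-1)/(p-1)!`. -/
theorem exists_exp {B : Type u} [CommRing B] (hp : (p : B) = 0) (V : T p B) :
    ∃ F : T p B, d p B F = (F + V ^ (p - 1)) * d p B V ∧ ∃ G, F = 1 + V * G := by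
  have hpp : p.Prime := Fact.out
  obtain ⟨q, hq⟩ : ∃ q, p = q + 1 := ⟨p - 1, (Nat.succ_pred_eq_of_pos hpp.pos).symm⟩
  have hq' : p - 1 = q := by omega
  rw [hq']
  have hpow : ∀ n : ℕ, d p B (V ^ (n + 1)) = (n + 1 : ℕ) * V ^ n * d p B V := by
    intro n
    induction n with
    | zero => rw [zero_add, pow_one, pow_zero, Nat.cast_one, one_mul, one_mul]
    | succ n ih => rw [pow_succ V (n + 1), d_mul _ hp, ih]; push_cast; ring
  -- inverse factorials
  have hfac : ∀ n : ℕ, n ≤ q → ∃ c : B, c * (n.factorial : B) = 1 := by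
    intro n hn
    induction n with
    | zero => exact ⟨1, by simp⟩
    | succ n ih =>
      obtain ⟨c, hc⟩ := ih (by omega)
      obtain ⟨e, he⟩ := (isUnit_natCast (B := B) (p := p) hp (Nat.succ_pos n) (by omega)).exists_left_inv
      refine ⟨c * e, ?_⟩
      rw [Nat.factorial_succ, Nat.cast_mul]
      linear_combination hc * (e * ((n + 1 : ℕ) : B)) + he
  have hc : ∀ n : ℕ, ∃ c : B, n ≤ q → c * (n.factorial : B) = 1 := by
    intro n
    by_cases h : n ≤ q
    · obtain ⟨c, hc⟩ := hfac n h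
      exact ⟨c, fun _ => hc⟩
    · exact ⟨0, fun h' => absurd h' h⟩
  choose c hc using hc
  have hc0 : c 0 = 1 := by simpa using hc 0 (Nat.zero_le _)
  have hcs : ∀ n, n + 1 ≤ q → c (n + 1) * ((n + 1 : ℕ) : B) = c n := by
    intro n hn
    have h1 := hc n (by omega)
    have h2 := hc (n + 1) hn
    rw [Nat.factorial_succ, Nat.cast_mul] at h2
    linear_combination c n * h2 - c (n + 1) * ((n + 1 : ℕ) : B) * h1
  have hcq : c q = -1 := by
    have h1 := hc q le_rfl
    have h2 : ((q.factorial : ℕ) : B) = -1 := by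
      have h3 := ZMod.wilsons_lemma p
      rw [hq'] at h3
      have h4 : ((q.factorial + 1 : ℕ) : ZMod p) = 0 := by
        rw [Nat.cast_add, h3, Nat.cast_one, neg_add_cancel]
      obtain ⟨k, hk⟩ := (ZMod.natCast_eq_zero_iff _ _).1 h4
      have h5 := congrArg (Nat.cast : ℕ → B) hk
      rw [Nat.cast_mul, hp, zero_mul, Nat.cast_add, Nat.cast_one] at h5
      linear_combination h5
    rw [h2] at h1
    linear_combination -h1
  have key : ∀ n, n ≤ q → d p B (∑ i ∈ Finset.range (n + 1), algebraMap B _ (c i) * V ^ i) =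
      (∑ i ∈ Finset.range n, algebraMap B _ (c i) * V ^ i) * d p B V := by
    intro n hn
    induction n with
    | zero =>
      rw [Finset.sum_range_one, Finset.sum_range_zero, pow_zero, mul_one, d_algebraMap _ hp, zero_mul]
    | succ n ih =>
      rw [Finset.sum_range_succ, map_add, ih (by omega), d_mul _ hp, d_algebraMap _ hp, mul_zero, add_zero,
        hpow, Finset.sum_range_succ _ n, add_mul, ← hcs n hn, map_mul, map_natCast]
      ring
  refine ⟨∑ i ∈ Finset.range (q + 1), algebraMap B _ (c i) * V ^ i, ?_,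
    ∑ i ∈ Finset.range q, algebraMap B _ (c (i + 1)) * V ^ i, ?_⟩
  · rw [key q le_rfl, Finset.sum_range_succ, hcq, map_neg, map_one]
    ring
  · rw [Finset.sum_range_succ', hc0, map_one, pow_zero, mul_one, add_comm, Finset.mul_sum]
    congr 1
    refine Finset.sum_congr rfl fun i _ => ?_
    rw [pow_succ V i]
    ring

theorem two_mul_le : p ≤ (p - 1) + (p - 1) := by
  have h := (Fact.out (p := p.Prime)).two_le
  omega

theorem exists_eq_add_mul {B : Type u} [CommRing B] (u : T p B) :
    ∃ G, u = algebraMap B _ (ev (RingHom.id B) 0 (zero_pow_p (p := p)) u) + y p B * G := by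
  obtain ⟨g, rfl⟩ := AdjoinRoot.mk_surjective u
  refine ⟨AdjoinRoot.mk _ (divX g), ?_⟩
  rw [ev_mk, AdjoinRoot.algebraMap_eq, ← AdjoinRoot.mk_C, ← mk_X', ← map_mul, ← map_add]
  congr 1
  rw [eval₂_id, ← coeff_zero_eq_eval_zero, add_comm]
  exact (X_mul_divX_add g).symm

/-- Every element is a derivative up to a multiple of `y^(p-1)`. -/
theorem exists_antider {B : Type u} [CommRing B] (hp : (p : B) = 0) (u : T p B) :
    ∃ (V : T p B) (r : B), u = d p B V + algebraMap B _ r * y p B ^ (p - 1) ∧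
      ∃ G, V = y p B * (algebraMap B _ (ev (RingHom.id B) 0 (zero_pow_p (p := p)) u) + y p B * G) := by
  have hpp : p.Prime := Fact.out
  obtain ⟨g, rfl⟩ := AdjoinRoot.mk_surjective u
  induction g using Polynomial.induction_on' with
  | add g₁ g₂ h₁ h₂ =>
    obtain ⟨V₁, r₁, e₁, G₁, k₁⟩ := h₁
    obtain ⟨V₂, r₂, e₂, G₂, k₂⟩ := h₂
    refine ⟨V₁ + V₂, r₁ + r₂, ?_, G₁ + G₂, ?_⟩
    · rw [map_add, map_add, map_add]
      linear_combination e₁ + e₂
    · rw [map_add, map_add, map_add]
      linear_combination k₁ + k₂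
  | monomial n b =>
    have h1 : AdjoinRoot.mk ((X : B[X]) ^ p) (monomial n b) = algebraMap B _ b * y p B ^ n := by
      rw [← C_mul_X_pow_eq_monomial, map_mul, map_pow, AdjoinRoot.mk_X, AdjoinRoot.mk_C, AdjoinRoot.algebraMap_eq]
    rw [ev_mk, h1]
    have h2 : eval₂ (RingHom.id B) 0 (monomial n b) = if n = 0 then b else 0 := by
      rw [eval₂_id, eval_monomial]
      split_ifs with h
      · rw [h, pow_zero, mul_one]
      · rw [zero_pow h, mul_zero]
    rw [h2]
    rcases lt_trichotomy n (p - 1) with h | h | h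
    · obtain ⟨e, he⟩ := (isUnit_natCast (B := B) (p := p) hp (Nat.succ_pos n) (by omega)).exists_left_inv
      refine ⟨algebraMap B _ (b * e) * y p B ^ (n + 1), 0, ?_, ?_⟩
      · have h3 : d p B (algebraMap B _ (b * e) * y p B ^ (n + 1)) = algebraMap B _ b * y p B ^ n := by
          rw [← mk_X', ← map_pow, AdjoinRoot.algebraMap_eq, ← AdjoinRoot.mk_C, ← map_mul, d_mk p hp,
            derivative_C_mul_X_pow, ← AdjoinRoot.mk_C, ← map_pow, ← map_mul]
          congr 2
          rw [mul_assoc, he, mul_one]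
        rw [h3, map_zero, zero_mul, add_zero]
      · obtain _ | n := n
        · refine ⟨0, ?_⟩
          rw [if_pos rfl]
          have he' : e = 1 := by simpa using he
          rw [he', mul_one, zero_add, pow_one]
          ring
        · rw [if_neg (Nat.succ_ne_zero n)]
          refine ⟨algebraMap B _ (b * e) * y p B ^ n, ?_⟩
          rw [map_zero, zero_add, pow_succ (y p B), pow_succ (y p B)]
          ring
    · refine ⟨0, b, ?_, 0, ?_⟩
      · rw [map_zero, zero_add, h]
      · have h3 : n ≠ 0 := by have := hpp.two_le; omega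
        rw [if_neg h3, map_zero, mul_zero, add_zero, mul_zero]
    · have h3 : n ≠ 0 := by have := hpp.two_le; omega
      refine ⟨0, 0, ?_, 0, ?_⟩
      · rw [map_zero, map_zero, zero_mul, zero_add]
        obtain ⟨k, hk⟩ : ∃ k, n = p + k := ⟨n - p, by omega⟩
        rw [hk, pow_add (y p B), y_pow, zero_mul, mul_zero]
      · rw [if_neg h3, map_zero, mul_zero, add_zero, mul_zero]

/-- The differential equation `F' = F (c + W)`, `W(0) = 0`, has a solution if `c ^ p` is the top coefficient
of `W`. -/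
theorem exists_sol {B : Type u} [CommRing B] (hp : (p : B) = 0) (hF : ∀ r : B, ∃ c, c ^ p = r) (W : T p B)
    (hW : ev (RingHom.id B) 0 (zero_pow_p (p := p)) W = 0) :
    ∃ (F : T p B) (c : B), d p B F = F * (algebraMap B _ c + W) ∧ ∃ G, F = 1 + y p B * G := by
  have hpp : p.Prime := Fact.out
  obtain ⟨V₀, r, hV, G₀, hG₀⟩ := exists_antider hp W
  rw [hW, map_zero, zero_add] at hG₀
  obtain ⟨c, hc⟩ := hF r
  obtain ⟨W₁, hW₁⟩ := exists_eq_add_mul W
  rw [hW, map_zero, zero_add] at hW₁
  obtain ⟨F, hdF, G, hG⟩ := exists_exp hp (V₀ + algebraMap B _ c * y p B)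
  have hV' : d p B (V₀ + algebraMap B _ c * y p B) = W + algebraMap B _ c - algebraMap B _ r * y p B ^ (p - 1) := by
    rw [map_add, d_mul p hp, d_y p hp, d_algebraMap p hp]
    linear_combination -hV
  have hyp : y p B ^ (p - 1) * y p B = 0 := by
    rw [← pow_succ, Nat.sub_add_cancel hpp.one_le, y_pow]
  have hVp : (V₀ + algebraMap B _ c * y p B) ^ (p - 1) = algebraMap B _ (c ^ (p - 1)) * y p B ^ (p - 1) := by
    have e1 : V₀ + algebraMap B _ c * y p B = y p B * (algebraMap B _ c + y p B * G₀) := by rw [hG₀]; ring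
    obtain ⟨K, hK⟩ : y p B * G₀ ∣ (algebraMap B _ c + y p B * G₀) ^ (p - 1) - (algebraMap B _ c) ^ (p - 1) := by
      have := sub_dvd_pow_sub_pow (algebraMap B (T p B) c + y p B * G₀) (algebraMap B _ c) (p - 1)
      rwa [add_sub_cancel_left] at this
    rw [e1, mul_pow, map_pow]
    linear_combination y p B ^ (p - 1) * hK + G₀ * K * hyp
  have hyy : y p B ^ (p - 1) * y p B ^ (p - 1) = 0 := by
    rw [← pow_add, pow_eq_zero_of_le two_mul_le (y_pow p)]
  have hcp : algebraMap B (T p B) (c ^ (p - 1)) * algebraMap B _ c = algebraMap B _ r := by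
    rw [← map_mul, ← pow_succ, Nat.sub_add_cancel hpp.one_le, hc]
  refine ⟨F, c, ?_, (algebraMap B _ c + y p B * G₀) * G, ?_⟩
  · rw [hdF, hV', hVp]
    have hFy : F * y p B ^ (p - 1) = y p B ^ (p - 1) := by
      rw [hG, hG₀]
      linear_combination (y p B * G₀ + algebraMap B _ c) * G * hyp
    linear_combination (-algebraMap B _ r) * hFy + algebraMap B _ (c ^ (p - 1)) * y p B ^ (p - 1) * hW₁ +
      algebraMap B _ (c ^ (p - 1)) * W₁ * hyp - algebraMap B _ (c ^ (p - 1)) * algebraMap B _ r * hyy +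
      y p B ^ (p - 1) * hcp
  · rw [hG, hG₀]
    ring

/-- Evaluation of a function on `α_p` at a point of an `R`-algebra. -/
def at' {B : Type u} [CommRing B] [Algebra R B] (F : T p R) (b : B) (hb : b ^ p = 0) : B :=
  ev (algebraMap R B) b hb F

omit [Fact p.Prime] in
theorem at'_nat {B B' : Type u} [CommRing B] [Algebra R B] [CommRing B'] [Algebra R B'] (f : B →ₐ[R] B') (F : T p R)
    (b : B) (hb : b ^ p = 0) (hb' : f b ^ p = 0) : f (at' F b hb) = at' F (f b) hb' := by
  obtain ⟨g, rfl⟩ := AdjoinRoot.mk_surjective F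
  rw [at', at', ev_mk, ev_mk]
  refine (hom_eval₂ g (algebraMap R B) (f : B →+* B') b).trans ?_
  congr 1
  ext r
  exact f.commutes r

omit [Fact p.Prime] in
theorem at'_congr {B : Type u} [CommRing B] [Algebra R B] (F : T p R) {b c : B} (hb : b ^ p = 0) (h : b = c) :
    at' F b hb = at' F c (h ▸ hb) := by
  subst h
  rfl

include H in
theorem isUnit_h {B : Type u} [CommRing B] [Algebra R B] (a b : B) (ha : a ^ p = 0)
    (hb : b ^ p = 0) : IsUnit (H.h B a b) := by
  obtain ⟨G, hG⟩ := exists_eq_add_mul (H.h (T p B) (algebraMap B _ a) (y p B))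
  have h1 : ev (RingHom.id B) 0 (zero_pow_p (p := p)) (H.h (T p B) (algebraMap B _ a) (y p B)) = 1 := by
    have h2 := H.nat (evA (AlgHom.id R B) 0 zero_pow_p) (algebraMap B _ a) (y p B) (alg_pow ha) (y_pow p)
    rw [show evA (AlgHom.id R B) 0 zero_pow_p (algebraMap B _ a) = a from ev_algebraMap _ _ (zero_pow_p (p := p)) _,
      show evA (AlgHom.id R B) 0 zero_pow_p (y p B) = 0 from ev_y _ _ (zero_pow_p (p := p)), H.hr _ ha] at h2
    exact h2.symm
  rw [h1, map_one] at hG
  have h3 := H.nat (evA (AlgHom.id R B) b hb) (algebraMap B _ a) (y p B) (alg_pow ha) (y_pow p)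
  rw [show evA (AlgHom.id R B) b hb (algebraMap B _ a) = a from ev_algebraMap _ _ hb _,
    show evA (AlgHom.id R B) b hb (y p B) = b from ev_y _ _ hb] at h3
  rw [h3, hG]
  refine IsUnit.map _ (IsNilpotent.isUnit_one_add ?_)
  exact ⟨p, by rw [mul_pow, y_pow, zero_mul]⟩

omit [Fact p.Prime] in
theorem isUnit_at' {B : Type u} [CommRing B] [Algebra R B] (F : T p R) (hF : ∃ G, F = 1 + y p R * G) (b : B)
    (hb : b ^ p = 0) : IsUnit (at' F b hb) := by
  obtain ⟨G, hG⟩ := hF
  rw [at', hG]
  refine IsUnit.map _ (IsNilpotent.isUnit_one_add ?_)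
  exact ⟨p, by rw [mul_pow, y_pow, zero_mul]⟩

/-- **Splitting.** -/
theorem exists_split (hp : (p : R) = 0) (hF : ∀ r : R, ∃ c, c ^ p = r) :
    ∃ F : T p R, (∃ G, F = 1 + y p R * G) ∧ ∀ {B : Type u} [CommRing B] [Algebra R B] (a b : B) (ha : a ^ p = 0)
      (hb : b ^ p = 0) (hab : (a + b) ^ p = 0), at' F (a + b) hab = at' F a ha * at' F b hb * H.h B a b := by
  let W : T p R := om H (y p R)
  have hpT : (p : T p R) = 0 := by rw [← map_natCast (algebraMap R (T p R)), hp, map_zero]
  have hW : ev (RingHom.id R) 0 (zero_pow_p (p := p)) W = 0 := by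
    have h1 := om_nat H hpT hp (evA (AlgHom.id R R) 0 zero_pow_p) (y p R) (y_pow p)
    rw [show evA (AlgHom.id R R) 0 zero_pow_p (y p R) = 0 from ev_y _ _ (zero_pow_p (p := p))] at h1
    refine h1.symm.trans ?_
    rw [om, map_zero, H.hl _ (y_pow p)]
    have h2 := d_algebraMap p hp (1 : R)
    rw [map_one] at h2
    rw [h2, map_zero]
  obtain ⟨F, c, hdF, G, hG⟩ := exists_sol hp hF W hW
  refine ⟨F, ⟨G, hG⟩, ?_⟩
  intro B _ _ a b ha hb hab
  have hpB : (p : B) = 0 := by rw [← map_natCast (algebraMap R B), hp, map_zero]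
  have hpTB : (p : T p B) = 0 := by rw [← map_natCast (algebraMap B (T p B)), hpB, map_zero]
  -- the derivative of `F (g y)`
  have hder : ∀ (e : T p B) (he : e ^ p = 0), d p B e = 1 →
      d p B (at' F e he) = at' F e he * (algebraMap R _ c + om H e) := by
    intro e he hde
    have h1 := chain (p := p) hp (ev (algebraMap R (T p B)) e he) (RingHom.id _) (d p B).toAddMonoidHom
      (fun u v => d_mul p hpB u v) (fun r => by
        refine (congrArg (d p B) (ev_algebraMap _ _ he _)).trans ?_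
        rw [IsScalarTower.algebraMap_apply R B (T p B)]
        exact d_algebraMap p hpB _) F
    have h2 : (d p B) (ev (algebraMap R (T p B)) e he (y p R)) = 1 := by rw [ev_y, hde]
    have h3 : at' W e he = om H e := by
      have h4 := om_nat H hpT hpTB (evA (Algebra.ofId R (T p B)) e he) (y p R) (y_pow p)
      rw [show evA (Algebra.ofId R (T p B)) e he (y p R) = e from ev_y _ _ he] at h4
      exact h4.symm
    refine h1.trans ?_
    change ev (algebraMap R (T p B)) e he (d p R F) * d p B (ev (algebraMap R (T p B)) e he (y p R)) = _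
    rw [h2, mul_one, hdF, map_mul, map_add, ev_algebraMap]
    rw [← h3]
    rfl
  have hay : (algebraMap B (T p B) a + y p B) ^ p = 0 := add_pow_p hpTB (alg_pow ha) (y_pow p)
  set u : T p B := at' F (algebraMap B (T p B) a + y p B) hay with hu
  set v : T p B := algebraMap B _ (at' F a ha) * at' F (y p B) (y_pow p) * H.h _ (algebraMap B _ a) (y p B) with hv
  have hdu : d p B u = u * (algebraMap R _ c + om H (algebraMap B (T p B) a + y p B)) :=
    hder _ hay (by rw [map_add, d_algebraMap p hpB, d_y p hpB, zero_add])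
  have hdv : d p B v = v * (algebraMap R _ c + om H (algebraMap B (T p B) a + y p B)) := by
    rw [hv, d_mul p hpB, d_mul p hpB, d_algebraMap p hpB, hder _ (y_pow p) (d_y p hpB), d_h H hpB a ha]
    ring
  have hvu : IsUnit v := by
    refine (IsUnit.mul (IsUnit.map _ (isUnit_at' F ⟨G, hG⟩ a ha)) (isUnit_at' F ⟨G, hG⟩ _ _)).mul
      (isUnit_h H _ _ (alg_pow ha) (y_pow p))
  obtain ⟨w, hw⟩ := hvu.exists_right_inv
  have hdw : d p B w = -(w * (algebraMap R _ c + om H (algebraMap B (T p B) a + y p B))) := by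
    have h1 := d_mul p hpB v w
    rw [hw] at h1
    have h2 := d_algebraMap p hpB (1 : B)
    rw [map_one] at h2
    rw [h2, hdv] at h1
    linear_combination (-w) * h1 - (d p B w + w * (algebraMap R _ c + om H (algebraMap B (T p B) a + y p B))) * hw
  have hduw : d p B (u * w) = 0 := by
    rw [d_mul p hpB, hdu, hdw]
    ring
  have hconst := eq_algebraMap hpB _ hduw
  -- evaluation at `0`
  have hF0 : ∀ {C : Type u} [CommRing C] [Algebra R C], at' F (0 : C) zero_pow_p = 1 := by
    intro C _ _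
    rw [at', hG, map_add, map_mul, ev_y, zero_mul, add_zero, map_one]
  have hev : ∀ (e : B) (he : e ^ p = 0), ∃ φ : T p B →ₐ[R] B, φ (y p B) = e ∧ (∀ x, φ (algebraMap B _ x) = x) :=
    fun e he => ⟨evA (AlgHom.id R B) e he, ev_y _ _ he, fun x => ev_algebraMap _ _ he x⟩
  have hφu : ∀ (e : B) (he : e ^ p = 0) (φ : T p B →ₐ[R] B), φ (y p B) = e → (∀ x, φ (algebraMap B _ x) = x) →
      φ u = at' F (a + e) (add_pow_p hpB ha he) := by
    intro e he φ h1 h2
    have h3 : φ (algebraMap B (T p B) a + y p B) = a + e := by rw [map_add, h1, h2]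
    rw [hu, at'_nat φ F _ hay (by rw [h3]; exact add_pow_p hpB ha he)]
    exact at'_congr F _ h3
  have hφv : ∀ (e : B) (he : e ^ p = 0) (φ : T p B →ₐ[R] B), φ (y p B) = e → (∀ x, φ (algebraMap B _ x) = x) →
      φ v = at' F a ha * at' F e he * H.h B a e := by
    intro e he φ h1 h2
    rw [hv, map_mul, map_mul, h2, at'_nat φ F _ (y_pow p) (by rw [h1]; exact he),
      ← H.nat φ _ _ (alg_pow ha) (y_pow p), h2, at'_congr F _ h1]
    exact congrArg (fun t => at' F a ha * at' F e he * H.h B a t) h1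
  obtain ⟨φ, h1, h2⟩ := hev 0 zero_pow_p
  have huv0 : φ u = φ v := by
    rw [hφu 0 zero_pow_p φ h1 h2, hφv 0 zero_pow_p φ h1 h2, H.hr _ ha, hF0, mul_one, mul_one]
    exact at'_congr F _ (add_zero a)
  have hφuw : φ (u * w) = 1 := by
    rw [map_mul, huv0, ← map_mul, hw, map_one]
  have huw : u * w = 1 := by
    rw [hconst] at hφuw ⊢
    rw [h2] at hφuw
    rw [hφuw, map_one]
  have huv : u = v := by
    linear_combination (-u) * hw + v * huw
  obtain ⟨ψ, h3, h4⟩ := hev b hb
  have := congrArg ψ huv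
  rw [hφu b hb ψ h3 h4, hφv b hb ψ h3 h4] at this
  exact this

end Coc

end K772.AlphaCoc
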