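import Groth.Agent.GaDual.K772.AlphaExt
import Groth.Agent.GaDual.K771.FrobSeq
import Groth.Agent.GaDual.K771.HExt

/-!
# Dévissage of `α_{p^n}` (helper772)

`0 ⟶ α_p ⟶ α_{p^(n+1)} ⟶ α_{p^n} ⟶ 0` and `Ext¹(α_{p^n}, Gm) = 0`.
-/

set_option autoImplicit false
universe u
open CategoryTheory CategoryTheory.Limits AlgebraicGeometry Opposite

noncomputable section

namespace K772.AlphaDev

open Groth.Agent.Etdl.H432.Sec K772.AlphaPts K772.AlphaExt K771.Pts K771.Aff K771.AffHom

variable {p : ℕ} [Fact p.Prime] {R : Type u} [CommRing R] [CharP R p]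

theorem al_pow_succ (n : ℕ) {T : Over (Spec (CommRingCat.of R))} (s : Γs (Al p 1 R) T) : al s ^ (p ^ (n + 1)) = 0 := by
  rw [pow_succ', pow_mul, al_pow', zero_pow (pow_ne_zero n (Fact.out (p := p.Prime)).ne_zero)]

/-- The section of `α_{p^n}` with given function. -/
def mkAl {n : ℕ} {T : Over (Spec (CommRingCat.of R))} (b : O T) (hb : b ^ (p ^ n) = 0) : Γs (Al p n R) T :=
  (exists_al b hb).choose

theorem al_mkAl {n : ℕ} {T : Over (Spec (CommRingCat.of R))} (b : O T) (hb : b ^ (p ^ n) = 0) :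
    al (mkAl (R := R) b hb) = b := (exists_al b hb).choose_spec

theorem al_neg {n : ℕ} {T : Over (Spec (CommRingCat.of R))} (s : Γs (Al p n R) T) : al (-s) = - al s := by
  have h := al_add (-s) s
  rw [neg_add_cancel, al_zero] at h
  exact eq_neg_of_add_eq_zero_left h.symm

/-- Inclusion. -/
def incl (n : ℕ) : Al p 1 R ⟶ Al p (n + 1) R :=
  ExtSplit.ofMaps (fun T => AddMonoidHom.mk' (fun s => mkAl (al s) (al_pow_succ n s))
    (fun s t => by
      apply al_injective
      rw [al_mkAl, al_add, al_add, al_mkAl, al_mkAl]))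
    (fun {T T'} g s => by
      apply al_injective
      change al (r _ g (mkAl (al s) (al_pow_succ n s))) = al (mkAl (al (r _ g s)) (al_pow_succ n (r _ g s)))
      rw [al_r, al_mkAl, al_mkAl, al_r])

theorem al_incl (n : ℕ) {T : Over (Spec (CommRingCat.of R))} (s : Γs (Al p 1 R) T) :
    al (m (incl n) T s) = al s :=
  al_mkAl (al s) (al_pow_succ n s)

theorem al_pow_frob (n : ℕ) {T : Over (Spec (CommRingCat.of R))} (s : Γs (Al p (n + 1) R) T) :
    (al s ^ p) ^ (p ^ n) = 0 := by
  rw [← pow_mul, ← pow_succ', al_pow]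

theorem add_pow_p {T : Over (Spec (CommRingCat.of R))} (a b : O T) : (a + b) ^ p = a ^ p + b ^ p := by
  let _ : Algebra R (O T) := (K831.Pts.str T).toAlgebra
  have h := AlphaPn.add_pow_prime_pow p 1 R (Commute.all a b)
  rwa [pow_one] at h

/-- Frobenius. -/
def frobn (n : ℕ) : Al p (n + 1) R ⟶ Al p n R :=
  ExtSplit.ofMaps (fun T => AddMonoidHom.mk' (fun s => mkAl (al s ^ p) (al_pow_frob n s))
    (fun s t => by
      apply al_injective
      rw [al_mkAl, al_add, al_add, al_mkAl, al_mkAl, add_pow_p]))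
    (fun {T T'} g s => by
      apply al_injective
      change al (r _ g (mkAl (al s ^ p) (al_pow_frob n s))) = al (mkAl (al (r _ g s) ^ p) (al_pow_frob n (r _ g s)))
      rw [al_r, al_mkAl, al_mkAl, al_r, map_pow])

theorem al_frobn (n : ℕ) {T : Over (Spec (CommRingCat.of R))} (s : Γs (Al p (n + 1) R) T) :
    al (m (frobn n) T s) = al s ^ p :=
  al_mkAl (al s ^ p) (al_pow_frob n s)

theorem incl_frobn (n : ℕ) : incl (p := p) (R := R) n ≫ frobn n = 0 := by
  apply ExtSplit.hom_ext
  intro T s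
  rw [m_comp, m_zero]
  apply al_injective
  rw [al_frobn, al_incl, al_pow', al_zero]

variable (p R) in
/-- `0 ⟶ α_p ⟶ α_{p^(n+1)} ⟶ α_{p^n} ⟶ 0`. -/
def seq (n : ℕ) : ShortComplex (EtFppf.AbF (Spec (CommRingCat.of R))) :=
  ShortComplex.mk (incl (p := p) (R := R) n) (frobn n) (incl_frobn n)

theorem shortExact (n : ℕ) : (seq p R n).ShortExact := by
  refine shortExact_of_affine _ (fun T hT s hs => ?_) (fun T hT s hs => ?_) (fun T hT t => ?_)
  · change Γs (Al p 1 R) T at s
    change s = 0
    apply al_injective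
    rw [← al_incl n, show m (incl n) T s = 0 from hs, al_zero, al_zero]
  · change Γs (Al p (n + 1) R) T at s
    have h1 : al s ^ p = 0 := by
      rw [← al_frobn, show m (frobn n) T s = 0 from hs, al_zero]
    obtain ⟨a, ha⟩ := exists_al (n := 1) (al s) (by rw [pow_one, h1])
    refine ⟨a, ?_⟩
    change m (incl n) T a = s
    apply al_injective
    rw [al_incl, ha]
  · change Γs (Al p n R) T at t
    let f : Polynomial (O T) := Polynomial.X ^ p - Polynomial.C (al t)
    have hf : f.Monic := Polynomial.monic_X_pow_sub_C _ (Fact.out (p := p.Prime)).ne_zero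
    rcases subsingleton_or_nontrivial (O T) with hA | hA
    · refine ⟨PUnit, fun _ => T, fun _ => 𝟙 T, isCov_id T, fun _ => ⟨0, ?_⟩⟩
      apply al_injective (p := p) (n := n)
      exact Subsingleton.elim _ _
    have hroot : (e (AdjoinRoot.of f) (AdjoinRoot.root f)) ^ p = ro (π (AdjoinRoot.of f)) (al t) := by
      rw [ro_π, ← map_pow]
      congr 1
      have h1 := AdjoinRoot.eval₂_root f
      simp only [f, Polynomial.eval₂_sub, Polynomial.eval₂_X_pow, Polynomial.eval₂_C, sub_eq_zero] at h1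
      exact h1
    obtain ⟨s, hs⟩ := exists_al (p := p) (n := n + 1) (e (AdjoinRoot.of f) (AdjoinRoot.root f)) (by
      rw [pow_succ', pow_mul, hroot, ← map_pow, al_pow, map_zero])
    refine ⟨PUnit, fun _ => aff (AdjoinRoot.of f), fun _ => π (AdjoinRoot.of f),
      K771.FrobSeq.isCov_π _ (K771.FrobSeq.faithfullyFlat_adjoinRoot hf ?_) ?_, fun _ => ⟨s, ?_⟩⟩
    · rw [Polynomial.natDegree_X_pow_sub_C]
      exact (Fact.out (p := p.Prime)).pos
    · exact (RingHom.finitePresentation_algebraMap (A := O T) (B := AdjoinRoot f)).2 inferInstance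
    · change m (frobn n) _ s = r (Al p n R) _ t
      apply al_injective
      rw [al_frobn, hs, hroot, al_r]

theorem isZero_zero : IsZero (Al p 0 R) := by
  rw [IsZero.iff_id_eq_zero]
  apply ExtSplit.hom_ext
  intro T s
  apply al_injective
  rw [m_id, m_zero, al_zero]
  have h := al_pow s
  rwa [pow_zero, pow_one] at h

/-- `Ext¹(α_{p^n}, Gm) = 0` if Frobenius is surjective on `R`. -/
theorem subsingleton_ext_one (hF : Function.Surjective (frobenius R p)) (n : ℕ) :
    Subsingleton (Abelian.Ext (Al p n R) (Gm (Spec (CommRingCat.of R))) 1) := by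
  induction n with
  | zero => exact K771.HExt.sub_of_isZero_left isZero_zero 1
  | succ n ih =>
    have h1 : Subsingleton (Abelian.Ext (seq p R n).X₁ (Gm (Spec (CommRingCat.of R))) 1) :=
      AlphaExt.subsingleton_ext_one hF
    have h2 : Subsingleton (Abelian.Ext (seq p R n).X₃ (Gm (Spec (CommRingCat.of R))) 1) := ih
    exact K771.HExt.sub₂' (shortExact n) (Gm (Spec (CommRingCat.of R))) 1

end K772.AlphaDev
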