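import Groth.Agent.GaDual.K772.AlphaPts
import Groth.Agent.GaDual.K772.AlphaCoc

/-!
# `Ext¹(α_p, Gm) = 0` over rings with surjective Frobenius (helper772)
-/

set_option autoImplicit false
universe u
open CategoryTheory CategoryTheory.Limits AlgebraicGeometry Opposite

noncomputable section

namespace K772.AlphaExt

open Groth.Agent.Etdl.H432.Sec Groth.Agent.Etdl.H494.Sp K772.AlphaPts K771.Pts K772.Lift

variable {p : ℕ} [Fact p.Prime] {n : ℕ} {R : Type u} [CommRing R] [CharP R p]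

/-- The base map. -/
abbrev g0 (R : Type u) [CommRing R] : Spec (CommRingCat.of R) ⟶ Spec (CommRingCat.of R) := 𝟙 _

section pt

variable {B : Type u} [CommRing B] [Algebra R B] {B' : Type u} [CommRing B'] [Algebra R B']

variable (p n) in
open Classical in
/-- The point of `α_{p^n}` over `Spec B` given by an element. -/
def pt (b : B) : Γs (Al p n R) (sp (g0 R) B) :=
  if h : b ^ (p ^ n) = 0 then (exists_al (toO (g0 R) B b) (by rw [← map_pow, h, map_zero])).choose else 0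

theorem al_pt {b : B} (h : b ^ (p ^ n) = 0) : al (pt (R := R) p n b) = toO (g0 R) B b := by
  rw [pt, dif_pos h]
  exact (exists_al (toO (g0 R) B b) (by rw [← map_pow, h, map_zero])).choose_spec

theorem pt_add {a b : B} (ha : a ^ (p ^ n) = 0) (hb : b ^ (p ^ n) = 0) (hab : (a + b) ^ (p ^ n) = 0) :
    pt (R := R) p n (a + b) = pt p n a + pt p n b := by
  apply al_injective
  rw [al_add, al_pt hab, al_pt ha, al_pt hb, map_add]

theorem pt_zero (h0 : (0 : B) ^ (p ^ n) = 0) : pt (R := R) p n (0 : B) = 0 := by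
  apply al_injective
  rw [al_pt h0, al_zero, map_zero]

theorem ro_spMap_toO (f : B →ₐ[R] B') (b : B) : ro (spMap (g0 R) f) (toO (g0 R) B b) = toO (g0 R) B' (f b) := by
  have h := ev_spMap (g0 R) (𝟙 _) f b
  rwa [Category.id_comp, ev_apply, ev_apply, ro_id] at h

theorem r_pt (f : B →ₐ[R] B') {b : B} (h : b ^ (p ^ n) = 0) :
    r (Al p n R) (spMap (g0 R) f) (pt p n b) = pt p n (f b) := by
  apply al_injective
  rw [al_r, al_pt h, al_pt (by rw [← map_pow, h, map_zero]), ro_spMap_toO]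

end pt

/-- The canonical map to the spectrum of the ring of functions. -/
theorem exists_τ (T : Over (Spec (CommRingCat.of R))) :
    letI : Algebra R (O T) := (K831.Pts.str T).toAlgebra
    ∃ τ : T ⟶ sp (g0 R) (O T), ∀ b, ro τ (toO (g0 R) (O T) b) = b := by
  letI : Algebra R (O T) := (K831.Pts.str T).toAlgebra
  let τ₀ : T ⟶ sp (g0 R) R := Over.homMk T.hom (by
    change T.hom ≫ Spec.map (𝟙 _) ≫ 𝟙 _ = T.hom
    rw [Spec.map_id, Category.comp_id, Category.comp_id])
  obtain ⟨τ, hτ⟩ := exists_hom (g0 R) (R := O T) τ₀ (RingHom.id _) (fun b => rfl)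
  exact ⟨τ, hτ⟩

section Phi

open AlphaCoc

theorem al_pow' {T : Over (Spec (CommRingCat.of R))} (s : Γs (Al p 1 R) T) : al s ^ p = 0 := by
  have h := al_pow s
  rwa [pow_one] at h

/-- The value of a function on `α_p`. -/
def Φv (F : T p R) {T : Over (Spec (CommRingCat.of R))} (s : Γs (Al p 1 R) T) : O T :=
  AlphaCoc.ev (K831.Pts.str T) (al s) (al_pow' s) F

theorem ev_congr {B C : Type u} [CommRing B] [CommRing C] {f f' : B →+* C} (hf : f = f') {c c' : C} (hcc : c = c')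
    (hc : c ^ p = 0) (hc' : c' ^ p = 0) (F : T p B) : AlphaCoc.ev f c hc F = AlphaCoc.ev f' c' hc' F := by
  subst hf hcc
  rfl

theorem comp_ev {B C D : Type u} [CommRing B] [CommRing C] [CommRing D] (f : B →+* C) (k : C →+* D) (c : C)
    (hc : c ^ p = 0) (hc' : (k c) ^ p = 0) (F : T p B) :
    k (AlphaCoc.ev f c hc F) = AlphaCoc.ev (k.comp f) (k c) hc' F := by
  obtain ⟨g, rfl⟩ := AdjoinRoot.mk_surjective F
  rw [ev_mk, ev_mk, Polynomial.hom_eval₂]

theorem ro_Φv (F : T p R) {T T' : Over (Spec (CommRingCat.of R))} (g : T' ⟶ T) (s : Γs (Al p 1 R) T) :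
    ro g (Φv F s) = Φv F (r (Al p 1 R) g s) := by
  have h : (ro g (al s)) ^ p = 0 := by rw [← map_pow, al_pow', map_zero]
  rw [Φv, comp_ev _ _ _ _ h]
  exact ev_congr (K831.Pts.str_comp g) (al_r g s).symm _ _ _

theorem isUnit_Φv (F : T p R) (hF : ∃ G, F = 1 + y p R * G) {T : Over (Spec (CommRingCat.of R))}
    (s : Γs (Al p 1 R) T) : IsUnit (Φv F s) := by
  obtain ⟨G, rfl⟩ := hF
  refine IsUnit.map _ (IsNilpotent.isUnit_one_add ?_)
  exact ⟨p, by rw [mul_pow, y_pow, zero_mul]⟩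

theorem Φv_pt (F : T p R) {B : Type u} [CommRing B] [Algebra R B] (b : B) (hb : b ^ p = 0) :
    Φv F (pt (R := R) p 1 b) = toO (g0 R) B (AlphaCoc.at' F b hb) := by
  have h1 : b ^ (p ^ 1) = 0 := by rw [pow_one, hb]
  have h2 : (toO (g0 R) B b) ^ p = 0 := by rw [← map_pow, hb, map_zero]
  rw [AlphaCoc.at', comp_ev _ _ _ _ h2]
  refine ev_congr ?_ (al_pt h1) _ _ _
  ext x
  change (Spec.map (CommRingCat.ofHom (algebraMap R B)) ≫ 𝟙 _).appTop.hom
    ((Scheme.ΓSpecIso (CommRingCat.of R)).inv.hom x) = (Scheme.ΓSpecIso (CommRingCat.of B)).inv.hom (algebraMap R B x)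
  rw [Category.comp_id]
  exact congr($((Scheme.ΓSpecIso_inv_naturality (CommRingCat.ofHom (algebraMap R B))).symm).hom x)

end Phi

open AlphaCoc in
/-- `α_p` has no nontrivial extensions by `Gm` if Frobenius is surjective on `R`. -/
theorem exists_split (hF : Function.Surjective (frobenius R p))
    {E : EtFppf.AbF (Spec (CommRingCat.of R))} {α : Gm (Spec (CommRingCat.of R)) ⟶ E}
    {β : E ⟶ Al p 1 R} {w : α ≫ β = 0} (hS : (ShortComplex.mk α β w).ShortExact) :
    ∃ γ : Al p 1 R ⟶ E, γ ≫ β = 𝟙 _ := by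
  obtain ⟨t, ht⟩ := exists_lift_univ p 1 R hS
  obtain ⟨σ, h1, h2, h3⟩ := ExtSplit.exists_section univ t ht
  obtain ⟨c, hc, hcn, hcc, hc0, hc0', -⟩ := ExtSplit.exists_cocycle hS σ h1 h2 h3
  have hz : ∀ (B : Type u) [CommRing B], (0 : B) ^ (p ^ 1) = 0 := fun B _ => by
    rw [pow_one, zero_pow (Fact.out (p := p.Prime)).ne_zero]
  have hp1 : ∀ {B : Type u} [CommRing B] {a : B}, a ^ p = 0 → a ^ (p ^ 1) = 0 := fun h => by rwa [pow_one]
  have hpB : ∀ (B : Type u) [CommRing B] [Algebra R B], (p : B) = 0 := fun B _ _ => AlphaPn.natCast_eq_zero p R B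
  let H : Coc p R :=
    { h := fun B _ _ a b => gmr (g0 R) (c (sp (g0 R) B) (pt p 1 a) (pt p 1 b))
      nat := fun f a b ha hb => by
        rw [← gmr_map, hcn, r_pt f (hp1 ha), r_pt f (hp1 hb)]
      coc := fun {B} _ _ a b v ha hb hv => by
        rw [pt_add (hp1 hb) (hp1 hv) (hp1 (add_pow_p (hpB B) hb hv)),
          pt_add (hp1 ha) (hp1 hb) (hp1 (add_pow_p (hpB B) ha hb)), ← gmr_add, ← gmr_add, hcc]
      hr := fun {B} _ _ a ha => by
        rw [pt_zero (hz B), hc0, gmr_zero]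
      hl := fun {B} _ _ a ha => by
        rw [pt_zero (hz B), hc0', gmr_zero] }
  obtain ⟨F, hF1, hF2⟩ := AlphaCoc.exists_split H (hpB R) (fun r => hF r)
  choose Φ hΦ using fun (T : Over (Spec (CommRingCat.of R))) (s : Γs (Al p 1 R) T) =>
    exists_gm (U := T) (isUnit_Φv F hF1 s)
  have hΦn : ∀ (T T' : Over (Spec (CommRingCat.of R))) (g : T' ⟶ T) (s : Γs (Al p 1 R) T),
      r (Gm (Spec (CommRingCat.of R))) g (Φ T s) = Φ T' (r (Al p 1 R) g s) := by
    intro T T' g s
    apply gm_injective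
    rw [gm_r, hΦ, hΦ, ro_Φv]
  refine ExtSplit.exists_split w σ h1 h2 c hc Φ hΦn ?_
  intro T s t
  letI : Algebra R (O T) := (K831.Pts.str T).toAlgebra
  obtain ⟨τ, hτ⟩ := exists_τ (R := R) T
  have hs : r (Al p 1 R) τ (pt p 1 (al s)) = s := by
    apply al_injective
    rw [al_r, al_pt (al_pow s), hτ]
  have ht : r (Al p 1 R) τ (pt p 1 (al t)) = t := by
    apply al_injective
    rw [al_r, al_pt (al_pow t), hτ]
  have key : Φ _ (pt p 1 (al s) + pt p 1 (al t)) = Φ _ (pt p 1 (al s)) + Φ _ (pt p 1 (al t)) +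
      c (sp (g0 R) (O T)) (pt p 1 (al s)) (pt p 1 (al t)) := by
    have hst := add_pow_p (hpB (O T)) (al_pow' s) (al_pow' t)
    rw [← pt_add (hp1 (al_pow' s)) (hp1 (al_pow' t)) (hp1 hst)]
    have hg : ∀ (a : O T) (ha : a ^ p = 0), gmr (g0 R) (Φ _ (pt p 1 a)) = at' F a ha := by
      intro a ha
      rw [gmr, hΦ, Φv_pt F a ha, ofO_toO]
    apply gmr_injective (g0 R)
    rw [gmr_add, gmr_add, hg _ hst, hg _ (al_pow' s), hg _ (al_pow' t)]
    exact hF2 _ _ _ _ _
  have key2 := congrArg (r (Gm (Spec (CommRingCat.of R))) τ) key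
  rw [map_add, map_add, hΦn, hΦn, hΦn, hcn, map_add, hs, ht] at key2
  exact key2

/-- `Ext¹(α_p, Gm) = 0`. -/
theorem subsingleton_ext_one (hF : Function.Surjective (frobenius R p)) :
    Subsingleton (Abelian.Ext (Al p 1 R) (Gm (Spec (CommRingCat.of R))) 1) :=
  ExtSplit.subsingleton_ext_one_of _ _ fun _ _ _ _ hS => exists_split hF hS

end K772.AlphaExt
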