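import Groth.Agent.Etdl.H432.IQ
import Groth.Agent.Etcore.Yext

/-!
# Extensions of a representable abelian sheaf and 2-cocycles (helper772)

Big fppf site of `X`, `0 → M → E → A → 0` exact, `A` represented by `G` with universal section `u`.

* `exists_section`: if `u` lifts to `E` then there is a natural normalised set-theoretic section `σ`.
* `exists_cocycle`: its natural normalised symmetric 2-cocycle `c`, `α (c s t) = σ s + σ t - σ (s + t)`.
* `exists_split`: if `c` is the coboundary of a natural function then the extension splits.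
* `subsingleton_ext_one_of`: `Ext¹(A, M) = 0` if all extensions split.
-/

set_option autoImplicit false
universe u
open CategoryTheory CategoryTheory.Limits AlgebraicGeometry Opposite

noncomputable section

namespace K772.ExtSplit

open Groth.Agent.Etdl.H432.Sec

variable {X : Scheme.{u}}

/-- `A` is represented by `G`. -/
structure Univ (A : EtFppf.AbF X) (G : Over X) where
  /-- the universal section -/
  u : Γs A G
  /-- the classifying map -/
  pt : ∀ {T : Over X}, Γs A T → (T ⟶ G)
  r_pt : ∀ {T : Over X} (s : Γs A T), r A (pt s) u = s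
  pt_r : ∀ {T T' : Over X} (g : T' ⟶ T) (s : Γs A T), pt (r A g s) = g ≫ pt s

/-- The morphism of sheaves given by natural additive maps. -/
def ofMaps {A E : EtFppf.AbF X} (f : ∀ T : Over X, Γs A T →+ Γs E T)
    (hf : ∀ {T T' : Over X} (g : T' ⟶ T) (s : Γs A T), r E g (f T s) = f T' (r A g s)) : A ⟶ E where
  hom :=
    { app := fun T => AddCommGrpCat.ofHom (f T.unop)
      naturality := fun T T' g => by
        refine AddCommGrpCat.ext fun s => ?_
        exact (hf g.unop s).symm }

theorem m_ofMaps {A E : EtFppf.AbF X} (f : ∀ T : Over X, Γs A T →+ Γs E T)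
    (hf : ∀ {T T' : Over X} (g : T' ⟶ T) (s : Γs A T), r E g (f T s) = f T' (r A g s)) (T : Over X) (s : Γs A T) :
    m (ofMaps f hf) T s = f T s := rfl

theorem hom_ext {A E : EtFppf.AbF X} {φ ψ : A ⟶ E} (h : ∀ (T : Over X) (s : Γs A T), m φ T s = m ψ T s) : φ = ψ :=
  Sheaf.hom_ext (NatTrans.ext (funext fun T => AddCommGrpCat.ext fun s => h T.unop s))

variable {M E A : EtFppf.AbF X} {α : M ⟶ E} {β : E ⟶ A} {w : α ≫ β = 0}
  (hS : (ShortComplex.mk α β w).ShortExact)

include hS

theorem m_injective {U : Over X} : Function.Injective (m α U) := by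
  have : Mono α := hS.mono_f
  exact Groth.Agent.Etdl.H432.Un.mono_injective α U

theorem exists_m {U : Over X} (b : Γs E U) (hb : m β U b = 0) : ∃ s : Γs M U, m α U s = b := by
  have : Mono α := hS.mono_f
  exact Groth.Agent.Etdl.H432.IQ.exists_of_exact w hS.exact b hb

omit hS in
theorem m_m {U : Over X} (w : α ≫ β = 0) (s : Γs M U) : m β U (m α U s) = 0 := by
  rw [← m_comp, w, m_zero]

omit hS in
/-- A natural normalised section from a lift of the universal section. -/
theorem exists_section {G : Over X} (U : Univ A G) (t : Γs E G) (ht : m β G t = U.u) :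
    ∃ σ : ∀ T : Over X, Γs A T → Γs E T, (∀ T s, m β T (σ T s) = s) ∧
      (∀ (T T' : Over X) (g : T' ⟶ T) (s : Γs A T), r E g (σ T s) = σ T' (r A g s)) ∧ ∀ T, σ T 0 = 0 := by
  have h1 : ∀ (T : Over X) (s : Γs A T), m β T (r E (U.pt s) t) = s := fun T s => by
    rw [m_r, ht, U.r_pt]
  refine ⟨fun T s => r E (U.pt s) t - r E (U.pt (0 : Γs A T)) t, fun T s => ?_, fun T T' g s => ?_, fun T => ?_⟩
  · rw [map_sub, h1, h1, sub_zero]
  · change r E g (r E (U.pt s) t - r E (U.pt (0 : Γs A T)) t) =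
      r E (U.pt (r A g s)) t - r E (U.pt (0 : Γs A T')) t
    rw [map_sub, r_r, r_r, U.pt_r]
    have : U.pt (0 : Γs A T') = g ≫ U.pt (0 : Γs A T) := by
      rw [← U.pt_r, map_zero]
    rw [this]
  · exact sub_self _

/-- The cocycle of a natural section. -/
theorem exists_cocycle (σ : ∀ T : Over X, Γs A T → Γs E T) (h1 : ∀ T s, m β T (σ T s) = s)
    (h2 : ∀ (T T' : Over X) (g : T' ⟶ T) (s : Γs A T), r E g (σ T s) = σ T' (r A g s)) (h3 : ∀ T, σ T 0 = 0) :
    ∃ c : ∀ T : Over X, Γs A T → Γs A T → Γs M T,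
      (∀ T s t, m α T (c T s t) = σ T s + σ T t - σ T (s + t)) ∧
      (∀ (T T' : Over X) (g : T' ⟶ T) (s t : Γs A T), r M g (c T s t) = c T' (r A g s) (r A g t)) ∧
      (∀ T s t v, c T t v + c T s (t + v) = c T (s + t) v + c T s t) ∧
      (∀ T s, c T s 0 = 0) ∧ (∀ T s, c T 0 s = 0) ∧ ∀ T s t, c T s t = c T t s := by
  have h4 : ∀ (T : Over X) (s t : Γs A T), ∃ x : Γs M T, m α T x = σ T s + σ T t - σ T (s + t) := fun T s t => by
    apply exists_m hS
    rw [map_sub, map_add, h1, h1, h1, sub_self]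
  choose c hc using h4
  refine ⟨c, hc, fun T T' g s t => ?_, fun T s t v => ?_, fun T s => ?_, fun T s => ?_, fun T s t => ?_⟩
  · apply m_injective hS
    rw [m_r, hc, hc, map_sub, map_add, h2, h2, h2, map_add]
  · apply m_injective hS
    rw [map_add, map_add, hc, hc, hc, hc, add_assoc s t v]
    abel
  · apply m_injective hS
    rw [hc, h3, map_zero, add_zero, add_zero, sub_self]
  · apply m_injective hS
    rw [hc, h3, map_zero, zero_add, zero_add, sub_self]
  · apply m_injective hS
    rw [hc, hc, add_comm s t]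
    abel

omit hS in
/-- If the cocycle is a coboundary then the extension splits. -/
theorem exists_split (w : α ≫ β = 0) (σ : ∀ T : Over X, Γs A T → Γs E T) (h1 : ∀ T s, m β T (σ T s) = s)
    (h2 : ∀ (T T' : Over X) (g : T' ⟶ T) (s : Γs A T), r E g (σ T s) = σ T' (r A g s))
    (c : ∀ T : Over X, Γs A T → Γs A T → Γs M T)
    (hc : ∀ T s t, m α T (c T s t) = σ T s + σ T t - σ T (s + t))
    (Φ : ∀ T : Over X, Γs A T → Γs M T)
    (h4 : ∀ (T T' : Over X) (g : T' ⟶ T) (s : Γs A T), r M g (Φ T s) = Φ T' (r A g s))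
    (h5 : ∀ T s t, Φ T (s + t) = Φ T s + Φ T t + c T s t) : ∃ γ : A ⟶ E, γ ≫ β = 𝟙 A := by
  refine ⟨ofMaps (fun T => AddMonoidHom.mk' (fun s => σ T s + m α T (Φ T s)) fun s t => ?_) fun g s => ?_, ?_⟩
  · rw [h5, map_add, map_add, hc]
    abel
  · change r E g (σ _ s + m α _ (Φ _ s)) = σ _ (r A g s) + m α _ (Φ _ (r A g s))
    rw [map_add, h2, ← m_r, h4]
  · apply hom_ext
    intro T s
    rw [m_comp, m_ofMaps]
    change m β T (σ T s + m α T (Φ T s)) = s
    rw [map_add, h1, m_m w, add_zero]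

omit hS in
/-- `Ext¹` vanishes if all extensions split. -/
theorem subsingleton_ext_one_of (A M : EtFppf.AbF X)
    (h : ∀ (E : EtFppf.AbF X) (α : M ⟶ E) (β : E ⟶ A) (w : α ≫ β = 0),
      (ShortComplex.mk α β w).ShortExact → ∃ γ : A ⟶ E, γ ≫ β = 𝟙 A) :
    Subsingleton (Abelian.Ext A M 1) := by
  have h0 : ∀ e : Abelian.Ext A M 1, e = 0 := by
    intro e
    obtain ⟨E, α, β, w, hS, rfl⟩ := Groth.Agent.Etcore.Yext.exists_extClass e
    exact (Groth.Agent.Etcore.Yext.extClass_eq_zero_iff hS).2 (h E α β w hS)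
  exact ⟨fun a b => by rw [h0 a, h0 b]⟩

end K772.ExtSplit
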