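import Groth.Prelude.Def_AlphaPn
import Groth.Prelude.Def_Red2
import Groth.Prelude.Def_CGrpSh
import Groth.Agent.SekSuwa.K831.Pts
import Groth.Agent.GaDual.K772.ExtSplit
import Groth.Agent.GaDual.K772.Lift

/-!
# Sections of `α_{p^n}` on the big fppf site of `Spec R` (helper772)

`al s : O T` for `s ∈ α_{p^n}(T)`: the functions `b` with `b ^ (p ^ n) = 0`; universal section.
-/

set_option autoImplicit false
universe u
open CategoryTheory CategoryTheory.Limits AlgebraicGeometry Opposite MonoidalCategory CartesianMonoidalCategory MonObj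

noncomputable section

namespace K772.AlphaPts

open Groth.Agent.Etdl.H432.Sec Groth.Agent.Etdl.H494.Sp

variable (p : ℕ) [Fact p.Prime] (n : ℕ) (R : Type u) [CommRing R] [CharP R p]

/-- The scheme `α_{p^n}` over `Spec R`. -/
abbrev G : Over (Spec (CommRingCat.of R)) :=
  (Spec (CommRingCat.of (AlphaPn.A p n R))).asOver (Spec (CommRingCat.of R))

/-- Its sheaf of points. -/
abbrev Al : EtFppf.AbF (Spec (CommRingCat.of R)) := CGrpSh.pts Scheme.fppfPrecoverage (G p n R)

variable {p n R}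

/-- The function attached to a point. -/
def al {T : Over (Spec (CommRingCat.of R))} (s : Γs (Al p n R) T) : O T :=
  K831.Pts.ev (Additive.toMul (ULift.down s)) (AlphaPn.x p n R)

theorem al_pow {T : Over (Spec (CommRingCat.of R))} (s : Γs (Al p n R) T) : al s ^ (p ^ n) = 0 := by
  rw [al, ← map_pow, AlphaPn.x_pow, map_zero]

omit [Fact p.Prime] [CharP R p] in
theorem ev_ext {T : Over (Spec (CommRingCat.of R))} {x y : T ⟶ G p n R}
    (h : K831.Pts.ev x (AlphaPn.x p n R) = K831.Pts.ev y (AlphaPn.x p n R)) : x = y := by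
  apply K831.Pts.ext
  let _ := (K831.Pts.str T).toAlgebra
  let fx : AlphaPn.A p n R →ₐ[R] Γ(T.left, ⊤) := ⟨K831.Pts.ev x, K831.Pts.ev_algebraMap_apply x⟩
  let fy : AlphaPn.A p n R →ₐ[R] Γ(T.left, ⊤) := ⟨K831.Pts.ev y, K831.Pts.ev_algebraMap_apply y⟩
  have h1 : fx = fy := AlphaPn.algHom_ext h
  ext b
  exact DFunLike.congr_fun h1 b

theorem al_injective {T : Over (Spec (CommRingCat.of R))} {s t : Γs (Al p n R) T} (h : al s = al t) : s = t :=
  congrArg (fun z => ULift.up (Additive.ofMul z)) (ev_ext h)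

theorem al_add {T : Over (Spec (CommRingCat.of R))} (s t : Γs (Al p n R) T) : al (s + t) = al s + al t := by
  change K831.Pts.ev (Additive.toMul (ULift.down s) * Additive.toMul (ULift.down t)) (AlphaPn.x p n R) = _
  rw [K831.Pts.ev_mul_apply, AlphaPn.comul_x, map_add, K831.Pts.ev2_tmul, K831.Pts.ev2_tmul, map_one, map_one,
    _root_.mul_one, _root_.one_mul]
  rfl

theorem al_zero {T : Over (Spec (CommRingCat.of R))} : al (0 : Γs (Al p n R) T) = 0 := by
  have h := al_add (0 : Γs (Al p n R) T) 0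
  rw [add_zero] at h
  exact (add_eq_left.1 h.symm)

theorem al_r {T T' : Over (Spec (CommRingCat.of R))} (g : T' ⟶ T) (s : Γs (Al p n R) T) :
    al (r (Al p n R) g s) = ro g (al s) :=
  K831.Pts.ev_comp_apply g _ _

theorem exists_al {T : Over (Spec (CommRingCat.of R))} (b : O T) (hb : b ^ (p ^ n) = 0) :
    ∃ s : Γs (Al p n R) T, al s = b := by
  let _ : Algebra R (O T) := (K831.Pts.str T).toAlgebra
  let f : AlphaPn.A p n R →ₐ[R] O T := AlphaPn.lift p n R b hb
  have hf : f.toRingHom.comp (algebraMap R (AlphaPn.A p n R)) = K831.Pts.str T := by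
    ext r
    exact f.commutes r
  refine ⟨ULift.up (Additive.ofMul (K831.Pts.ofEv f.toRingHom hf)), ?_⟩
  change K831.Pts.ev (K831.Pts.ofEv f.toRingHom hf) _ = b
  rw [K831.Pts.ev_ofEv]
  exact AlphaPn.lift_x b hb

/-- The universal section. -/
def univ : ExtSplit.Univ (Al p n R) (G p n R) where
  u := ULift.up (Additive.ofMul (𝟙 (G p n R)))
  pt s := Additive.toMul (ULift.down s)
  r_pt s := by
    change ULift.up (Additive.ofMul (Additive.toMul (ULift.down s) ≫ 𝟙 _)) = s
    rw [Category.comp_id]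
    rfl
  pt_r g s := rfl

section lift

variable (p n R)

/-- The structure map of `α_{p^n}`. -/
abbrev gA : Spec (CommRingCat.of (AlphaPn.A p n R)) ⟶ Spec (CommRingCat.of R) :=
  Spec.map (CommRingCat.ofHom (algebraMap R (AlphaPn.A p n R)))

omit [Fact p.Prime] [CharP R p] in
theorem G_hom : (G p n R).hom = gA p n R := rfl

omit [Fact p.Prime] [CharP R p] in
theorem sp_hom : (sp (gA p n R) (AlphaPn.A p n R)).hom = 𝟙 _ ≫ gA p n R := by
  rw [← Spec.map_id]
  rfl

/-- Comparison. -/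
def th : sp (gA p n R) (AlphaPn.A p n R) ⟶ G p n R :=
  Over.homMk (𝟙 (Spec (CommRingCat.of (AlphaPn.A p n R)))) (sp_hom p n R).symm

omit [Fact p.Prime] [CharP R p] in
theorem id_comp_sp_hom : 𝟙 (Spec (CommRingCat.of (AlphaPn.A p n R))) ≫ (sp (gA p n R) (AlphaPn.A p n R)).hom =
    (G p n R).hom := by
  rw [sp_hom]
  rfl

/-- Comparison. -/
def et : G p n R ⟶ sp (gA p n R) (AlphaPn.A p n R) :=
  Over.homMk (𝟙 (Spec (CommRingCat.of (AlphaPn.A p n R)))) (id_comp_sp_hom p n R)

omit [Fact p.Prime] [CharP R p] in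
theorem et_th : et p n R ≫ th p n R = 𝟙 _ :=
  Over.OverMorphism.ext (show 𝟙 (Spec (CommRingCat.of (AlphaPn.A p n R))) ≫
    𝟙 (Spec (CommRingCat.of (AlphaPn.A p n R))) = 𝟙 (Spec (CommRingCat.of (AlphaPn.A p n R))) from Category.comp_id _)

theorem evS_id (A : Type u) [CommRing A] (x : A) :
    K831.Pts.evS (𝟙 (Spec (CommRingCat.of A))) x = (Scheme.ΓSpecIso (CommRingCat.of A)).inv.hom x := by
  rw [K831.Pts.evS, Scheme.Hom.id_appTop]
  rfl

theorem appTop_id (A : Type u) [CommRing A] (z : Γ(Spec (CommRingCat.of A), ⊤)) :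
    (𝟙 (Spec (CommRingCat.of A)) : Spec (CommRingCat.of A) ⟶ _).appTop.hom z = z := by
  rw [Scheme.Hom.id_appTop]
  rfl

theorem al_univ_th : al (r (Al p n R) (th p n R) univ.u) = toO (gA p n R) (AlphaPn.A p n R) (AlphaPn.x p n R) := by
  rw [al_r]
  exact (appTop_id (AlphaPn.A p n R) _).trans (evS_id (AlphaPn.A p n R) _)

/-- The universal section lifts. -/
theorem exists_lift_univ {E : EtFppf.AbF (Spec (CommRingCat.of R))} {α : K771.Pts.Gm (Spec (CommRingCat.of R)) ⟶ E}
    {β : E ⟶ Al p n R} {w : α ≫ β = 0} (hS : (ShortComplex.mk α β w).ShortExact) :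
    ∃ t : Γs E (G p n R), m β _ t = univ.u := by
  let I : Ideal (AlphaPn.A p n R) := Ideal.span {AlphaPn.x p n R}
  have hI : I ≤ nilradical (AlphaPn.A p n R) := by
    rw [Ideal.span_le, Set.singleton_subset_iff]
    exact ⟨p ^ n, AlphaPn.x_pow p n R⟩
  obtain ⟨t, ht, -⟩ := Lift.exists_lift_of_nil (gA p n R) hS I hI (r (Al p n R) (th p n R) univ.u) 0 (by
    rw [map_zero]
    apply al_injective
    rw [al_zero, al_r, al_univ_th]
    have h := ev_spMap (gA p n R) (𝟙 _) (Ideal.Quotient.mkₐ (AlphaPn.A p n R) I) (AlphaPn.x p n R)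
    rw [Category.id_comp, ev_apply] at h
    rw [h, Ideal.Quotient.mkₐ_eq_mk,
      Ideal.Quotient.eq_zero_iff_mem.2 (Ideal.subset_span (Set.mem_singleton _) : AlphaPn.x p n R ∈ I), map_zero])
  refine ⟨r E (et p n R) t, ?_⟩
  rw [m_r, ht, r_r, et_th, r_id]

end lift

end K772.AlphaPts
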