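import Groth.Agent.AbSch.K453.ExtTors
import Groth.Agent.GaDual.K771.Pts
import Groth.Agent.GaDual.K771.HomEv

/-!
# Base change of extensions of `G_a` by `G_m` and local splittings (helper772)

* `isoGa`, `isoGm`: restriction of `G_a`, `G_m` to the big fppf site of `Y.left`, `Y : Over X`;
* `HasSec β T`: `β : E ⟶ G_a` has a section over `T`; `HasSec.bc`: from the base change;
* `LSplit β`: fppf-locally split; `isZero_extSh_of_LSplit`.
-/

set_option autoImplicit false
universe u
open CategoryTheory CategoryTheory.Limits AlgebraicGeometry Opposite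

noncomputable section

namespace K772.BC

open Groth.Agent.Etdl.H432.Sec K771.Pts K771 K453.Slice
open K771.HomEv (hom)

variable {X : Scheme.{u}}

section iso

variable (Y : Over X)

/-- An object over `Y.left` as an object over `X`. -/
abbrev up (W : Over Y.left) : Over X := Over.mk (W.hom ≫ Y.hom)

/-- Restriction to the big fppf site of `Y.left`. -/
abbrev rst (F : EtFppf.AbF X) : EtFppf.AbF Y.left := (restr Scheme.fppfPrecoverage Y).obj F

/-- Sections of the restriction. -/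
def sec (F : EtFppf.AbF X) (W : Over Y.left) : Γs (rst Y F) W ≃+ Γs F (up Y W) := AddEquiv.refl _

/-- Functoriality of `up`. -/
def upm {W W' : Over Y.left} (g : W' ⟶ W) : up Y W' ⟶ up Y W := Over.homMk g.left (by
  change g.left ≫ W.hom ≫ Y.hom = W'.hom ≫ Y.hom
  rw [← Category.assoc, Over.w])

theorem sec_r (F : EtFppf.AbF X) {W W' : Over Y.left} (g : W' ⟶ W) (s : Γs (rst Y F) W) :
    sec Y F W' (r (rst Y F) g s) = r F (upm Y g) (sec Y F W s) := rfl

theorem sec_m {F G : EtFppf.AbF X} (φ : F ⟶ G) (W : Over Y.left) (s : Γs (rst Y F) W) :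
    sec Y G W (m ((restr Scheme.fppfPrecoverage Y).map φ) W s) = m φ (up Y W) (sec Y F W s) := rfl

/-- Functions. -/
def oU (W : Over Y.left) : O (up Y W) ≃+* O W := RingEquiv.refl _

/-- on sections -/
def gaEquiv (W : Over Y.left) : Γs (rst Y (Ga X)) W ≃+ Γs (Ga Y.left) W where
  toFun s := gas (oU Y W (ga (sec Y (Ga X) W s)))
  invFun s := (sec Y (Ga X) W).symm (gas (U := up Y W) ((oU Y W).symm (ga s)))
  left_inv s := by
    beta_reduce
    rw [ga_gas, RingEquiv.symm_apply_apply, gas_ga, AddEquiv.symm_apply_apply]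
  right_inv s := by
    beta_reduce
    rw [AddEquiv.apply_symm_apply, ga_gas, RingEquiv.apply_symm_apply, gas_ga]
  map_add' s t := by
    rw [map_add, ga_add, map_add, gas_add]

theorem ga_gaEquiv (W : Over Y.left) (s : Γs (rst Y (Ga X)) W) :
    ga (gaEquiv Y W s) = oU Y W (ga (sec Y (Ga X) W s)) := ga_gas _

/-- on sections -/
def gmEquiv (W : Over Y.left) : Γs (rst Y (Gm X)) W ≃+ Γs (Gm Y.left) W where
  toFun s := gms (((isUnit_gm (sec Y (Gm X) W s)).map (oU Y W)).unit)
  invFun s := (sec Y (Gm X) W).symm (gms (U := up Y W) (((isUnit_gm s).map (oU Y W).symm).unit))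
  left_inv s := by
    apply (sec Y (Gm X) W).injective
    rw [AddEquiv.apply_symm_apply]
    apply gm_injective
    rw [gm_gms, IsUnit.unit_spec, gm_gms, IsUnit.unit_spec, RingEquiv.symm_apply_apply]
  right_inv s := by
    apply gm_injective
    rw [gm_gms, IsUnit.unit_spec, AddEquiv.apply_symm_apply, gm_gms, IsUnit.unit_spec, RingEquiv.apply_symm_apply]
  map_add' s t := by
    apply gm_injective
    rw [gm_add, gm_gms, gm_gms, gm_gms, IsUnit.unit_spec, IsUnit.unit_spec, IsUnit.unit_spec, map_add, gm_add, map_mul]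

theorem gm_gmEquiv (W : Over Y.left) (s : Γs (rst Y (Gm X)) W) :
    gm (gmEquiv Y W s) = oU Y W (gm (sec Y (Gm X) W s)) := gm_gms _

theorem ro_oU {W W' : Over Y.left} (g : W' ⟶ W) (x : O (up Y W)) : ro g (oU Y W x) = oU Y W' (ro (upm Y g) x) := rfl

/-- Restriction of `G_a`. -/
def isoGa : rst Y (Ga X) ≅ Ga Y.left :=
  (fullyFaithfulSheafToPresheaf _ _).preimageIso (NatIso.ofComponents (fun W => (gaEquiv Y W.unop).toAddCommGrpIso)
    (fun {W W'} g => AddCommGrpCat.ext fun s => by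
      change gaEquiv Y W'.unop (r (rst Y (Ga X)) g.unop s) = r (Ga Y.left) g.unop (gaEquiv Y W.unop s)
      apply ga_injective
      rw [ga_r, ga_gaEquiv, ga_gaEquiv, sec_r, ro_oU, ga_r]))

/-- Restriction of `G_m`. -/
def isoGm : rst Y (Gm X) ≅ Gm Y.left :=
  (fullyFaithfulSheafToPresheaf _ _).preimageIso (NatIso.ofComponents (fun W => (gmEquiv Y W.unop).toAddCommGrpIso)
    (fun {W W'} g => AddCommGrpCat.ext fun s => by
      change gmEquiv Y W'.unop (r (rst Y (Gm X)) g.unop s) = r (Gm Y.left) g.unop (gmEquiv Y W.unop s)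
      apply gm_injective
      rw [gm_r, gm_gmEquiv, gm_gmEquiv, sec_r, ro_oU, gm_r]))

theorem m_isoGa (W : Over Y.left) (s : Γs (rst Y (Ga X)) W) : m (isoGa Y).hom W s = gaEquiv Y W s := rfl

end iso

section ext

variable {E : EtFppf.AbF X} (α : Gm X ⟶ E) (β : E ⟶ Ga X) (w : α ≫ β = 0)
  (hS : (ShortComplex.mk α β w).ShortExact) (Y : Over X)

/-- Base change of `α`. -/
abbrev bα : Gm Y.left ⟶ rst Y E := (isoGm Y).inv ≫ (restr Scheme.fppfPrecoverage Y).map α

/-- Base change of `β`. -/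
abbrev bβ : rst Y E ⟶ Ga Y.left := (restr Scheme.fppfPrecoverage Y).map β ≫ (isoGa Y).hom

include w in
theorem bw : bα α Y ≫ bβ β Y = 0 := by
  rw [Category.assoc, ← Category.assoc ((restr Scheme.fppfPrecoverage Y).map α), ← Functor.map_comp, w]
  exact (congrArg (fun z => (isoGm Y).inv ≫ z ≫ (isoGa Y).hom) (Functor.map_zero _ _ _)).trans (by
    rw [zero_comp, comp_zero])

include hS in
theorem bS : (ShortComplex.mk (bα α Y) (bβ β Y) (bw α β w Y)).ShortExact := by
  refine ShortComplex.shortExact_of_iso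
    (ShortComplex.isoMk (S₁ := (ShortComplex.mk α β w).map (restr Scheme.fppfPrecoverage Y))
    (S₂ := ShortComplex.mk (bα α Y) (bβ β Y) (bw α β w Y))
    (isoGm Y) (Iso.refl _) (isoGa Y) ?_ ?_) (shortExact_restr Scheme.fppfPrecoverage Y hS)
  · change (isoGm Y).hom ≫ (isoGm Y).inv ≫ (restr Scheme.fppfPrecoverage Y).map α =
      (restr Scheme.fppfPrecoverage Y).map α ≫ 𝟙 _
    rw [Iso.hom_inv_id_assoc, Category.comp_id]
  · exact Category.id_comp _

theorem ga_bβ (W : Over Y.left) (s : Γs (rst Y E) W) :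
    ga (m (bβ β Y) W s) = oU Y W (ga (m β (up Y W) (sec Y E W s))) := by
  rw [m_comp, m_isoGa, ga_gaEquiv, sec_m]

end ext

section split

variable {E : EtFppf.AbF X} (β : E ⟶ Ga X)

/-- `β` has a section over `T`. -/
def HasSec (T : Over X) : Prop := ∃ e : Γs (hom (Ga X) E) T, ∀ (W : Over X) (k : W ⟶ T) (s : Γs (Ga X) W),
  m β W (HomEv.ev e k s) = s

variable {β}

theorem HasSec.res {T T' : Over X} (h : HasSec β T) (g : T' ⟶ T) : HasSec β T' := by
  obtain ⟨e, he⟩ := h
  refine ⟨r (hom (Ga X) E) g e, fun W k s => ?_⟩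
  rw [HomEv.ev_r, he]

/-- The comparison morphism. -/
def cmp {Y : Over X} {T' : Over Y.left} {W : Over X} (k : W ⟶ up Y T') :
    W ⟶ up Y (Over.mk (k.left ≫ T'.hom)) :=
  Over.homMk (𝟙 W.left) (by
    change 𝟙 W.left ≫ (k.left ≫ T'.hom) ≫ Y.hom = W.hom
    rw [Category.id_comp, Category.assoc]
    exact Over.w k)

theorem ro_cmp {Y : Over X} {T' : Over Y.left} {W : Over X} (k : W ⟶ up Y T')
    (z : O (up Y (Over.mk (k.left ≫ T'.hom)))) : ro (cmp k) z = (show O W from z) := by
  change (𝟙 W.left : W.left ⟶ W.left).appTop.hom z = z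
  simp

/-- Functions. -/
def oc {Y : Over X} {T' : Over Y.left} {W : Over X} (k : W ⟶ up Y T') : O W ≃+* O (Over.mk (k.left ≫ T'.hom)) :=
  RingEquiv.refl _

theorem HasSec.bc {Y : Over X} {T' : Over Y.left} (h : HasSec (bβ β Y) T') : HasSec β (up Y T') := by
  obtain ⟨e', he'⟩ := h
  let Wk : ∀ {W : Over X} (_ : W ⟶ up Y T'), Over Y.left := fun {W} k => Over.mk (k.left ≫ T'.hom)
  let k' : ∀ {W : Over X} (k : W ⟶ up Y T'), Wk k ⟶ T' := fun {W} k => Over.homMk k.left rfl
  let V : ∀ (W : Over X) (k : W ⟶ up Y T'), Γs (Ga X) W → Γs E W := fun W k s =>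
    r E (cmp k) (sec Y E (Wk k) (HomEv.ev e' (k' k) (gas (U := Wk k) (oc k (ga s)))))
  have hV : ∀ W k s, V W k s =
    r E (cmp k) (sec Y E (Wk k) (HomEv.ev e' (k' k) (gas (U := Wk k) (oc k (ga s))))) := fun _ _ _ => rfl
  have hadd : ∀ W k s t, V W k (s + t) = V W k s + V W k t := by
    intro W k s t
    rw [hV, hV, hV, ga_add, map_add, gas_add, map_add, map_add, map_add]
  have hr : ∀ (W W' : Over X) (h : W ⟶ up Y T') (k : W' ⟶ W) (x : Γs (Ga X) W),
      r E k (V W h x) = V W' (k ≫ h) (r (Ga X) k x) := by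
    intro W W' h k x
    rw [hV, hV]
    let κ : Wk (k ≫ h) ⟶ Wk h := Over.homMk k.left (Category.assoc _ _ _).symm
    have h1 : k ≫ cmp h = cmp (k ≫ h) ≫ upm Y κ := by
      ext : 1
      change k.left ≫ 𝟙 _ = 𝟙 _ ≫ k.left
      rw [Category.comp_id, Category.id_comp]
    have h2 : κ ≫ k' h = k' (k ≫ h) := by
      ext : 1
      rfl
    rw [r_r, h1, ← r_r, ← sec_r, HomEv.ev_r', h2, r_gas, ga_r]
    rfl
  refine ⟨HomEv.mk (fun W k => AddMonoidHom.mk' (V W k) (hadd W k)) hr, fun W k s => ?_⟩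
  rw [HomEv.ev_mk]
  change m β W (V W k s) = s
  apply ga_injective
  rw [hV, m_r, ga_r]
  have h1 := congrArg ga (he' (Wk k) (k' k) (gas (U := Wk k) (oc k (ga s))))
  rw [ga_bβ, ga_gas] at h1
  exact (ro_cmp k _).trans h1

variable (β) in
/-- Locally split. -/
def LSplit : Prop := ∀ x : X, ∃ T : Over X, Flat T.hom ∧ LocallyOfFinitePresentation T.hom ∧ x ∈ Set.range T.hom ∧
  HasSec β T

/-- A locally split extension is split over a covering sieve. -/
theorem LSplit.exists_sieve (h : LSplit β) : ∃ R ∈ Scheme.fppfPrecoverage.toGrothendieck X,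
    ∀ ⦃Z : Scheme.{u}⦄ (f : Z ⟶ X), R f → ∃ s : (restr Scheme.fppfPrecoverage (Over.mk f)).obj (Ga X) ⟶
      (restr Scheme.fppfPrecoverage (Over.mk f)).obj E,
        s ≫ (restr Scheme.fppfPrecoverage (Over.mk f)).map β = 𝟙 _ := by
  let R : Sieve X :=
    { arrows := fun Z f => HasSec β (Over.mk f)
      downward_closed := by
        intro Z Z' f hf g
        exact hf.res (Over.homMk g) }
  refine ⟨R, ?_, fun Z f hf => ?_⟩
  · refine K453.FppfCov.mem_fppf_iff.2 fun x => ?_
    obtain ⟨T, h1, h2, h3, h4⟩ := h x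
    exact ⟨T.left, T.hom, h4, h1, h2, h3⟩
  · obtain ⟨e, he⟩ := hf
    refine ⟨(res Scheme.fppfPrecoverage (Over.mk f)).map (show (Ga X).over (Over.mk f) ⟶ E.over (Over.mk f) from e), ?_⟩
    apply Sheaf.hom_ext
    apply NatTrans.ext
    funext W
    apply AddCommGrpCat.ext
    intro s
    exact he (up (Over.mk f) W.unop) (Over.homMk W.unop.hom rfl) s

end split

end K772.BC
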