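import Groth.Agent.GaDual.K772.ExtSplit
import Groth.Agent.GaDual.K771.HomEv

/-!
# Lifting a morphism `f : A ⟶ Q` to `E`, `0 → M → E → Q → 0`, `A` represented (helper772)

Relative version of `K772.ExtSplit`: `exists_section`, `exists_cocycle`, `exists_lift` over any object `T`.
-/

set_option autoImplicit false
universe u
open CategoryTheory CategoryTheory.Limits AlgebraicGeometry Opposite

noncomputable section

namespace K772.ExtSplit2

open Groth.Agent.Etdl.H432.Sec K772.ExtSplit K771.HomEv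

variable {X : Scheme.{u}} {M E Q A : EtFppf.AbF X} {α : M ⟶ E} {β : E ⟶ Q} {w : α ≫ β = 0}
  (hS : (ShortComplex.mk α β w).ShortExact) (f : A ⟶ Q)

/-- A natural normalised function lifting `f` from a lift of the universal value. -/
theorem exists_section {G : Over X} (U : Univ A G) (t : Γs E G) (ht : m β G t = m f G U.u) :
    ∃ σ : ∀ T : Over X, Γs A T → Γs E T, (∀ T s, m β T (σ T s) = m f T s) ∧
      (∀ (T T' : Over X) (g : T' ⟶ T) (s : Γs A T), r E g (σ T s) = σ T' (r A g s)) ∧ ∀ T, σ T 0 = 0 := by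
  have h1 : ∀ (T : Over X) (s : Γs A T), m β T (r E (U.pt s) t) = m f T s := fun T s => by
    rw [m_r, ht, ← m_r, U.r_pt]
  refine ⟨fun T s => r E (U.pt s) t - r E (U.pt (0 : Γs A T)) t, fun T s => ?_, fun T T' g s => ?_, fun T => ?_⟩
  · rw [map_sub, h1, h1, map_zero, sub_zero]
  · change r E g (r E (U.pt s) t - r E (U.pt (0 : Γs A T)) t) =
      r E (U.pt (r A g s)) t - r E (U.pt (0 : Γs A T')) t
    rw [map_sub, r_r, r_r, U.pt_r]
    have : U.pt (0 : Γs A T') = g ≫ U.pt (0 : Γs A T) := by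
      rw [← U.pt_r, map_zero]
    rw [this]
  · exact sub_self _

include hS in
/-- The cocycle of a natural function. -/
theorem exists_cocycle (σ : ∀ T : Over X, Γs A T → Γs E T) (h1 : ∀ T s, m β T (σ T s) = m f T s)
    (h2 : ∀ (T T' : Over X) (g : T' ⟶ T) (s : Γs A T), r E g (σ T s) = σ T' (r A g s)) (h3 : ∀ T, σ T 0 = 0) :
    ∃ c : ∀ T : Over X, Γs A T → Γs A T → Γs M T,
      (∀ T s t, m α T (c T s t) = σ T s + σ T t - σ T (s + t)) ∧
      (∀ (T T' : Over X) (g : T' ⟶ T) (s t : Γs A T), r M g (c T s t) = c T' (r A g s) (r A g t)) ∧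
      (∀ T s t v, c T t v + c T s (t + v) = c T (s + t) v + c T s t) ∧
      (∀ T s, c T s 0 = 0) ∧ (∀ T s, c T 0 s = 0) ∧ ∀ T s t, c T s t = c T t s := by
  have h4 : ∀ (T : Over X) (s t : Γs A T), ∃ x : Γs M T, m α T x = σ T s + σ T t - σ T (s + t) := fun T s t => by
    apply exists_m hS
    rw [map_sub, map_add, h1, h1, h1, map_add, sub_self]
  choose c hc using h4
  refine ⟨c, hc, fun T T' g s t => ?_, fun T s t v => ?_, fun T s => ?_, fun T s => ?_, fun T s t => ?_⟩
  · apply m_injective hS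
    rw [m_r, hc, hc, map_sub, map_add, h2, h2, h2, map_add]
  · apply m_injective hS
    rw [map_add, map_add, hc, hc, hc, hc, add_assoc s t v]
    abel
  · apply m_injective hS
    rw [hc, h3, map_zero, add_zero, add_zero, sub_self]
  · apply m_injective hS
    rw [hc, h3, map_zero, zero_add, zero_add, sub_self]
  · apply m_injective hS
    rw [hc, hc, add_comm s t]
    abel

/-- If the cocycle becomes a coboundary over `T` then `f` lifts over `T`. -/
theorem exists_lift (w : α ≫ β = 0) (σ : ∀ T : Over X, Γs A T → Γs E T) (h1 : ∀ T s, m β T (σ T s) = m f T s)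
    (h2 : ∀ (T T' : Over X) (g : T' ⟶ T) (s : Γs A T), r E g (σ T s) = σ T' (r A g s))
    (c : ∀ T : Over X, Γs A T → Γs A T → Γs M T)
    (hc : ∀ T s t, m α T (c T s t) = σ T s + σ T t - σ T (s + t)) (T : Over X)
    (Φ : ∀ (W : Over X) (_ : W ⟶ T), Γs A W → Γs M W)
    (h4 : ∀ (W W' : Over X) (h : W ⟶ T) (k : W' ⟶ W) (s : Γs A W), r M k (Φ W h s) = Φ W' (k ≫ h) (r A k s))
    (h5 : ∀ (W : Over X) (h : W ⟶ T) (s t : Γs A W), Φ W h (s + t) = Φ W h s + Φ W h t + c W s t) :
    ∃ e : Γs (hom A E) T, ∀ (W : Over X) (h : W ⟶ T) (s : Γs A W), m β W (ev e h s) = m f W s := by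
  refine ⟨K771.HomEv.mk (fun W h => AddMonoidHom.mk' (fun s => σ W s + m α W (Φ W h s)) fun s t => ?_)
    fun W W' h k s => ?_, fun W h s => ?_⟩
  · rw [h5, map_add, map_add, hc]
    abel
  · change r E k (σ _ s + m α _ (Φ _ h s)) = σ _ (r A k s) + m α _ (Φ _ (k ≫ h) (r A k s))
    rw [map_add, h2, ← m_r, h4]
  · rw [ev_mk]
    change m β W (σ W s + m α W (Φ W h s)) = m f W s
    rw [map_add, h1, m_m w, add_zero]

end K772.ExtSplit2
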