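import Groth.Agent.GaDual.K772.BC

/-!
# `𝓔xt¹(G_a, G_m) = 0` from local splittings of extensions over affine schemes (helper772)
-/

set_option autoImplicit false
universe u
open CategoryTheory CategoryTheory.Limits AlgebraicGeometry Opposite

noncomputable section

namespace K772.BC

open Groth.Agent.Etdl.H432.Sec K771.Pts K771 K453.Slice
open K771.HomEv (hom)

/-- Local splittings over affine schemes. -/
theorem isZero_extSh_of_LSplit (S : Scheme.{u})
    (h : ∀ (Y : Over S) (_ : IsAffine Y.left) (E : EtFppf.AbF Y.left) (α : Gm Y.left ⟶ E) (β : E ⟶ Ga Y.left)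
      (w : α ≫ β = 0) (_ : (ShortComplex.mk α β w).ShortExact), LSplit β) :
    IsZero ((HomSh.extSh (QuotSh.J Scheme.fppfPrecoverage S) (CGrpSh2.Ga Scheme.fppfPrecoverage S) 1).obj
      (CGrpSh2.Gm Scheme.fppfPrecoverage S)) := by
  refine K453.ExtTors.isZero_extSh_of_affine (Red.Ga S) (Red.Gm S) fun Y hY E i p w hE => ?_
  let jm : CGrpSh.pts Scheme.fppfPrecoverage (Red.bc Y.hom (Red.Gm S)) ≅ Gm Y.left :=
    (ptsIso Scheme.fppfPrecoverage Y (Red.Gm S)).symm ≪≫ isoGm Y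
  let ja : CGrpSh.pts Scheme.fppfPrecoverage (Red.bc Y.hom (Red.Ga S)) ≅ Ga Y.left :=
    (ptsIso Scheme.fppfPrecoverage Y (Red.Ga S)).symm ≪≫ isoGa Y
  have w' : (jm.inv ≫ i) ≫ p ≫ ja.hom = 0 := by
    rw [Category.assoc, ← Category.assoc i, w, zero_comp, comp_zero]
  have hS : (ShortComplex.mk (jm.inv ≫ i) (p ≫ ja.hom) w').ShortExact := by
    refine ShortComplex.shortExact_of_iso (ShortComplex.isoMk (S₁ := ShortComplex.mk i p w)
      (S₂ := ShortComplex.mk (jm.inv ≫ i) (p ≫ ja.hom) w') jm (Iso.refl _) ja ?_ ?_) hE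
    · change jm.hom ≫ jm.inv ≫ i = i ≫ 𝟙 _
      rw [Iso.hom_inv_id_assoc, Category.comp_id]
    · exact Category.id_comp _
  obtain ⟨R, hR, hs⟩ := (h Y hY E _ _ w' hS).exists_sieve
  refine ⟨R, hR, fun Z f hf => ?_⟩
  obtain ⟨s, hs⟩ := hs f hf
  refine ⟨(restr Scheme.fppfPrecoverage (Over.mk f)).map ja.hom ≫ s, ?_⟩
  rw [← cancel_mono ((restr Scheme.fppfPrecoverage (Over.mk f)).map ja.hom), Category.id_comp, Category.assoc,
    Category.assoc, ← Functor.map_comp, hs, Category.comp_id]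

end K772.BC
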