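import Groth.Agent.GaDual.K772.Lift

/-!
# Lifting over algebras over the base (helper772)

`g : Spec B ⟶ X`, `0 → Gm → E → Q → 0`, `q ∈ Q(Spec B)`, `t ∈ E(Spec C)` a lift, `u` its unit cocycle.

* `exists_lift_of_unit`: if `u` becomes the coboundary of a unit of `B' ⊗[B] C` then `q` lifts over `Spec B'`.
* `exists_lift_of_surjective_nil`: lifting along a surjection of `B`-algebras with nil kernel.
-/

set_option autoImplicit false
universe u
open CategoryTheory CategoryTheory.Limits AlgebraicGeometry Opposite TensorProduct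

noncomputable section

namespace K772.Lift

open Groth.Agent.Etdl.H432.Sec Groth.Agent.Etdl.H494.Sp K771.Pts Groth.Agent.Sga4h

variable {X : Scheme.{u}} {B : Type u} [CommRing B] (g : Spec (CommRingCat.of B) ⟶ X)

section pair

variable (B' : Type u) [CommRing B'] [Algebra B B'] (C : Type u) [CommRing C] [Algebra B C]

/-- `id ⊗ iL`. -/
abbrev jL : B' ⊗[B] C →ₐ[B] B' ⊗[B] (C ⊗[B] C) :=
  Algebra.TensorProduct.map (AlgHom.id B B') (iL (B := B) (C := C))

/-- `id ⊗ iR`. -/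
abbrev jR : B' ⊗[B] C →ₐ[B] B' ⊗[B] (C ⊗[B] C) :=
  Algebra.TensorProduct.map (AlgHom.id B B') (iR (B := B) (C := C))

variable {B' C}

/-- Pairs of maps to `Spec (B' ⊗ C)` over `Spec B'`. -/
theorem exists_pair' {T : Over X} (a b : T ⟶ sp g (B' ⊗[B] C))
    (hab : a ≫ spMap g (Algebra.TensorProduct.includeLeft : B' →ₐ[B] B' ⊗[B] C) =
      b ≫ spMap g (Algebra.TensorProduct.includeLeft : B' →ₐ[B] B' ⊗[B] C)) :
    ∃ h : T ⟶ sp g (B' ⊗[B] (C ⊗[B] C)), h ≫ spMap g (jL B' C) = a ∧ h ≫ spMap g (jR B' C) = b := by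
  let τ : T ⟶ sp g B := a ≫ spMap g (Algebra.ofId B _)
  let _ : Algebra B Γ(T.left, ⊤) := (ev g τ).toAlgebra
  let a' : B' ⊗[B] C →ₐ[B] Γ(T.left, ⊤) :=
    { ev g a with
      commutes' := fun r => (ev_spMap g a (Algebra.ofId B _) r).symm }
  have hτ : τ = b ≫ spMap g (Algebra.ofId B _) := by
    have e : (Algebra.ofId B (B' ⊗[B] C)) =
        (Algebra.TensorProduct.includeLeft : B' →ₐ[B] B' ⊗[B] C).comp (Algebra.ofId B B') := by ext
    change a ≫ spMap g (Algebra.ofId B _) = _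
    rw [e, spMap_comp, ← Category.assoc, hab, Category.assoc]
  let b' : B' ⊗[B] C →ₐ[B] Γ(T.left, ⊤) :=
    { ev g b with
      commutes' := fun r => by
        refine ((ev_spMap g b (Algebra.ofId B _) r).symm).trans ?_
        rw [← hτ]
        rfl }
  have hab' : ∀ z : B', a' (z ⊗ₜ 1) = b' (z ⊗ₜ 1) := by
    intro z
    have h1 := ev_spMap g a (Algebra.TensorProduct.includeLeft : B' →ₐ[B] B' ⊗[B] C) z
    have h2 := ev_spMap g b (Algebra.TensorProduct.includeLeft : B' →ₐ[B] B' ⊗[B] C) z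
    rw [hab] at h1
    exact h1.symm.trans h2
  let ρ : B' ⊗[B] (C ⊗[B] C) →ₐ[B] Γ(T.left, ⊤) :=
    Algebra.TensorProduct.lift (a'.comp Algebra.TensorProduct.includeLeft)
      (Algebra.TensorProduct.lift (a'.comp Algebra.TensorProduct.includeRight)
        (b'.comp Algebra.TensorProduct.includeRight) (fun _ _ => Commute.all _ _)) (fun _ _ => Commute.all _ _)
  obtain ⟨h, hh⟩ := exists_hom g τ ρ.toRingHom (fun b => ρ.commutes b)
  have e1 : ρ.comp (jL B' C) = a' := by
    apply Algebra.TensorProduct.ext'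
    intro z c
    change ρ (z ⊗ₜ (c ⊗ₜ 1)) = a' (z ⊗ₜ c)
    change a' (z ⊗ₜ 1) * (a' (1 ⊗ₜ c) * b' (1 ⊗ₜ 1)) = _
    rw [← Algebra.TensorProduct.one_def, map_one, mul_one, ← map_mul, Algebra.TensorProduct.tmul_mul_tmul, one_mul,
      mul_one]
  have e2 : ρ.comp (jR B' C) = b' := by
    apply Algebra.TensorProduct.ext'
    intro z c
    change ρ (z ⊗ₜ (1 ⊗ₜ c)) = b' (z ⊗ₜ c)
    change a' (z ⊗ₜ 1) * (a' (1 ⊗ₜ 1) * b' (1 ⊗ₜ c)) = _
    rw [← Algebra.TensorProduct.one_def, map_one, one_mul, hab', ← map_mul, Algebra.TensorProduct.tmul_mul_tmul,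
      one_mul, mul_one]
  refine ⟨h, ?_, ?_⟩
  · apply hom_ext_ev
    intro r
    rw [ev_spMap, hh]
    exact DFunLike.congr_fun e1 r
  · apply hom_ext_ev
    intro r
    rw [ev_spMap, hh]
    exact DFunLike.congr_fun e2 r

end pair

section lift

variable {E Q : EtFppf.AbF X} {α : Gm X ⟶ E} {β : E ⟶ Q} {w : α ≫ β = 0} (hS : (ShortComplex.mk α β w).ShortExact)
  {C : Type u} [CommRing C] [Algebra B C] [Module.FaithfullyFlat B C] [Algebra.FinitePresentation B C]
  {B' : Type u} [CommRing B'] [Algebra B B']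

include hS in
/-- If the cocycle of a lift becomes a coboundary over `B'` then the section lifts over `Spec B'`. -/
theorem exists_lift_of_unit (q : Γs Q (sp g B)) (t : Γs E (sp g C))
    (ht : m β _ t = r Q (spMap g (Algebra.ofId B C)) q)
    (d : Γs (Gm X) (sp g (C ⊗[B] C))) (hd : m α _ d = r E (spMap g iR) t - r E (spMap g iL) t)
    (v : B' ⊗[B] C) (hv : IsUnit v)
    (huv : (1 : B') ⊗ₜ[B] gmr g d * jL B' C v = jR B' C v) :
    ∃ t' : Γs E (sp g B'), m β _ t' = r Q (spMap g (Algebra.ofId B B')) q := by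
  obtain ⟨s, hs⟩ := exists_gmr (X := X) g hv
  let φ : C →ₐ[B] B' ⊗[B] C := Algebra.TensorProduct.includeRight
  let ψ : B' →ₐ[B] B' ⊗[B] C := Algebra.TensorProduct.includeLeft
  let φ₂ : C ⊗[B] C →ₐ[B] B' ⊗[B] (C ⊗[B] C) := Algebra.TensorProduct.includeRight
  let t₁ : Γs E (sp g (B' ⊗[B] C)) := r E (spMap g φ) t - m α _ s
  have e1 : (jL B' C).comp φ = φ₂.comp iL := by ext c; simp [φ₂, φ]
  have e2 : (jR B' C).comp φ = φ₂.comp iR := by ext c; simp [φ₂, φ]
  have h0 : r (Gm X) (spMap g φ₂) d + r (Gm X) (spMap g (jL B' C)) s = r (Gm X) (spMap g (jR B' C)) s := by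
    apply gmr_injective g
    rw [gmr_add, gmr_map, gmr_map, gmr_map, hs]
    exact huv
  have h1 : r E (spMap g (jL B' C)) t₁ = r E (spMap g (jR B' C)) t₁ := by
    have h2 := congrArg (m α _) h0
    rw [map_add, m_r, m_r, m_r, hd, map_sub, r_spMap, r_spMap] at h2
    rw [map_sub, map_sub, r_spMap, r_spMap, e1, e2, ← h2]
    abel
  have hcov : IsCov (fun _ : PUnit.{1} => spMap g ψ) := by
    apply isCov_of_ff
    · have h1 : (algebraMap B' (B' ⊗[B] C)).FaithfullyFlat :=
        RingHom.faithfullyFlat_algebraMap_iff.2 inferInstance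
      exact h1
    · have h1 : (algebraMap B' (B' ⊗[B] C)).FinitePresentation :=
        RingHom.finitePresentation_algebraMap.2 inferInstance
      exact h1
  obtain ⟨t', ht'⟩ := glue E hcov (fun _ => t₁) (fun _ _ Z a b hab => by
    obtain ⟨h, rfl, rfl⟩ := exists_pair' g a b hab
    rw [← r_r, ← r_r, h1])
  refine ⟨t', sep Q hcov _ _ fun i => ?_⟩
  have e3 : ψ.comp (Algebra.ofId B B') = φ.comp (Algebra.ofId B C) := by ext
  rw [← m_r, ht' i, map_sub, m_m _ w, sub_zero, m_r, ht, r_spMap, r_spMap, e3]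

end lift

section nil

variable {R : Type u} [CommRing R] [Algebra B R] {R' : Type u} [CommRing R'] [Algebra B R'] [Algebra R R']
  [IsScalarTower B R R']

/-- The base map of `Spec R`. -/
abbrev gR (R : Type u) [CommRing R] [Algebra B R] : Spec (CommRingCat.of R) ⟶ X :=
  Spec.map (CommRingCat.ofHom (algebraMap B R)) ≫ g

theorem rebase_aux : Spec.map (CommRingCat.ofHom (algebraMap R R')) ≫ gR g R =
    Spec.map (CommRingCat.ofHom (algebraMap B R')) ≫ g := by
  rw [← Category.assoc, ← Spec.map_comp, ← CommRingCat.ofHom_comp, ← IsScalarTower.algebraMap_eq]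

/-- Change of base ring. -/
def rb : sp (gR g R) R' ⟶ sp g R' := Over.homMk (𝟙 (Spec (CommRingCat.of R'))) (by
  change 𝟙 (Spec (CommRingCat.of R')) ≫ Spec.map (CommRingCat.ofHom (algebraMap B R')) ≫ g =
    Spec.map (CommRingCat.ofHom (algebraMap R R')) ≫ gR g R
  rw [rebase_aux, Category.id_comp])

/-- Change of base ring. -/
def rb' : sp g R' ⟶ sp (gR g R) R' := Over.homMk (𝟙 (Spec (CommRingCat.of R'))) (by
  change 𝟙 (Spec (CommRingCat.of R')) ≫ Spec.map (CommRingCat.ofHom (algebraMap R R')) ≫ gR g R =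
    Spec.map (CommRingCat.ofHom (algebraMap B R')) ≫ g
  rw [rebase_aux, Category.id_comp])

theorem rb'_rb : rb' g (R := R) (R' := R') ≫ rb g = 𝟙 _ :=
  Over.OverMorphism.ext (show 𝟙 (Spec (CommRingCat.of R')) ≫ 𝟙 (Spec (CommRingCat.of R')) =
    𝟙 (Spec (CommRingCat.of R')) from Category.comp_id _)

theorem rb_spMap {R'' : Type u} [CommRing R''] [Algebra B R''] [Algebra R R''] [IsScalarTower B R R'']
    (ψ : R' →ₐ[R] R'') : rb g (R := R) (R' := R'') ≫ spMap g (ψ.restrictScalars B) =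
      spMap (gR g R) ψ ≫ rb g (R := R) (R' := R') :=
  Over.OverMorphism.ext (show 𝟙 (Spec (CommRingCat.of R'')) ≫ Spec.map (CommRingCat.ofHom ψ.toRingHom) =
    Spec.map (CommRingCat.ofHom ψ.toRingHom) ≫ 𝟙 (Spec (CommRingCat.of R')) by
      rw [Category.comp_id, Category.id_comp])

end nil

section nil2

variable {E Q : EtFppf.AbF X} {α : Gm X ⟶ E} {β : E ⟶ Q} {w : α ≫ β = 0} (hS : (ShortComplex.mk α β w).ShortExact)
  {R : Type u} [CommRing R] [Algebra B R] {R' : Type u} [CommRing R'] [Algebra B R']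

include hS in
/-- Lifting along a surjection of `B`-algebras with nil kernel. -/
theorem exists_lift_of_surjective_nil (ψ : R →ₐ[B] R') (hψ : Function.Surjective ψ)
    (hk : ∀ x, ψ x = 0 → IsNilpotent x) (q : Γs Q (sp g R)) (t₀ : Γs E (sp g R'))
    (ht₀ : m β _ t₀ = r Q (spMap g ψ) q) : ∃ t : Γs E (sp g R), m β _ t = q := by
  let I : Ideal R := RingHom.ker ψ
  let e : (R ⧸ I) ≃ₐ[B] R' := Ideal.quotientKerAlgEquivOfSurjective hψ
  have he : (e.symm : R' →ₐ[B] R ⧸ I).comp ψ = (Ideal.Quotient.mkₐ R I).restrictScalars B := by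
    apply AlgHom.ext
    intro x
    apply e.injective
    change e (e.symm (ψ x)) = e (Ideal.Quotient.mk I x)
    rw [AlgEquiv.apply_symm_apply]
    rfl
  obtain ⟨t, ht, -⟩ := exists_lift_of_nil (gR g R) hS I (fun x hx => hk x hx) (r Q (rb g (R := R) (R' := R)) q)
    (r E (rb g (R := R) (R' := R ⧸ I)) (r E (spMap g (e.symm : R' →ₐ[B] R ⧸ I)) t₀)) (by
      rw [m_r, m_r, ht₀, r_spMap, he, r_r, r_r, rb_spMap])
  refine ⟨r E (rb' g (R := R) (R' := R)) t, ?_⟩
  rw [m_r, ht, r_r, rb'_rb, r_id]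

end nil2

end K772.Lift
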