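import Groth.Prelude.Def_FrobAlg
import Groth.Prelude.Def_Frob
import Groth.Agent.GaDual.K772.Roots
import Mathlib.RingTheory.Flat.Basic
import Mathlib.RingTheory.TensorProduct.Maps

/-!
# From `A ^ (1/p)` to reductions of covers (helper772)

`A` of characteristic `p`, `P = A ^ (1/p)` (the Frobenius twist as an `A`-algebra), `C`, `D` flat `A`-algebras,
`φL φR : C → D`, `u : D`.

* `exists_radic`: if `w ∈ (C ⊗ P)ˣ` satisfies `(u ⊗ 1) φL(w) = φR(w)` then there are a faithfully flat finitely presented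
  `A`-algebra `A'` and a unit of `C ⊗ (A' / nil)` with the same property.
-/

set_option autoImplicit false
universe u
open TensorProduct

noncomputable section

namespace K772.Radic

variable (p : ℕ) [hp : Fact p.Prime]

/-- Additivity of the `p`-th power. -/
theorem add_pow' {R : Type u} [CommRing R] (h : (p : R) = 0) (x y : R) : (x + y) ^ p = x ^ p + y ^ p :=
  (FrobSch.powHom p R h).map_add x y

theorem pow_inj {R : Type u} [CommRing R] [IsReduced R] (h : (p : R) = 0) {x y : R} (hxy : x ^ p = y ^ p) : x = y := by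
  have h1 : (x - y) ^ p = 0 := by
    have := (FrobSch.powHom p R h).map_sub x y
    rw [FrobSch.powHom_apply, FrobSch.powHom_apply, FrobSch.powHom_apply, hxy, sub_self] at this
    exact this
  exact sub_eq_zero.1 (IsReduced.eq_zero _ ⟨p, h1⟩)

variable (A : Type u) [CommRing A] [CharP A p]

/-- `A ^ (1/p)` as an `A`-algebra. -/
abbrev P : Type u := FrobAlg.Twist p A

omit hp in
theorem cast_zero (R : Type u) [CommRing R] [Algebra A R] : (p : R) = 0 := by
  rw [← map_natCast (algebraMap A R), CharP.cast_eq_zero, map_zero]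

section sub

variable (R : Type u) [CommRing R] [Algebra A R]

/-- The elements of `A ^ (1/p)` whose `p`-th powers have `p`-th roots in `R`. -/
def P₁ : Subalgebra A (P p A) where
  carrier := {b | ∃ s : R, s ^ p = algebraMap A R ((FrobAlg.toTwist p A).symm b)}
  mul_mem' := by
    rintro b b' ⟨s, hs⟩ ⟨s', hs'⟩
    exact ⟨s * s', by rw [mul_pow, hs, hs', map_mul, map_mul]⟩
  add_mem' := by
    rintro b b' ⟨s, hs⟩ ⟨s', hs'⟩
    exact ⟨s + s', by rw [add_pow' p (cast_zero p A R), hs, hs', map_add, map_add]⟩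
  algebraMap_mem' := fun a => ⟨algebraMap A R a, by
    rw [FrobAlg.algebraMap_twist, RingEquiv.symm_apply_apply, map_pow]⟩

theorem mem_P₁ (b : P p A) : b ∈ P₁ p A R ↔ ∃ s : R, s ^ p = algebraMap A R ((FrobAlg.toTwist p A).symm b) := Iff.rfl

variable [IsReduced R]

/-- The `p`-th root. -/
def ψ : P₁ p A R →ₐ[A] R where
  toFun b := b.2.choose
  map_one' := by
    apply pow_inj p (cast_zero p A R)
    rw [(1 : P₁ p A R).2.choose_spec]
    rw [OneMemClass.coe_one, map_one, map_one, one_pow]
  map_mul' b b' := by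
    apply pow_inj p (cast_zero p A R)
    rw [mul_pow, (b * b').2.choose_spec, b.2.choose_spec, b'.2.choose_spec]
    rw [MulMemClass.coe_mul, map_mul, map_mul]
  map_zero' := by
    apply pow_inj p (cast_zero p A R)
    rw [(0 : P₁ p A R).2.choose_spec]
    rw [ZeroMemClass.coe_zero, map_zero, map_zero, zero_pow hp.out.ne_zero]
  map_add' b b' := by
    apply pow_inj p (cast_zero p A R)
    rw [add_pow' p (cast_zero p A R), (b + b').2.choose_spec, b.2.choose_spec, b'.2.choose_spec]
    rw [AddMemClass.coe_add, map_add, map_add]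
  commutes' a := by
    apply pow_inj p (cast_zero p A R)
    rw [(algebraMap A (P₁ p A R) a).2.choose_spec]
    rw [Subalgebra.coe_algebraMap, FrobAlg.algebraMap_twist, RingEquiv.symm_apply_apply, map_pow]

end sub

variable {A}

section finset

variable {C : Type u} [CommRing C] [Algebra A C] {B : Type u} [CommRing B] [Algebra A B]

/-- Elements of a tensor product come from small subalgebras. -/
theorem exists_finset (z : C ⊗[A] B) : ∃ F : Finset B, ∀ B₁ : Subalgebra A B, (∀ b ∈ F, b ∈ B₁) →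
    ∃ z₁ : C ⊗[A] B₁, Algebra.TensorProduct.map (AlgHom.id A C) B₁.val z₁ = z := by
  classical
  induction z with
  | zero => exact ⟨∅, fun B₁ _ => ⟨0, map_zero _⟩⟩
  | add a b ha hb =>
    obtain ⟨F, hF⟩ := ha
    obtain ⟨G, hG⟩ := hb
    refine ⟨F ∪ G, fun B₁ h => ?_⟩
    obtain ⟨z₁, rfl⟩ := hF B₁ (fun b hb => h b (Finset.mem_union_left _ hb))
    obtain ⟨z₂, rfl⟩ := hG B₁ (fun b hb => h b (Finset.mem_union_right _ hb))
    exact ⟨z₁ + z₂, map_add _ _ _⟩
  | tmul c b =>
    refine ⟨{b}, fun B₁ h => ⟨c ⊗ₜ ⟨b, h b (Finset.mem_singleton_self b)⟩, ?_⟩⟩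
    rw [Algebra.TensorProduct.map_tmul]
    rfl

theorem map_injective (C : Type u) [CommRing C] [Algebra A C] [Module.Flat A C] (B₁ : Subalgebra A B) :
    Function.Injective (Algebra.TensorProduct.map (AlgHom.id A C) B₁.val) :=
  Module.Flat.lTensor_preserves_injective_linearMap (M := C) B₁.val.toLinearMap Subtype.val_injective

end finset

variable {C : Type u} [CommRing C] [Algebra A C] {D : Type u} [CommRing D] [Algebra A D]

theorem map_map {B B' : Type u} [CommRing B] [Algebra A B] [CommRing B'] [Algebra A B']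
    (φ : C →ₐ[A] D) (χ : B →ₐ[A] B') (z : C ⊗[A] B) :
    Algebra.TensorProduct.map φ (AlgHom.id A B') (Algebra.TensorProduct.map (AlgHom.id A C) χ z) =
      Algebra.TensorProduct.map (AlgHom.id A D) χ (Algebra.TensorProduct.map φ (AlgHom.id A B) z) := by
  induction z with
  | zero => simp
  | add a b ha hb => rw [map_add, map_add, ha, hb, map_add, map_add]
  | tmul c b => simp

/-- **From `A ^ (1/p)` to the reduction of a cover.** -/
theorem exists_radic [Module.Flat A C] [Module.Flat A D] (φL φR : C →ₐ[A] D) (u : D) (w : C ⊗[A] P p A)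
    (hw : IsUnit w)
    (h : (u ⊗ₜ[A] (1 : P p A)) * Algebra.TensorProduct.map φL (AlgHom.id A (P p A)) w =
      Algebra.TensorProduct.map φR (AlgHom.id A (P p A)) w) :
    ∃ (A' : Type u) (_ : CommRing A') (_ : Algebra A A') (_ : Module.FaithfullyFlat A A')
      (_ : Algebra.FinitePresentation A A') (w' : C ⊗[A] (A' ⧸ nilradical A')), IsUnit w' ∧
      (u ⊗ₜ[A] (1 : A' ⧸ nilradical A')) * Algebra.TensorProduct.map φL (AlgHom.id A (A' ⧸ nilradical A')) w' =
        Algebra.TensorProduct.map φR (AlgHom.id A (A' ⧸ nilradical A')) w' := by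
  classical
  obtain ⟨v, hv⟩ := hw.exists_right_inv
  obtain ⟨F, hF⟩ := exists_finset w
  obtain ⟨G, hG⟩ := exists_finset v
  obtain ⟨A', _, _, _, _, hA'⟩ := Roots.exists_roots p hp.out.ne_zero A
    ((F ∪ G).image (FrobAlg.toTwist p A).symm)
  have : IsReduced (A' ⧸ nilradical A') :=
    (Ideal.isRadical_iff_quotient_reduced _).1 (Ideal.radical_isRadical _)
  let B₁ := P₁ p A (A' ⧸ nilradical A')
  have hmem : ∀ b ∈ F ∪ G, b ∈ B₁ := by
    intro b hb
    obtain ⟨s, hs⟩ := hA' _ (Finset.mem_image_of_mem _ hb)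
    refine ⟨Ideal.Quotient.mk _ s, ?_⟩
    rw [← map_pow, hs]
    rfl
  obtain ⟨w₁, hw₁⟩ := hF B₁ (fun b hb => hmem b (Finset.mem_union_left _ hb))
  obtain ⟨v₁, hv₁⟩ := hG B₁ (fun b hb => hmem b (Finset.mem_union_right _ hb))
  have hwv : w₁ * v₁ = 1 := by
    apply map_injective C B₁
    rw [map_mul, hw₁, hv₁, hv, map_one]
  have hw1 : IsUnit w₁ := IsUnit.of_mul_eq_one _ hwv
  have h1 : (u ⊗ₜ[A] (1 : B₁)) * Algebra.TensorProduct.map φL (AlgHom.id A B₁) w₁ =
      Algebra.TensorProduct.map φR (AlgHom.id A B₁) w₁ := by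
    apply map_injective D B₁
    rw [map_mul, ← map_map, ← map_map, hw₁, Algebra.TensorProduct.map_tmul, map_one]
    exact h
  refine ⟨A', inferInstance, inferInstance, inferInstance, inferInstance,
    Algebra.TensorProduct.map (AlgHom.id A C) (ψ p A (A' ⧸ nilradical A')) w₁, hw1.map _, ?_⟩
  rw [map_map, map_map, ← h1, map_mul, Algebra.TensorProduct.map_tmul, map_one, AlgHom.id_apply]

end K772.Radic
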