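import Groth.Agent.GaDual.K772.Lift2
import Groth.Agent.GaDual.K772.Radic
import Mathlib.LinearAlgebra.TensorProduct.RightExactness

/-!
# From a lift over `B ⊗ A ^ (1/p)` to a lift over a cover of `A` (helper772)

`A` of characteristic `p`, `B` flat over `A`, `g : Spec B ⟶ X`, `0 → Gm → E → Q → 0` exact over `X`.

* `exists_lift_radic`: if `q ∈ Q(Spec B)` lifts over `Spec (B ⊗[A] A ^ (1/p))` then it lifts over `Spec (B ⊗[A] A')` for
  some faithfully flat finitely presented `A`-algebra `A'`.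
-/

set_option autoImplicit false
universe u
open CategoryTheory CategoryTheory.Limits AlgebraicGeometry Opposite TensorProduct

noncomputable section

namespace K772.RadicLift

open Groth.Agent.Etdl.H432.Sec Groth.Agent.Etdl.H494.Sp K771.Pts Groth.Agent.Sga4h K772.Lift

section algebra

variable (A : Type u) [CommRing A] (B : Type u) [CommRing B] [Algebra A B] (R : Type u) [CommRing R] [Algebra A R]
  (C : Type u) [CommRing C] [Algebra B C] [Algebra A C] [IsScalarTower A B C]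

/-- `c ⊗ r ↦ (1 ⊗ r) ⊗ c`. -/
def Θ : C ⊗[A] R →ₐ[A] (B ⊗[A] R) ⊗[B] C :=
  Algebra.TensorProduct.lift
    ((Algebra.TensorProduct.includeRight : C →ₐ[B] (B ⊗[A] R) ⊗[B] C).restrictScalars A)
    ((Algebra.TensorProduct.includeLeft : (B ⊗[A] R) →ₐ[A] (B ⊗[A] R) ⊗[B] C).comp
      Algebra.TensorProduct.includeRight) (fun _ _ => Commute.all _ _)

theorem Θ_tmul (c : C) (r : R) : Θ A B R C (c ⊗ₜ r) = (1 ⊗ₜ r) ⊗ₜ c := by
  rw [Θ, Algebra.TensorProduct.lift_tmul]
  change ((1 : B ⊗[A] R) ⊗ₜ[B] c) * (((1 : B) ⊗ₜ[A] r) ⊗ₜ[B] (1 : C)) = _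
  rw [Algebra.TensorProduct.tmul_mul_tmul, one_mul, mul_one]

theorem jL_Θ (z : C ⊗[A] R) : jL (B ⊗[A] R) C (Θ A B R C z) =
    Θ A B R (C ⊗[B] C) (Algebra.TensorProduct.map ((iL (B := B) (C := C)).restrictScalars A) (AlgHom.id A R) z) := by
  induction z with
  | zero => simp only [map_zero]
  | add a b ha hb => simp only [map_add, ha, hb]
  | tmul c r =>
    rw [Θ_tmul, Algebra.TensorProduct.map_tmul, Algebra.TensorProduct.map_tmul, Θ_tmul]
    rfl

theorem jR_Θ (z : C ⊗[A] R) : jR (B ⊗[A] R) C (Θ A B R C z) =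
    Θ A B R (C ⊗[B] C) (Algebra.TensorProduct.map ((iR (B := B) (C := C)).restrictScalars A) (AlgHom.id A R) z) := by
  induction z with
  | zero => simp only [map_zero]
  | add a b ha hb => simp only [map_add, ha, hb]
  | tmul c r =>
    rw [Θ_tmul, Algebra.TensorProduct.map_tmul, Algebra.TensorProduct.map_tmul, Θ_tmul]
    rfl

/-- `B ⊗ A' → B ⊗ (A' / nil)`. -/
def redMap : B ⊗[A] R →ₐ[B] B ⊗[A] (R ⧸ nilradical R) :=
  Algebra.TensorProduct.map (AlgHom.id B B) (Ideal.Quotient.mkₐ A (nilradical R))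

theorem redMap_surjective : Function.Surjective (redMap A B R) := by
  have h := LinearMap.lTensor_surjective B (g := (Ideal.Quotient.mkₐ A (nilradical R)).toLinearMap)
    (Ideal.Quotient.mkₐ_surjective A (nilradical R))
  exact h

theorem isNilpotent_of_redMap (x : B ⊗[A] R) (hx : redMap A B R x = 0) : IsNilpotent x := by
  have h1 := Algebra.TensorProduct.lTensor_ker (A := B) (Ideal.Quotient.mkₐ A (nilradical R))
    (Ideal.Quotient.mkₐ_surjective A (nilradical R))
  have h2 : x ∈ RingHom.ker (Algebra.TensorProduct.map (AlgHom.id A B) (Ideal.Quotient.mkₐ A (nilradical R))) := hx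
  rw [h1] at h2
  have h3 : (RingHom.ker (Ideal.Quotient.mkₐ A (nilradical R))).map
      (Algebra.TensorProduct.includeRight : R →ₐ[A] B ⊗[A] R) ≤ nilradical (B ⊗[A] R) := by
    rw [Ideal.map_le_iff_le_comap]
    intro y hy
    have h4 : y ∈ nilradical R := by
      have h5 : Ideal.Quotient.mk (nilradical R) y = 0 := hy
      exact Ideal.Quotient.eq_zero_iff_mem.1 h5
    have h6 : IsNilpotent y := h4
    exact h6.map (Algebra.TensorProduct.includeRight : R →ₐ[A] B ⊗[A] R)
  exact h3 h2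

end algebra

section main

variable (p : ℕ) [hp : Fact p.Prime] {A : Type u} [CommRing A] [CharP A p]
  {B : Type u} [CommRing B] [Algebra A B] [Module.Flat A B] {X : Scheme.{u}} (g : Spec (CommRingCat.of B) ⟶ X)
  {E Q : EtFppf.AbF X} {α : Gm X ⟶ E} {β : E ⟶ Q} {w : α ≫ β = 0} (hS : (ShortComplex.mk α β w).ShortExact)

omit [Module.Flat A B] in
include hS in
/-- The unit `w ∈ C ⊗ A ^ (1/p)`. -/
theorem exists_unit {C : Type u} [CommRing C] [Algebra B C] [Algebra A C] [IsScalarTower A B C]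
    {P : Type u} [CommRing P] [Algebra A P]
    (q : Γs Q (sp g B)) (t : Γs E (sp g C)) (ht : m β _ t = r Q (spMap g (Algebra.ofId B C)) q)
    (d : Γs (Gm X) (sp g (C ⊗[B] C))) (hd : m α _ d = r E (spMap g iR) t - r E (spMap g iL) t)
    (eP : Γs E (sp g (B ⊗[A] P))) (heP : m β _ eP = r Q (spMap g (Algebra.ofId B (B ⊗[A] P))) q) :
    ∃ z : C ⊗[A] P, IsUnit z ∧ (gmr g d ⊗ₜ[A] (1 : P)) *
      Algebra.TensorProduct.map (iL (B := B) (C := C)) (AlgHom.id A P) z =
        Algebra.TensorProduct.map (iR (B := B) (C := C)) (AlgHom.id A P) z := by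
  let ι : C →ₐ[B] C ⊗[A] P := Algebra.TensorProduct.includeLeft
  let κ : B ⊗[A] P →ₐ[B] C ⊗[A] P := Algebra.TensorProduct.map (Algebra.ofId B C) (AlgHom.id A P)
  let ι₂ : C ⊗[B] C →ₐ[B] (C ⊗[B] C) ⊗[A] P := Algebra.TensorProduct.includeLeft
  let ΦL : C ⊗[A] P →ₐ[B] (C ⊗[B] C) ⊗[A] P := Algebra.TensorProduct.map iL (AlgHom.id A P)
  let ΦR : C ⊗[A] P →ₐ[B] (C ⊗[B] C) ⊗[A] P := Algebra.TensorProduct.map iR (AlgHom.id A P)
  have e1 : ι.comp (Algebra.ofId B C) = κ.comp (Algebra.ofId B (B ⊗[A] P)) := by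
    ext
  have e2 : ΦL.comp ι = ι₂.comp iL := by
    apply AlgHom.ext
    intro c
    change ΦL (c ⊗ₜ 1) = (iL (B := B) c) ⊗ₜ 1
    rw [Algebra.TensorProduct.map_tmul, map_one]
  have e3 : ΦR.comp ι = ι₂.comp iR := by
    apply AlgHom.ext
    intro c
    change ΦR (c ⊗ₜ 1) = (iR (B := B) c) ⊗ₜ 1
    rw [Algebra.TensorProduct.map_tmul, map_one]
  have e4 : ΦL.comp κ = ΦR.comp κ := by
    apply AlgHom.ext
    intro z
    change ΦL (κ z) = ΦR (κ z)
    induction z with
    | zero => simp only [map_zero]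
    | add a b ha hb => simp only [map_add, ha, hb]
    | tmul b x =>
      change ΦL ((Algebra.ofId B C b) ⊗ₜ x) = ΦR ((Algebra.ofId B C b) ⊗ₜ x)
      change (iL (Algebra.ofId B C b)) ⊗ₜ x = (iR (Algebra.ofId B C b)) ⊗ₜ x
      have : (iL (B := B) (C := C)) (Algebra.ofId B C b) = iR (Algebra.ofId B C b) :=
        (AlgHom.commutes _ _).trans (AlgHom.commutes _ _).symm
      rw [this]
  obtain ⟨s, hs⟩ := exists_m hS (r E (spMap g ι) t - r E (spMap g κ) eP) (by
    rw [map_sub, m_r, m_r, ht, heP, r_spMap, r_spMap, e1, sub_self])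
  refine ⟨gmr g s, isUnit_gmr g s, ?_⟩
  have h1 : r (Gm X) (spMap g ι₂) d + r (Gm X) (spMap g ΦL) s = r (Gm X) (spMap g ΦR) s := by
    apply m_injective hS
    rw [map_add, m_r, m_r, m_r, hd, hs, map_sub, map_sub, map_sub]
    simp only [r_spMap]
    rw [e2, e3, e4]
    abel
  have h2 := congrArg (gmr g) h1
  rw [gmr_add, gmr_map, gmr_map, gmr_map] at h2
  exact h2

include hS in
/-- **From a lift over `A ^ (1/p)` to a lift over a cover.** -/
theorem exists_lift_radic (q : Γs Q (sp g B)) (eP : Γs E (sp g (B ⊗[A] Radic.P p A)))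
    (heP : m β _ eP = r Q (spMap g (Algebra.ofId B (B ⊗[A] Radic.P p A))) q) :
    ∃ (A' : Type u) (_ : CommRing A') (_ : Algebra A A') (_ : Module.FaithfullyFlat A A')
      (_ : Algebra.FinitePresentation A A') (t : Γs E (sp g (B ⊗[A] A'))),
      m β _ t = r Q (spMap g (Algebra.ofId B (B ⊗[A] A'))) q := by
  have : Epi β := hS.epi_g
  obtain ⟨C, _, _, _, _, t, ht⟩ := Sig.exists_lift_ff g β q
  obtain ⟨d, hd, -⟩ := exists_coc g hS q t ht
  let _ : Algebra A C := ((algebraMap B C).comp (algebraMap A B)).toAlgebra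
  have : IsScalarTower A B C := IsScalarTower.of_algebraMap_eq fun _ => rfl
  obtain ⟨z, hz, hz'⟩ := exists_unit g hS q t ht d hd eP heP
  have : Module.Flat B C := Module.FaithfullyFlat.toFlat
  have : Module.Flat A C := Module.Flat.trans A B C
  have : Module.Flat A (C ⊗[B] C) := Module.Flat.trans A B (C ⊗[B] C)
  obtain ⟨A', _, _, _, _, z', hzu, hz₂⟩ := Radic.exists_radic p ((iL (B := B) (C := C)).restrictScalars A)
    ((iR (B := B) (C := C)).restrictScalars A) (gmr g d) z hz hz'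
  obtain ⟨t', ht'⟩ := exists_lift_of_unit g hS q t ht d hd (B' := B ⊗[A] (A' ⧸ nilradical A'))
    (Θ A B _ C z') (hzu.map _) (by
      rw [jL_Θ, jR_Θ, ← hz₂, map_mul]
      congr 1
      exact (Θ_tmul A B (A' ⧸ nilradical A') (C ⊗[B] C) (gmr g d) 1).symm)
  obtain ⟨t₂, ht₂⟩ := exists_lift_of_surjective_nil g hS (redMap A B A') (redMap_surjective A B A')
    (isNilpotent_of_redMap A B A') (r Q (spMap g (Algebra.ofId B (B ⊗[A] A'))) q) t' (by
      rw [ht', r_spMap]
      congr 2)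
  exact ⟨A', inferInstance, inferInstance, inferInstance, inferInstance, t₂, ht₂⟩

end main

end K772.RadicLift
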