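import Groth.Agent.Etdl.H494.Sp
import Groth.Agent.Etdl.H771.Geom
import Groth.Agent.GaDual.K771.AffLocal

/-!
# Disjoint unions and single affine coverings on the big fppf site (helper772)

* `sg V`, `inj`, `desc`: disjoint unions in `Over X`; `exists_glue`.
* `exists_lift_affine`: over an affine `T` a section of the target of an epimorphism of abelian fppf sheaves lifts
  over one affine, flat, finitely presented surjective `W ⟶ T`.
* `exists_lift_ff`: ring form.
-/

set_option autoImplicit false
universe u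
open CategoryTheory CategoryTheory.Limits AlgebraicGeometry Opposite

noncomputable section

namespace K772.Sig

open Groth.Agent.Etdl.H432.Sec

variable {X : Scheme.{u}}

section

variable {ι : Type u} (V : ι → Over X)

/-- Disjoint union. -/
def sg : Over X := Over.mk (Sigma.desc fun i => (V i).hom)

/-- The inclusion. -/
def inj (i : ι) : V i ⟶ sg V := Over.homMk (Sigma.ι (fun i => (V i).left) i) (Sigma.ι_desc _ _)

/-- Maps out of the disjoint union. -/
def desc {T : Over X} (g : ∀ i, V i ⟶ T) : sg V ⟶ T := Over.homMk (Sigma.desc fun i => (g i).left) (by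
  refine Sigma.hom_ext _ _ fun i => ?_
  exact (Sigma.ι_desc_assoc (f := fun i => (V i).left) (fun i => (g i).left) i T.hom).trans
    ((Over.w (g i)).trans (Sigma.ι_desc (f := fun i => (V i).left) (fun i => (V i).hom) i).symm))

@[reassoc]
theorem inj_desc {T : Over X} (g : ∀ i, V i ⟶ T) (i : ι) : inj V i ≫ desc V g = g i := by
  ext : 1
  exact Sigma.ι_desc _ _

theorem exists_inj (x : (sg V).left) : ∃ (i : ι) (y : (V i).left), (inj V i).left y = x := by
  obtain ⟨⟨i, y⟩, rfl⟩ := (sigmaMk (fun i => (V i).left)).surjective x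
  exact ⟨i, y, (sigmaMk_mk (fun i => (V i).left) i y).symm⟩

instance (i : ι) : IsOpenImmersion (inj V i).left :=
  inferInstanceAs (IsOpenImmersion (Sigma.ι (fun i => (V i).left) i))

theorem isCov_inj : IsCov (inj V) := by
  intro x
  obtain ⟨i, y, hy⟩ := exists_inj V x
  exact ⟨i, inferInstance, inferInstance, y, hy⟩

theorem eq_of_isEmpty (F : EtFppf.AbF X) {Z : Over X} (hZ : IsEmpty Z.left) (s t : Γs F Z) : s = t :=
  sep F (ι := PEmpty.{1}) (V := fun i => i.elim) (g := fun i => i.elim) (fun x => (hZ.false x).elim) s t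
    fun i => i.elim

theorem exists_glue (F : EtFppf.AbF X) (s : ∀ i, Γs F (V i)) : ∃ t : Γs F (sg V), ∀ i, r F (inj V i) t = s i := by
  refine glue F (isCov_inj V) s fun i j Z a b hab => ?_
  by_cases h : i = j
  · subst h
    have hm : Mono (inj V i) := by
      have : Mono (inj V i).left := inferInstance
      exact Over.mono_of_mono_left _
    rw [(cancel_mono (inj V i)).1 hab]
  · have hZ : IsEmpty Z.left := isEmpty_of_commSq_sigmaι_of_ne (g := fun i => (V i).left) (a := a.left) (b := b.left)
      ⟨congrArg (fun k => k.left) hab⟩ h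
    exact eq_of_isEmpty F hZ _ _

end

/-- One affine covering. -/
theorem exists_affine_refine {T : Over X} [CompactSpace T.left] {R : Sieve T} (hR : R ∈ EtFppf.J X T) :
    ∃ (ι : Type u) (V : ι → Over X) (g : ∀ i, V i ⟶ T), Finite ι ∧ (∀ i, IsAffine (V i).left) ∧ (∀ i, R (g i)) ∧
      (∀ i, Flat (g i).left) ∧ (∀ i, LocallyOfFinitePresentation (g i).left) ∧
        ∀ x : T.left, ∃ i, x ∈ Set.range (g i).left := by
  choose Y g h1 h2 h3 h4 h5 using fun x => Groth.Agent.Etdl.H771.Geom.exists_affine hR x
  obtain ⟨t, ht⟩ := isCompact_univ.elim_finite_subcover (fun x => Set.range (g x).left)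
    (fun x => (g x).left.isOpenMap.isOpen_range) (fun x _ => Set.mem_iUnion.2 ⟨x, h5 x⟩)
  refine ⟨ULift.{u} t, fun i => Y i.down, fun i => g i.down, inferInstance, fun i => h4 _, fun i => h1 _,
    fun i => h2 _, fun i => h3 _, fun x => ?_⟩
  obtain ⟨y, hy⟩ := Set.mem_iUnion.1 (ht (Set.mem_univ x))
  obtain ⟨hyt, hy⟩ := Set.mem_iUnion.1 hy
  exact ⟨⟨⟨y, hyt⟩⟩, hy⟩

/-- Lifting over one affine covering. -/
theorem exists_lift_affine {E Q : EtFppf.AbF X} (β : E ⟶ Q) [Epi β] {T : Over X} [CompactSpace T.left]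
    (q : Γs Q T) : ∃ (W : Over X) (g : W ⟶ T) (t : Γs E W), IsAffine W.left ∧ Flat g.left ∧
      LocallyOfFinitePresentation g.left ∧ Surjective g.left ∧ m β W t = r Q g q := by
  have hp : Sheaf.IsLocallySurjective β := by
    rw [Sheaf.isLocallySurjective_iff_epi']
    infer_instance
  obtain ⟨ι, V, g, hι, hV, hs, hf, hl, hc⟩ := exists_affine_refine (Presheaf.imageSieve_mem (EtFppf.J X) β.hom q)
  choose s hs using hs
  obtain ⟨t, ht⟩ := exists_glue V E s
  refine ⟨sg V, desc V g, t, ?_, ?_, ?_, ?_, ?_⟩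
  · change IsAffine (∐ fun i => (V i).left)
    infer_instance
  · change Flat (Sigma.desc fun i => (g i).left)
    rw [IsZariskiLocalAtSource.iff_of_openCover (P := @Flat) (sigmaOpenCover (fun i => (V i).left))]
    intro i
    have : (sigmaOpenCover (fun i => (V i).left)).f i ≫ Sigma.desc (fun i => (g i).left) = (g i).left :=
      Sigma.ι_desc _ _
    rw [this]
    exact hf i
  · change LocallyOfFinitePresentation (Sigma.desc fun i => (g i).left)
    rw [IsZariskiLocalAtSource.iff_of_openCover (P := @LocallyOfFinitePresentation)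
      (sigmaOpenCover (fun i => (V i).left))]
    intro i
    have : (sigmaOpenCover (fun i => (V i).left)).f i ≫ Sigma.desc (fun i => (g i).left) = (g i).left :=
      Sigma.ι_desc _ _
    rw [this]
    exact hl i
  · refine ⟨fun x => ?_⟩
    obtain ⟨i, y, hy⟩ := hc x
    refine ⟨(inj V i).left y, ?_⟩
    rw [← hy, ← Scheme.Hom.comp_apply, ← Over.comp_left, inj_desc]
  · refine sep Q (isCov_inj V) _ _ fun i => ?_
    rw [← m_r, ht, r_r, inj_desc]
    exact hs i

open Groth.Agent.Etdl.H494.Sp TensorProduct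

variable {B : Type u} [CommRing B] (g : Spec (CommRingCat.of B) ⟶ X)

/-- Lifting over one faithfully flat finitely presented algebra. -/
theorem exists_lift_ff {E Q : EtFppf.AbF X} (β : E ⟶ Q) [Epi β] (q : Γs Q (sp g B)) :
    ∃ (C : Type u) (_ : CommRing C) (_ : Algebra B C) (_ : Module.FaithfullyFlat B C)
      (_ : Algebra.FinitePresentation B C) (t : Γs E (sp g C)), m β _ t = r Q (spMap g (Algebra.ofId B C)) q := by
  have : CompactSpace (sp g B).left := inferInstanceAs (CompactSpace (Spec (CommRingCat.of B)))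
  obtain ⟨W, h, t, hW, hf, hl, hs, ht⟩ := exists_lift_affine β q
  let φ : CommRingCat.of B ⟶ Γ(W.left, ⊤) := (Scheme.ΓSpecIso (CommRingCat.of B)).inv ≫ h.left.appTop
  have e1 : W.left.isoSpec.inv ≫ h.left = Spec.map φ := by
    have : IsAffine (sp g B).left := inferInstanceAs (IsAffine (Spec (CommRingCat.of B)))
    have h1 := Scheme.isoSpec_inv_naturality h.left
    change Spec.map h.left.appTop ≫ (Spec (CommRingCat.of B)).isoSpec.inv = W.left.isoSpec.inv ≫ h.left at h1
    rw [← h1, Scheme.isoSpec_Spec_inv]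
    exact (Spec.map_comp _ _).symm
  let _ : Algebra B Γ(W.left, ⊤) := φ.hom.toAlgebra
  have hfl : Flat (Spec.map φ) := by rw [← e1]; infer_instance
  have hlf : LocallyOfFinitePresentation (Spec.map φ) := by rw [← e1]; infer_instance
  have hsu : Surjective (Spec.map φ) := by
    rw [← e1]
    have : Surjective h.left := hs
    infer_instance
  have hff : φ.hom.FaithfullyFlat := by
    rw [RingHom.FaithfullyFlat.iff_flat_and_comap_surjective]
    exact ⟨(HasRingHomProperty.Spec_iff (P := @Flat)).1 hfl, hsu.1⟩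
  have hfp : φ.hom.FinitePresentation := (HasRingHomProperty.Spec_iff (P := @LocallyOfFinitePresentation)).1 hlf
  let k : sp g Γ(W.left, ⊤) ⟶ W := Over.homMk W.left.isoSpec.inv (by
    change W.left.isoSpec.inv ≫ W.hom = Spec.map φ ≫ g
    rw [← Over.w h, ← e1, Category.assoc]
    congr 2
    change Spec.map (𝟙 _) ≫ g = g
    rw [Spec.map_id, Category.id_comp])
  refine ⟨Γ(W.left, ⊤), inferInstance, inferInstance, (RingHom.faithfullyFlat_algebraMap_iff).1 hff, hfp,
    r E k t, ?_⟩
  rw [m_r, ht, r_r]
  refine r_congr Q ?_ q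
  ext : 1
  exact e1

end K772.Sig
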